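import Mathlib
import Groth.Agent.CohDescent.LocalHomeoFree
import Groth.Agent.SiteCohomology.CompactSep

/-!
Families of germs along compact subsets with separated points, and softness.
-/

set_option autoImplicit false
universe u

open CategoryTheory CategoryTheory.Limits Opposite TopologicalSpace
open Groth.SiteCohomology
open Groth.Agent.CohDescent (gm gm_res gm_eq gm_map gm_surjective sect_ext exists_glue_germs res_res tau tau_gm bijective_tau pb)

namespace Groth.Agent.CohTopBC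

variable {X T : TopCat.{u}}

/-- A family of germs along a subset which is locally given by sections. -/
def LocRep (G : CohTop.Ab X) (A : Set X) (a : ∀ z ∈ A, (sfib z).obj G) : Prop :=
  ∀ z ∈ A, ∃ (U : Opens X) (s : G.obj.obj (op U)), z ∈ U ∧
    ∀ z' (hz' : z' ∈ A) (hU : z' ∈ U), gm G z' U hU s = a z' hz'

lemma locRep_section (G : CohTop.Ab X) {U : Opens X} {A : Set X} (h : A ⊆ U) (s : G.obj.obj (op U)) :
    LocRep G A (fun z hz => gm G z U (h hz) s) :=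
  fun _ hz => ⟨U, s, h hz, fun _ _ _ => rfl⟩

lemma locRep_mono {G : CohTop.Ab X} {A B : Set X} {a : ∀ z ∈ A, (sfib z).obj G} (ha : LocRep G A a)
    (h : B ⊆ A) : LocRep G B (fun z hz => a z (h hz)) := fun z hz => by
  obtain ⟨U, s, hzU, hs⟩ := ha z (h hz)
  exact ⟨U, s, hzU, fun z' hz' hU => hs z' (h hz') hU⟩

/-- Induction on closed subsets of a compact set with separated points. -/
theorem compact_closed_induction {K : Set X} (hK : IsCompact K)
    (hsep : ∀ x ∈ K, ∀ y ∈ K, x ≠ y → ∃ U V : Set X, IsOpen U ∧ IsOpen V ∧ x ∈ U ∧ y ∈ V ∧ Disjoint U V)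
    (P : Set K → Prop)
    (hloc : ∀ k : K, ∃ O : Set X, IsOpen O ∧ k.1 ∈ O ∧ ∀ C : Set K, IsClosed C → C ⊆ Subtype.val ⁻¹' O → P C)
    (hunion : ∀ A B : Set K, IsClosed A → IsClosed B → P A → P B → P (A ∪ B))
    (hempty : P ∅) : P Set.univ := by
  haveI := isCompact_iff_compactSpace.1 hK
  haveI : T2Space K := ⟨fun x y hxy => by
    obtain ⟨U, V, hU, hV, hxU, hyV, hd⟩ := hsep x.1 x.2 y.1 y.2 fun e => hxy (Subtype.ext e)
    exact ⟨_, _, hU.preimage continuous_subtype_val, hV.preimage continuous_subtype_val, hxU, hyV, hd.preimage _⟩⟩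
  refine (isCompact_univ (X := K)).induction_on (p := fun S : Set K => ∀ C, IsClosed C → C ⊆ closure S → P C)
    (fun C _ hC => ?_) (fun S S' h hS' C hC hCS => hS' C hC (hCS.trans (closure_mono h)))
    (fun S S' hS hS' C hC hCS => ?_) (fun k _ => ?_) _ isClosed_univ subset_closure
  · rw [show C = ∅ from Set.subset_empty_iff.1 (by simpa using hC)]
    exact hempty
  · rw [closure_union] at hCS
    rw [show C = C ∩ closure S ∪ C ∩ closure S' by rw [← Set.inter_union_distrib_left]; exact (Set.inter_eq_left.2 hCS).symm]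
    exact hunion _ _ (hC.inter isClosed_closure) (hC.inter isClosed_closure)
      (hS _ (hC.inter isClosed_closure) Set.inter_subset_right)
      (hS' _ (hC.inter isClosed_closure) Set.inter_subset_right)
  · obtain ⟨O, hO, hkO, h⟩ := hloc k
    obtain ⟨N, hN, hNc, hNO⟩ := exists_mem_nhds_isClosed_subset ((hO.preimage continuous_subtype_val).mem_nhds hkO)
    exact ⟨N, mem_nhdsWithin_of_mem_nhds hN, fun C hC hCS => h C hC (hCS.trans ((hNc.closure_subset).trans hNO))⟩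

/-- Two sections gluing where their germs agree. -/
theorem exists_glue_pair (G : CohTop.Ab X) {U V : Opens X} (s : G.obj.obj (op U)) (t : G.obj.obj (op V))
    (h : ∀ z (hU : z ∈ U) (hV : z ∈ V), gm G z U hU s = gm G z V hV t) :
    ∃ r : G.obj.obj (op (U ⊔ V)), (∀ z (hz : z ∈ U), gm G z (U ⊔ V) (Or.inl hz) r = gm G z U hz s) ∧
      ∀ z (hz : z ∈ V), gm G z (U ⊔ V) (Or.inr hz) r = gm G z V hz t := by
  classical
  let a : ∀ z ∈ U ⊔ V, (sfib z).obj G := fun z hz =>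
    if hzU : z ∈ U then gm G z U hzU s else gm G z V (hz.resolve_left hzU) t
  obtain ⟨r, hr⟩ := exists_glue_germs G (U ⊔ V) a fun z hz => by
    by_cases hzU : z ∈ U
    · exact ⟨U, le_sup_left, hzU, s, fun w hw => by simp [a, hw]⟩
    · refine ⟨V, le_sup_right, hz.resolve_left hzU, t, fun w hw => ?_⟩
      by_cases hwU : w ∈ U
      · simp only [a, dif_pos hwU]
        exact (h w hwU hw).symm
      · simp only [a, dif_neg hwU]
  refine ⟨r, fun z hz => (hr z (Or.inl hz)).trans (dif_pos hz), fun z hz => (hr z (Or.inr hz)).trans ?_⟩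
  by_cases hzU : z ∈ U
  · exact (dif_pos hzU).trans (h z hzU hz)
  · exact dif_neg hzU

/-- Two sections near two closed pieces, agreeing on their intersection, glue near their union. -/
theorem exists_glue_near {K : Set X} (hK : IsCompact K)
    (hsep : ∀ x ∈ K, ∀ y ∈ K, x ≠ y → ∃ U V : Set X, IsOpen U ∧ IsOpen V ∧ x ∈ U ∧ y ∈ V ∧ Disjoint U V)
    (G : CohTop.Ab X) {A B : Set K} (hA : IsClosed A) (hB : IsClosed B) {U V : Opens X}
    (hAU : A ⊆ Subtype.val ⁻¹' U) (hBV : B ⊆ Subtype.val ⁻¹' V) (s : G.obj.obj (op U)) (t : G.obj.obj (op V))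
    (h : ∀ z (hzA : z ∈ A) (hzB : z ∈ B), gm G z.1 U (hAU hzA) s = gm G z.1 V (hBV hzB) t) :
    ∃ (W : Opens X) (hW : A ∪ B ⊆ Subtype.val ⁻¹' W) (r : G.obj.obj (op W)),
      (∀ z (hzA : z ∈ A), gm G z.1 W (hW (Or.inl hzA)) r = gm G z.1 U (hAU hzA) s) ∧
      ∀ z (hzB : z ∈ B), gm G z.1 W (hW (Or.inr hzB)) r = gm G z.1 V (hBV hzB) t := by
  let E : Set X := {z | ∃ (hU : z ∈ U) (hV : z ∈ V), gm G z U hU s = gm G z V hV t}
  have hE : IsOpen E := isOpen_iff_forall_mem_open.2 fun z ⟨hU, hV, e⟩ => by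
    rw [← gm_res G z (inf_le_left : U ⊓ V ≤ U) ⟨hU, hV⟩, ← gm_res G z (inf_le_right : U ⊓ V ≤ V) ⟨hU, hV⟩] at e
    obtain ⟨N, hN, hzN, e'⟩ := gm_eq G z _ _ _ e
    refine ⟨N, fun w hw => ⟨(hN hw).1, (hN hw).2, ?_⟩, N.2, hzN⟩
    rw [← gm_res G w (inf_le_left : U ⊓ V ≤ U) (hN hw), ← gm_res G w (inf_le_right : U ⊓ V ≤ V) (hN hw),
      ← gm_res G w hN hw, ← gm_res G w hN hw]
    exact congrArg _ e'
  obtain ⟨U', V', hU', hV', hAU', hBV', hUV⟩ := exists_open_inter_subset hK hsep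
    (A := Subtype.val '' A) (B := Subtype.val '' B) (W := E) (Subtype.coe_image_subset _ _)
    (Subtype.coe_image_subset _ _) (by rwa [Set.preimage_image_eq _ Subtype.val_injective])
    (by rwa [Set.preimage_image_eq _ Subtype.val_injective]) hE
    (by
      rintro _ ⟨⟨z, hz, rfl⟩, ⟨z', hz', e⟩⟩
      obtain rfl := Subtype.ext e
      exact ⟨hAU hz, hBV hz', h _ hz hz'⟩)
  let U₁ : Opens X := U ⊓ ⟨U', hU'⟩
  let V₁ : Opens X := V ⊓ ⟨V', hV'⟩
  obtain ⟨r, hr1, hr2⟩ := exists_glue_pair G (U := U₁) (V := V₁) (G.obj.map (homOfLE inf_le_left).op s)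
    (G.obj.map (homOfLE inf_le_left).op t) fun z hzU hzV => by
      obtain ⟨_, _, e⟩ := hUV ⟨hzU.2, hzV.2⟩
      rw [gm_res, gm_res]
      exact e
  refine ⟨U₁ ⊔ V₁, fun z hz => hz.elim (fun h => Or.inl ⟨hAU h, hAU' ⟨z, h, rfl⟩⟩)
    (fun h => Or.inr ⟨hBV h, hBV' ⟨z, h, rfl⟩⟩), r, fun z hz => ?_, fun z hz => ?_⟩
  · exact (hr1 z.1 ⟨hAU hz, hAU' ⟨z, hz, rfl⟩⟩).trans (gm_res G z.1 inf_le_left _ _)
  · exact (hr2 z.1 ⟨hBV hz, hBV' ⟨z, hz, rfl⟩⟩).trans (gm_res G z.1 inf_le_left _ _)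

/-- A family of germs along a compact set with separated points extends to a neighbourhood. -/
theorem exists_extend {K : Set X} (hK : IsCompact K)
    (hsep : ∀ x ∈ K, ∀ y ∈ K, x ≠ y → ∃ U V : Set X, IsOpen U ∧ IsOpen V ∧ x ∈ U ∧ y ∈ V ∧ Disjoint U V)
    (G : CohTop.Ab X) (a : ∀ z ∈ K, (sfib z).obj G) (ha : LocRep G K a) :
    ∃ (U : Opens X) (hU : K ⊆ U) (s : G.obj.obj (op U)), ∀ z (hz : z ∈ K), gm G z U (hU hz) s = a z hz := by
  obtain ⟨U, hU, s, hs⟩ := compact_closed_induction hK hsep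
    (fun C => ∃ (U : Opens X) (hU : C ⊆ Subtype.val ⁻¹' U) (s : G.obj.obj (op U)),
      ∀ z (hz : z ∈ C), gm G z.1 U (hU hz) s = a z.1 z.2)
    (fun k => by
      obtain ⟨U, s, hkU, hs⟩ := ha k.1 k.2
      exact ⟨U, U.2, hkU, fun C _ hC => ⟨U, hC, s, fun z hz => hs z.1 z.2 (hC hz)⟩⟩)
    (fun A B hA hB ⟨U, hU, s, hs⟩ ⟨V, hV, t, ht⟩ => by
      obtain ⟨W, hW, r, hr1, hr2⟩ := exists_glue_near hK hsep G hA hB hU hV s t
        fun z h h' => (hs z h).trans (ht z h').symm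
      exact ⟨W, hW, r, fun z hz => hz.elim (fun h => (hr1 z h).trans (hs z h)) (fun h => (hr2 z h).trans (ht z h))⟩)
    ⟨⊥, Set.empty_subset _, 0, fun z hz => hz.elim⟩
  exact ⟨U, fun z hz => hU (Set.mem_univ ⟨z, hz⟩), s, fun z hz => hs ⟨z, hz⟩ (Set.mem_univ _)⟩

section Pull

variable (i : T ⟶ X)

/-- A section of an inverse image is locally the pullback of a section. -/
theorem exists_rep_pull (hi : Topology.IsInducing i) (F : CohTop.Ab X) {N : Opens T}
    (r : ((CohTop.pull i).obj F).obj.obj (op N)) (y : T) (hy : y ∈ N) :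
    ∃ (O : Opens X) (hO : (Opens.map i).obj O ≤ N) (s : F.obj.obj (op O)), i y ∈ O ∧
      ∀ z (hz : i z ∈ O), tau i rfl F (gm F (i z) O hz s) = gm _ z N (hO hz) r := by
  obtain ⟨a, ha⟩ := (bijective_tau i F (rfl : i y = i y)).2 (gm _ y N hy r)
  obtain ⟨O₁, hy₁, s, rfl⟩ := gm_surjective F (i y) a
  rw [tau_gm, ← gm_res _ _ (inf_le_left : (Opens.map i).obj O₁ ⊓ N ≤ _) ⟨hy₁, hy⟩,
    ← gm_res _ _ (inf_le_right : (Opens.map i).obj O₁ ⊓ N ≤ N) ⟨hy₁, hy⟩ r] at ha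
  obtain ⟨M, hM, hyM, e⟩ := gm_eq _ _ _ _ _ ha
  obtain ⟨B, hB, hBM⟩ := hi.isOpen_iff.1 M.2
  have hBM' : ∀ z, i z ∈ B → z ∈ M := fun z hz => (Set.ext_iff.1 hBM z).1 hz
  refine ⟨O₁ ⊓ ⟨B, hB⟩, fun z hz => (hM (hBM' z hz.2)).2, F.obj.map (homOfLE inf_le_left).op s,
    ⟨hy₁, (Set.ext_iff.1 hBM y).2 hyM⟩, fun z hz => ?_⟩
  have hzM : z ∈ M := hBM' z hz.2
  rw [gm_res, tau_gm]
  refine (gm_res _ _ (hM.trans inf_le_left) hzM _).symm.trans (Eq.trans ?_ (gm_res _ _ (hM.trans inf_le_right) hzM _))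
  exact congrArg _ (((res_res _ _ _ _ _).symm.trans e).trans (res_res _ _ _ _ _))

variable {i}

/-- A locally given family of germs of an inverse image along an embedding descends. -/
theorem exists_locRep_down (hi : Topology.IsEmbedding i) (F : CohTop.Ab X) {A : Set T}
    (a : ∀ z ∈ A, (sfib z).obj ((CohTop.pull i).obj F)) (ha : LocRep _ A a) :
    ∃ b : ∀ x ∈ i '' A, (sfib x).obj F, LocRep F (i '' A) b ∧
      ∀ z (hz : z ∈ A), tau i rfl F (b (i z) ⟨z, hz, rfl⟩) = a z hz := by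
  have key : ∀ x ∈ i '' A, ∃ b : (sfib x).obj F, ∀ z (hz : z ∈ A) (e : i z = x), tau i e F b = a z hz := by
    rintro _ ⟨z, hz, rfl⟩
    obtain ⟨b, hb⟩ := (bijective_tau i F (rfl : i z = i z)).2 (a z hz)
    refine ⟨b, fun z' hz' e => ?_⟩
    obtain rfl := hi.injective e
    exact hb
  choose b hb using key
  refine ⟨b, ?_, fun z hz => hb _ ⟨z, hz, rfl⟩ z hz rfl⟩
  rintro _ ⟨z, hz, rfl⟩
  obtain ⟨N, r, hzN, hr⟩ := ha z hz
  obtain ⟨O, hO, s, hzO, hs⟩ := exists_rep_pull i hi.isInducing F r z hzN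
  refine ⟨O, s, hzO, fun x hx hxO => (?_ : _)⟩
  obtain ⟨w, hw, rfl⟩ := hx
  exact (bijective_tau i F rfl).1 ((hs w hxO).trans ((hr w hw (hO hxO)).trans (hb _ ⟨w, hw, rfl⟩ w hw rfl).symm))

end Pull

/-- Every locally given family of germs along a closed set comes from a global section. -/
def IsSoftSh (G : CohTop.Ab X) : Prop :=
  ∀ (A : Set X), IsClosed A → ∀ (a : ∀ z ∈ A, (sfib z).obj G), LocRep G A a →
    ∃ s : G.obj.obj (op ⊤), ∀ z (hz : z ∈ A), gm G z ⊤ trivial s = a z hz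

/-- The inverse image of a flasque sheaf on a compact subset with separated points is soft. -/
theorem isSoftSh_pull_flasque (i : T ⟶ X) (hi : Topology.IsEmbedding i) [CompactSpace T]
    (hsep : ∀ x y : T, x ≠ y → ∃ U V : Set X, IsOpen U ∧ IsOpen V ∧ i x ∈ U ∧ i y ∈ V ∧ Disjoint U V)
    (F : CohTop.Ab X) [TopCat.Sheaf.IsFlasque F] : IsSoftSh ((CohTop.pull i).obj F) := by
  intro A hA a ha
  obtain ⟨b, hb, hab⟩ := exists_locRep_down hi F a ha
  obtain ⟨U, hU, s, hs⟩ := exists_extend (hA.isCompact.image i.hom.continuous) (by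
    rintro _ ⟨x, -, rfl⟩ _ ⟨y, -, rfl⟩ hne
    exact hsep x y fun e => hne (congrArg i e)) F b hb
  obtain ⟨S, hS⟩ := (isFlasque_iff_surjective F).1 ‹_› (homOfLE (le_top : U ≤ ⊤)) s
  refine ⟨pb i F ⊤ S, fun z hz => ?_⟩
  rw [← hab z hz, ← hs (i z) ⟨z, hz, rfl⟩, ← hS, gm_res]
  exact (tau_gm i F rfl ⊤ trivial S).symm

end Groth.Agent.CohTopBC
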