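import Mathlib
import Groth.Agent.CohTopBC.Germs
import Groth.Agent.SiteCohomology.AcyclicResolution
import Groth.Agent.SiteCohomology.DimensionShift

/-!
Soft sheaves on compact Hausdorff spaces are acyclic; derived sections along a compact subset.
-/

set_option autoImplicit false
universe u

open CategoryTheory CategoryTheory.Limits Opposite TopologicalSpace
open CategoryTheory.Abelian
open Groth.SiteCohomology
open Groth.Agent.CohDescent (gm gm_res gm_eq gm_map gm_surjective sect_ext exists_glue_germs tau tau_gm bijective_tau pb)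

namespace Groth.Agent.CohTopBC

variable {X T : TopCat.{u}}

instance preservesFiniteLimits_sectionsAt (W : Opens T) :
    PreservesFiniteLimits (sheafToPresheaf (Opens.grothendieckTopology T) AddCommGrpCat.{u} ⋙
      (evaluation _ _).obj (op W)) :=
  haveI := (sheafificationAdjunction (Opens.grothendieckTopology T) AddCommGrpCat.{u}).rightAdjoint_preservesLimits.{0, 0}
  haveI : PreservesFiniteLimits (sheafToPresheaf (Opens.grothendieckTopology T) AddCommGrpCat.{u}) :=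
    ⟨fun _ => inferInstance⟩
  comp_preservesFiniteLimits _ _

lemma exists_preimage_section {S : ShortComplex (CohTop.Ab T)} (hS : S.ShortExact) {W : Opens T}
    (d : S.X₂.obj.obj (op W)) (hd : S.g.hom.app (op W) d = 0) :
    ∃ e : S.X₁.obj.obj (op W), S.f.hom.app (op W) e = d := by
  let G : CohTop.Ab T ⥤ AddCommGrpCat.{u} :=
    sheafToPresheaf (Opens.grothendieckTopology T) AddCommGrpCat.{u} ⋙ (evaluation _ _).obj (op W)
  haveI : G.Additive := Functor.additive_of_preserves_binary_products _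
  have h' : ∀ S : ShortComplex (CohTop.Ab T), S.Exact ∧ Mono S.f → (S.map G).Exact ∧ Mono (G.map S.f) :=
    ((G.preservesFiniteLimits_tfae).out 3 1).1 (preservesFiniteLimits_sectionsAt W)
  exact (ShortComplex.ab_exact_iff _).1 (h' S ⟨hS.exact, hS.mono_f⟩).1 d hd

lemma exists_stalk_lift {S : ShortComplex (CohTop.Ab T)} (hS : S.ShortExact) (z : T) (a : (sfib z).obj S.X₃) :
    ∃ b, (sfib z).map S.g b = a := by
  haveI := hS.epi_g
  exact (AddCommGrpCat.epi_iff_surjective _).1 (inferInstanceAs (Epi ((sfib z).map S.g))) a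

/-- Lifting of germ families when the kernel is soft. -/
theorem exists_lift_near [CompactSpace T] [T2Space T] {S : ShortComplex (CohTop.Ab T)} (hS : S.ShortExact)
    (h₁ : IsSoftSh S.X₁) {C : Set T} (hC : IsClosed C) (a : ∀ z ∈ C, (sfib z).obj S.X₃) (ha : LocRep S.X₃ C a) :
    ∃ (U : Opens T) (hU : C ⊆ U) (g : S.X₂.obj.obj (op U)),
      ∀ z (hz : z ∈ C), (sfib z).map S.g (gm S.X₂ z U (hU hz) g) = a z hz := by
  have hsep : ∀ x ∈ C, ∀ y ∈ C, x ≠ y → ∃ U V : Set T, IsOpen U ∧ IsOpen V ∧ x ∈ U ∧ y ∈ V ∧ Disjoint U V :=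
    fun x _ y _ h => t2_separation h
  obtain ⟨U, hU, g, hg⟩ := compact_closed_induction hC.isCompact hsep
    (fun D => ∃ (U : Opens T) (hU : D ⊆ Subtype.val ⁻¹' U) (g : S.X₂.obj.obj (op U)),
      ∀ z (hz : z ∈ D), (sfib z.1).map S.g (gm S.X₂ z.1 U (hU hz) g) = a z.1 z.2)
    (fun k => by
      obtain ⟨U, s, hkU, hs⟩ := ha k.1 k.2
      obtain ⟨b, hb⟩ := exists_stalk_lift hS k.1 (a k.1 k.2)
      obtain ⟨V, hkV, g, rfl⟩ := gm_surjective S.X₂ k.1 b
      rw [gm_map, ← hs k.1 k.2 hkU, ← gm_res _ _ (inf_le_left : V ⊓ U ≤ V) ⟨hkV, hkU⟩,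
        ← gm_res _ _ (inf_le_right : V ⊓ U ≤ U) ⟨hkV, hkU⟩ s] at hb
      obtain ⟨N, hN, hkN, e⟩ := gm_eq _ _ _ _ _ hb
      refine ⟨N, N.2, hkN, fun D _ hD => ⟨N, hD, S.X₂.obj.map (homOfLE (hN.trans inf_le_left)).op g, fun z hz => ?_⟩⟩
      have hz' : z.1 ∈ N := hD hz
      rw [gm_res, gm_map, ← hs z.1 z.2 (hN hz').2, ← gm_res _ _ (inf_le_left : V ⊓ U ≤ V) (hN hz'),
        ← gm_res _ _ (inf_le_right : V ⊓ U ≤ U) (hN hz') s, ← gm_res _ _ hN hz', ← gm_res _ _ hN hz']
      exact congrArg _ e)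
    (fun A B hA hB ⟨U, hU, g, hg⟩ ⟨V, hV, g', hg'⟩ => by
      have hAc : IsClosed (Subtype.val '' A) := hC.isClosedEmbedding_subtypeVal.isClosedMap _ hA
      have hBc : IsClosed (Subtype.val '' B) := hC.isClosedEmbedding_subtypeVal.isClosedMap _ hB
      have hIU : Subtype.val '' A ∩ Subtype.val '' B ⊆ (U ⊓ V : Opens T) := by
        rintro _ ⟨⟨z, hz, rfl⟩, z', hz', e⟩
        exact ⟨hU hz, e ▸ hV hz'⟩
      let d : S.X₂.obj.obj (op (U ⊓ V)) :=
        S.X₂.obj.map (homOfLE inf_le_left).op g - S.X₂.obj.map (homOfLE inf_le_right).op g'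
      have key : ∀ z ∈ Subtype.val '' A ∩ Subtype.val '' B, ∃ N : Opens T, z ∈ N ∧ ∃ (hN : N ≤ U ⊓ V),
          S.X₃.obj.map (homOfLE hN).op (S.g.hom.app (op (U ⊓ V)) d) = 0 := by
        rintro z hz
        obtain ⟨⟨w, hw, rfl⟩, w', hw', e⟩ := hz
        obtain rfl := Subtype.ext e
        have h0 : gm S.X₃ w'.1 (U ⊓ V) ⟨hU hw, hV hw'⟩ (S.g.hom.app (op (U ⊓ V)) d) =
            gm S.X₃ w'.1 (U ⊓ V) ⟨hU hw, hV hw'⟩ 0 := by
          rw [← gm_map, map_sub, map_sub, gm_res, gm_res, hg _ hw, hg' _ hw', sub_self, map_zero]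
        obtain ⟨N, hN, hzN, e'⟩ := gm_eq _ _ _ _ _ h0
        exact ⟨N, hzN, hN, e'.trans (map_zero _)⟩
      choose N hzN hN hN0 using key
      let W : Opens T := ⨆ z : {z // z ∈ Subtype.val '' A ∩ Subtype.val '' B}, N z.1 z.2
      have hW : W ≤ U ⊓ V := iSup_le fun z => hN z.1 z.2
      have hd0 : S.g.hom.app (op W) (S.X₂.obj.map (homOfLE hW).op d) = 0 := by
        refine sect_ext _ _ fun z hz => ?_
        obtain ⟨⟨w, hw⟩, hzw⟩ := Opens.mem_iSup.1 hz
        rw [← gm_map, gm_res, gm_map, map_zero, ← gm_res _ z (hN w hw) hzw, hN0 w hw, map_zero]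
      obtain ⟨e, he⟩ := exists_preimage_section hS _ hd0
      have hIW : Subtype.val '' A ∩ Subtype.val '' B ⊆ W := fun z hz => Opens.mem_iSup.2 ⟨⟨z, hz⟩, hzN z hz⟩
      obtain ⟨e', he'⟩ := h₁ _ (hAc.inter hBc) _ (locRep_section S.X₁ hIW e)
      let g'' : S.X₂.obj.obj (op V) := g' + S.X₂.obj.map (homOfLE le_top).op (S.f.hom.app (op ⊤) e')
      obtain ⟨W', hW', r, hr1, hr2⟩ := exists_glue_near hC.isCompact hsep S.X₂ hA hB hU hV g g'' fun z hzA hzB => by
        have hzI : z.1 ∈ Subtype.val '' A ∩ Subtype.val '' B := ⟨⟨z, hzA, rfl⟩, z, hzB, rfl⟩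
        rw [map_add, gm_res, ← gm_map, he' z.1 hzI, gm_map, he, gm_res, map_sub, gm_res, gm_res]
        abel
      refine ⟨W', hW', r, fun z hz => hz.elim (fun h => (congrArg _ (hr1 z h)).trans (hg z h))
        (fun h => (congrArg _ (hr2 z h)).trans ?_)⟩
      rw [map_add, map_add, gm_res, ← gm_map, hg' z h]
      have h0 : (sfib z.1).map S.g ((sfib z.1).map S.f (gm S.X₁ z.1 ⊤ trivial e')) = 0 := by
        rw [← ConcreteCategory.comp_apply, ← Functor.map_comp, S.zero, Functor.map_zero]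
        rfl
      rw [h0, add_zero])
    ⟨⊥, Set.empty_subset _, 0, fun z hz => hz.elim⟩
  exact ⟨U, fun z hz => hU (Set.mem_univ ⟨z, hz⟩), g, fun z hz => hg ⟨z, hz⟩ (Set.mem_univ _)⟩

lemma isSoftSh_of_flasque [CompactSpace T] [T2Space T] (F : CohTop.Ab T) [TopCat.Sheaf.IsFlasque F] : IsSoftSh F := by
  intro A hA a ha
  obtain ⟨U, hU, s, hs⟩ := exists_extend hA.isCompact (fun x _ y _ h => t2_separation h) F a ha
  obtain ⟨S, hS⟩ := (isFlasque_iff_surjective F).1 ‹_› (homOfLE (le_top : U ≤ ⊤)) s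
  refine ⟨S, fun z hz => ?_⟩
  rw [← hs z hz, ← hS]
  exact (gm_res F z le_top (hU hz) S).symm

/-- Soft sheaves on compact Hausdorff spaces have no higher cohomology. -/
theorem subsingleton_ext_free_of_soft [CompactSpace T] [T2Space T] (n : ℕ) (F : CohTop.Ab T) (hF : IsSoftSh F) :
    Subsingleton (Ext (CohCx.freeSheaf (Opens.grothendieckTopology T) (⊤ : Opens T)) F (n + 1)) := by
  refine subsingleton_ext_succ_of_class _ (fun F : CohTop.Ab T => IsSoftSh F) ?_ ?_ n F hF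
  · intro _ S hS hF h _
    subst h
    refine (surjective_sections_iff_lift S.g).1 fun t => ?_
    obtain ⟨U, hU, g, hg⟩ := exists_lift_near hS hF isClosed_univ _
      (locRep_section S.X₃ (U := ⊤) (fun _ _ => trivial) t)
    refine ⟨S.X₂.obj.map (homOfLE (fun z _ => hU (Set.mem_univ z))).op g, sect_ext _ _ fun z hz => ?_⟩
    rw [← gm_map, gm_res]
    exact hg z (Set.mem_univ z)
  · intro _ S hS hF h hI A hA a ha
    subst h
    haveI := hI
    haveI := isFlasque_of_injective S.X₂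
    obtain ⟨U, hU, g, hg⟩ := exists_lift_near hS hF hA a ha
    obtain ⟨g', hg'⟩ := isSoftSh_of_flasque S.X₂ A hA _ (locRep_section S.X₂ hU g)
    refine ⟨S.g.hom.app (op ⊤) g', fun z hz => ?_⟩
    rw [← gm_map, hg' z hz]
    exact hg z hz

/-- Derived functors of sections along an exact functor with acyclic values. -/
theorem nonempty_rightDerived_sections {C : Type (u + 1)} [Category.{u} C] [Abelian C] [HasInjectiveResolutions C]
    (Φ : C ⥤ CohTop.Ab T) [Φ.Additive] [PreservesFiniteLimits Φ] [PreservesFiniteColimits Φ]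
    (hac : ∀ (I : C) [Injective I] (n : ℕ),
      Subsingleton (Ext (CohCx.freeSheaf (Opens.grothendieckTopology T) (⊤ : Opens T)) (Φ.obj I) (n + 1)))
    (Ψ : C ⥤ AddCommGrpCat.{u}) [Ψ.Additive] (e : ∀ G, Ψ.obj G ≅ (Φ.obj G).obj.obj (op ⊤))
    (he : ∀ {G G' : C} (φ : G ⟶ G') (x : Ψ.obj G),
      (e G').hom (Ψ.map φ x) = (Φ.map φ).hom.app (op ⊤) ((e G).hom x)) (F : C) (p : ℕ) :
    Nonempty ((Ψ.rightDerived p).obj F ≅ AddCommGrpCat.of (CohTop.H (Φ.obj F) p)) := by
  let J := Opens.grothendieckTopology T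
  let Z := CohCx.freeSheaf J (⊤ : Opens T)
  let η : Ψ ≅ Φ ⋙ preadditiveCoyoneda.obj (op Z) := NatIso.ofComponents
    (fun G => e G ≪≫ AddEquiv.toAddCommGrpIso (CohFree.homEquivSect J ⊤ (Φ.obj G)).symm)
    (fun {G G'} φ => by
      refine ConcreteCategory.hom_ext _ _ fun x => ?_
      change CohFree.ofSect J ⊤ _ ((e G').hom (Ψ.map φ x)) = CohFree.ofSect J ⊤ _ ((e G).hom x) ≫ Φ.map φ
      rw [he, ofSect_comp])
  let R : InjectiveResolution F := injectiveResolution F
  let K := (Φ.mapHomologicalComplex (ComplexShape.up ℕ)).obj R.cocomplex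
  have hz : Φ.map (R.ι.f 0) ≫ Φ.map (R.cocomplex.d 0 1) = 0 := by
    rw [← Φ.map_comp, R.ι_f_zero_comp_complex_d]
    exact Φ.map_zero _ _
  have hres : AcyclicRes.IsResolution K.X (fun n => K.d n (n + 1)) (Φ.map (R.ι.f 0)) :=
    { mono := inferInstanceAs (Mono (Φ.map (R.ι.f 0)))
      zero₀ := hz
      exact₀ := R.exact₀.map Φ
      zero := fun n => K.d_comp_d _ _ _
      exact := fun n => (R.exact_succ n).map Φ }
  obtain ⟨ε⟩ := AcyclicRes.nonempty_homology_equiv_ext Z K (Φ.map (R.ι.f 0)) hres p fun n q _ =>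
    haveI := R.injective n
    hac (R.cocomplex.X n) q
  exact ⟨R.isoRightDerivedObj Ψ p ≪≫ HomologicalComplex.homologyMapIso
    ((NatIso.mapHomologicalComplex η (ComplexShape.up ℕ)).app R.cocomplex) p ≪≫
    AddEquiv.toAddCommGrpIso (ε.trans (HUTopEquiv (Φ.obj F) p))⟩

end Groth.Agent.CohTopBC
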