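import Mathlib
import Groth.Agent.CohTopBC.Soft
import Groth.Agent.SiteCohomology.HigherDirectImage
import Groth.Agent.SiteCohomology.CohomologyPresheafNat

/-!
Stalks of direct images along closed maps with compact fibres with separated points.
-/

set_option autoImplicit false
universe u

open CategoryTheory CategoryTheory.Limits Opposite TopologicalSpace
open Groth.SiteCohomology
open Groth.Agent.CohDescent (gm gm_res gm_eq gm_map gm_surjective sect_ext tau tau_gm bijective_tau pb pushGerm pushGerm_gm)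

namespace Groth.Agent.CohTopBC

variable {X Y : TopCat.{u}}

instance preservesFiniteColimits_pull {A B : TopCat.{u}} (g : A ⟶ B) : PreservesFiniteColimits (CohTop.pull g) :=
  haveI := (pullPushAdj g).leftAdjoint_preservesColimits.{0, 0}
  ⟨fun _ => inferInstance⟩

instance additive_inverseImage {A B : TopCat.{u}} (g : A ⟶ B) : (CohTop.pull g).Additive :=
  Functor.additive_of_preserves_binary_products _

/-- The stalk of an abelian sheaf is its fibre at the point. -/
theorem nonempty_sfib_iso_stalk (G : CohTop.Ab X) (x : X) : Nonempty ((sfib x).obj G ≅ CohTop.stalk G x) := by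
  let φ : (sfib x).obj G ⟶ CohTop.stalk G x :=
    (Opens.pointGrothendieckTopology x).presheafFiberDesc
      (fun U hx => TopCat.Presheaf.germ G.obj U x hx.down.down)
      (fun {U V} f hx => TopCat.Presheaf.germ_res G.obj f x hx.down.down)
  have hφ : ∀ (U : Opens X) (hx : x ∈ U) (s : G.obj.obj (op U)),
      φ (gm G x U hx s) = TopCat.Presheaf.germ G.obj U x hx s := fun U hx s =>
    ConcreteCategory.congr_hom (show gm G x U hx ≫ φ = TopCat.Presheaf.germ G.obj U x hx by
      exact colimit.ι_desc _ _) s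
  haveI : IsIso φ := by
    refine (ConcreteCategory.isIso_iff_bijective _).2 ⟨fun a b h => ?_, fun c => ?_⟩
    · obtain ⟨U, hU, s, rfl⟩ := gm_surjective G x a
      obtain ⟨V, hV, t, rfl⟩ := gm_surjective G x b
      rw [hφ, hφ] at h
      obtain ⟨W, hW, iU, iV, e⟩ := TopCat.Presheaf.germ_eq (F := G.obj) x hU hV s t h
      rw [← gm_res G x iU.le hW s, ← gm_res G x iV.le hW t]
      exact congrArg _ e
    · obtain ⟨U, hx, s, rfl⟩ := TopCat.Presheaf.exists_germ_eq G.obj c
      exact ⟨gm G x U hx s, hφ U hx s⟩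
  exact ⟨asIso φ⟩

section Germs

variable (f : X ⟶ Y)

lemma pushGerm_natural {G G' : CohTop.Ab X} (φ : G ⟶ G') {y : Y} {x : X} (h : f x = y)
    (a : (sfib y).obj ((CohTop.push f).obj G)) :
    pushGerm f h G' ((sfib y).map ((CohTop.push f).map φ) a) = (sfib x).map φ (pushGerm f h G a) := by
  obtain ⟨U, hU, s, rfl⟩ := gm_surjective _ y a
  rw [gm_map, pushGerm_gm, pushGerm_gm, gm_map]
  rfl

variable {f} (hf : IsClosedMap f)
include hf

lemma exists_nhd_preimage_le {y : Y} (Ω : Opens X) (hΩ : ∀ x, f x = y → x ∈ Ω) :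
    ∃ V : Opens Y, y ∈ V ∧ (Opens.map f).obj V ≤ Ω := by
  refine ⟨⟨(f '' (Ω : Set X)ᶜ)ᶜ, (hf _ Ω.2.isClosed_compl).isOpen_compl⟩, ?_, fun z hz => ?_⟩
  · rintro ⟨x, hx, rfl⟩
    exact hx (hΩ x rfl)
  · by_contra h
    exact hz ⟨z, h, rfl⟩

lemma pushGerm_injective_of_closed (y : Y) (G : CohTop.Ab X) (a b : (sfib y).obj ((CohTop.push f).obj G))
    (h : ∀ x (hx : f x = y), pushGerm f hx G a = pushGerm f hx G b) : a = b := by
  obtain ⟨U, hU, s, rfl⟩ := gm_surjective _ y a
  obtain ⟨V, hV, t, rfl⟩ := gm_surjective _ y b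
  have key : ∀ x : {x : X // f x = y}, ∃ N : Opens X, x.1 ∈ N ∧
      ∃ (h₁ : N ≤ (Opens.map f).obj U) (h₂ : N ≤ (Opens.map f).obj V),
        G.obj.map (homOfLE h₁).op s = G.obj.map (homOfLE h₂).op t := by
    rintro ⟨x, hx⟩
    have e := h x hx
    have hxI : x ∈ (Opens.map f).obj U ⊓ (Opens.map f).obj V := ⟨by subst hx; exact hU, by subst hx; exact hV⟩
    rw [pushGerm_gm, pushGerm_gm, ← gm_res G x (inf_le_left : (Opens.map f).obj U ⊓ (Opens.map f).obj V ≤ _) hxI,
      ← gm_res G x (inf_le_right : (Opens.map f).obj U ⊓ (Opens.map f).obj V ≤ _) hxI] at e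
    obtain ⟨N, hN, hxN, e'⟩ := gm_eq _ _ _ _ _ e
    exact ⟨N, hxN, hN.trans inf_le_left, hN.trans inf_le_right,
      (Groth.Agent.CohDescent.res_res G _ _ _ _).symm.trans (e'.trans (Groth.Agent.CohDescent.res_res G _ _ _ _))⟩
  choose N hxN h₁ h₂ he using key
  obtain ⟨V₀, hyV₀, hle⟩ := exists_nhd_preimage_le hf (y := y) (⨆ x, N x) fun x hx =>
    Opens.mem_iSup.2 ⟨⟨x, hx⟩, hxN ⟨x, hx⟩⟩
  let W := V₀ ⊓ (U ⊓ V)
  have hW₁ : W ≤ U := inf_le_right.trans inf_le_left
  have hW₂ : W ≤ V := inf_le_right.trans inf_le_right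
  rw [← gm_res _ y hW₁ ⟨hyV₀, hU, hV⟩ s, ← gm_res _ y hW₂ ⟨hyV₀, hU, hV⟩ t]
  refine congrArg _ (sect_ext (G := G) (W := (Opens.map f).obj W) _ _ fun z hz => ?_)
  obtain ⟨x, hzx⟩ := Opens.mem_iSup.1 (hle hz.1)
  have e1 : gm G z ((Opens.map f).obj U) hz.2.1 s = gm G z ((Opens.map f).obj V) hz.2.2 t := by
    rw [← gm_res G z (h₁ x) hzx, ← gm_res G z (h₂ x) hzx, he x]
  exact (gm_res G z ((Opens.map f).map (homOfLE hW₁)).le hz s).trans
    (e1.trans (gm_res G z ((Opens.map f).map (homOfLE hW₂)).le hz t).symm)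

lemma exists_pushGerm_of_locRep (y : Y) (hK : IsCompact (f ⁻¹' {y}))
    (hsep : ∀ x x' : X, f x = f x' → x ≠ x' → ∃ U V : Set X, IsOpen U ∧ IsOpen V ∧ x ∈ U ∧ x' ∈ V ∧ Disjoint U V)
    (G : CohTop.Ab X) (a : ∀ x ∈ f ⁻¹' {y}, (sfib x).obj G) (ha : LocRep G (f ⁻¹' {y}) a) :
    ∃ b : (sfib y).obj ((CohTop.push f).obj G), ∀ x (hx : f x = y), pushGerm f hx G b = a x hx := by
  obtain ⟨U, hU, s, hs⟩ := exists_extend hK (fun x hx x' hx' => hsep x x' (Eq.trans hx (Eq.symm hx'))) G a ha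
  obtain ⟨V, hyV, hle⟩ := exists_nhd_preimage_le hf (y := y) U fun x hx => hU hx
  refine ⟨gm ((CohTop.push f).obj G) y V hyV (G.obj.map (homOfLE hle).op s), fun x hx => ?_⟩
  rw [pushGerm_gm, gm_res, ← hs x hx]

end Germs

section Stalk

variable (f : X ⟶ Y) (hc : IsClosedMap f) (y : Y) (hK : IsCompact (f ⁻¹' {y}))
  (hsep : ∀ x x' : X, f x = f x' → x ≠ x' → ∃ U V : Set X, IsOpen U ∧ IsOpen V ∧ x ∈ U ∧ x' ∈ V ∧ Disjoint U V)

/-- The inclusion of a fibre. -/
abbrev fibIncl : TopCat.of (f ⁻¹' {y}) ⟶ X := TopCat.ofHom ⟨((↑) : f ⁻¹' {y} → X), continuous_subtype_val⟩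

lemma fib_le (U : Opens Y) (hy : y ∈ U) :
    (⊤ : Opens (TopCat.of (f ⁻¹' {y}))) ≤ (Opens.map (fibIncl f y)).obj ((Opens.map f).obj U) := fun z _ => by
  change f z.1 ∈ U
  rw [show f z.1 = y from z.2]
  exact hy

/-- From the stalk of a direct image to sections along the fibre. -/
noncomputable def kappa (G : CohTop.Ab X) :
    (sfib y).obj ((CohTop.push f).obj G) ⟶ ((CohTop.pull (fibIncl f y)).obj G).obj.obj (op ⊤) :=
  (Opens.pointGrothendieckTopology y).presheafFiberDesc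
    (fun U hy => pb (fibIncl f y) G ((Opens.map f).obj U) ≫
      ((CohTop.pull (fibIncl f y)).obj G).obj.map (homOfLE (fib_le f y U hy.down.down)).op)
    (fun {U V} k hy => by
      refine ConcreteCategory.hom_ext _ _ fun s => ?_
      refine (congrArg (((CohTop.pull (fibIncl f y)).obj G).obj.map _)
        (NatTrans.naturality_apply ((pullPushAdj (fibIncl f y)).unit.app G).hom ((Opens.map f).map k).op s)).trans ?_
      exact Groth.Agent.CohDescent.res_res _ _ _ _ _)

lemma kappa_gm (G : CohTop.Ab X) (U : Opens Y) (hy : y ∈ U) (s : G.obj.obj (op ((Opens.map f).obj U))) :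
    kappa f y G (gm ((CohTop.push f).obj G) y U hy s) =
      ((CohTop.pull (fibIncl f y)).obj G).obj.map (homOfLE (fib_le f y U hy)).op
        (pb (fibIncl f y) G ((Opens.map f).obj U) s) :=
  ConcreteCategory.congr_hom (show gm ((CohTop.push f).obj G) y U hy ≫ kappa f y G = _ by
    exact colimit.ι_desc _ _) s

lemma gm_kappa (G : CohTop.Ab X) (a : (sfib y).obj ((CohTop.push f).obj G)) (z : f ⁻¹' {y}) :
    gm ((CohTop.pull (fibIncl f y)).obj G) z ⊤ trivial (kappa f y G a) =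
      tau (fibIncl f y) (rfl : fibIncl f y z = z.1) G (pushGerm f (z.2 : f z.1 = y) G a) := by
  obtain ⟨U, hy, s, rfl⟩ := gm_surjective _ y a
  rw [kappa_gm, pushGerm_gm, gm_res]
  exact (tau_gm (fibIncl f y) G rfl _ _ s).symm

include hc hK hsep

theorem bijective_kappa (G : CohTop.Ab X) : Function.Bijective (kappa f y G) := by
  refine ⟨fun a b h => pushGerm_injective_of_closed hc y G a b fun x hx => ?_, fun t => ?_⟩
  · refine (bijective_tau (fibIncl f y) G (rfl : fibIncl f y ⟨x, hx⟩ = x)).1 ?_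
    rw [← gm_kappa f y G a ⟨x, hx⟩, ← gm_kappa f y G b ⟨x, hx⟩, h]
  · obtain ⟨b, hb, hbt⟩ := exists_locRep_down (i := fibIncl f y) Topology.IsEmbedding.subtypeVal G
      (A := Set.univ) (fun z _ => gm ((CohTop.pull (fibIncl f y)).obj G) z ⊤ trivial t)
      (fun z _ => ⟨⊤, t, trivial, fun _ _ _ => rfl⟩)
    have hsub : f ⁻¹' {y} ⊆ fibIncl f y '' Set.univ := fun x hx => ⟨⟨x, hx⟩, trivial, rfl⟩
    obtain ⟨c, hc'⟩ := exists_pushGerm_of_locRep hc y hK hsep G _ (locRep_mono hb hsub)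
    refine ⟨c, sect_ext _ _ fun z _ => ?_⟩
    rw [gm_kappa, hc' z.1 z.2]
    exact hbt z trivial

omit hc in
theorem isSoft_pull_fibre (I : CohTop.Ab X) [TopCat.Sheaf.IsFlasque I] : IsSoftSh ((CohTop.pull (fibIncl f y)).obj I) :=
  haveI : CompactSpace (TopCat.of (f ⁻¹' {y})) := isCompact_iff_compactSpace.1 hK
  isSoftSh_pull_flasque _ Topology.IsEmbedding.subtypeVal
    (fun (x x' : f ⁻¹' {y}) h => hsep x.1 x'.1 (Eq.trans x.2 (Eq.symm x'.2)) fun e => h (Subtype.ext e)) I

/-- The stalk of a higher direct image is the cohomology of the fibre. -/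
theorem nonempty_sfib_Rpush_iso (F : CohTop.Ab X) (p : ℕ) :
    Nonempty ((sfib y).obj ((CohTop.Rpush f p).obj F) ≅
      AddCommGrpCat.of (CohTop.H ((CohTop.pull (fibIncl f y)).obj F) p)) := by
  haveI : CompactSpace (TopCat.of (f ⁻¹' {y})) := isCompact_iff_compactSpace.1 hK
  haveI : T2Space (TopCat.of (f ⁻¹' {y})) := ⟨fun (x x' : f ⁻¹' {y}) h => by
    obtain ⟨U, V, hU, hV, hxU, hxV, hd⟩ := hsep x.1 x'.1 (Eq.trans x.2 (Eq.symm x'.2)) fun e => h (Subtype.ext e)
    exact ⟨_, _, hU.preimage continuous_subtype_val, hV.preimage continuous_subtype_val, hxU, hxV, hd.preimage _⟩⟩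
  haveI : (sfib y).Additive := Functor.additive_of_preserves_binary_products _
  haveI : (CohTop.push f ⋙ sfib y).Additive := inferInstance
  obtain ⟨e₁⟩ := nonempty_rightDerived_comp_exact (CohTop.push f) (sfib y) (CohTop.push f ⋙ sfib y) (Iso.refl _) F p
  haveI : (CohTop.pull (fibIncl f y)).Additive := additive_inverseImage _
  haveI : PreservesFiniteColimits (CohTop.pull (fibIncl f y)) := preservesFiniteColimits_pull _
  haveI : PreservesFiniteLimits (CohTop.pull (fibIncl f y)) := preservesFiniteLimits_pull _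
  obtain ⟨e₂⟩ := nonempty_rightDerived_sections (CohTop.pull (fibIncl f y))
    (fun I hI n => by
      haveI := isFlasque_of_injective I
      exact subsingleton_ext_free_of_soft n _ (isSoft_pull_fibre f y hK hsep I))
    (CohTop.push f ⋙ sfib y)
    (fun G => haveI := (ConcreteCategory.isIso_iff_bijective _).2 (bijective_kappa f hc y hK hsep G); asIso (kappa f y G))
    (fun {G G'} φ a => by
      refine sect_ext _ _ fun z _ => ?_
      change gm _ z ⊤ _ (kappa f y G' ((sfib y).map ((CohTop.push f).map φ) a)) =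
        gm _ z ⊤ _ (((CohTop.pull (fibIncl f y)).map φ).hom.app (op ⊤) (kappa f y G a))
      rw [gm_kappa, ← gm_map, gm_kappa, pushGerm_natural]
      obtain ⟨U, hU, s, hs⟩ := gm_surjective G z.1 (pushGerm f z.2 G a)
      rw [← hs, gm_map]
      refine (tau_gm (fibIncl f y) G' rfl U hU _).trans (Eq.trans ?_ (congrArg _ (tau_gm (fibIncl f y) G rfl U hU s)).symm)
      refine Eq.trans ?_ (gm_map _ _ _ _ _).symm
      exact congrArg _ (ConcreteCategory.congr_hom
        (congrArg (fun k => k.hom.app (op U)) ((pullPushAdj (fibIncl f y)).unit.naturality φ)) s))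
    F p
  exact ⟨e₁.symm ≪≫ e₂⟩

end Stalk

end Groth.Agent.CohTopBC
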