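import Mathlib
import Groth.Agent.CohTopBC.Fibre

/-!
The site of subspaces of a family of spaces over a base, and the sheaf of germ families on it.
-/

set_option autoImplicit false
universe u

open CategoryTheory CategoryTheory.Limits Opposite TopologicalSpace
open Groth.SiteCohomology
open Groth.Agent.CohDescent (gm gm_res gm_eq gm_map gm_surjective sect_ext exists_glue_germs res_res tau tau_gm bijective_tau pb pushGerm pushGerm_gm)

namespace Groth.Agent.CohTopBC.DescentSite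

variable {S : TopCat.{u}} {ι : Type} (str : ι → Over S)

/-- A subspace of one of the spaces over the base. -/
structure Obj : Type u where
  lvl : ULift.{u} ι
  carrier : Set (str lvl.down).left

variable {str}

/-- The structure map. -/
def Obj.base (a : Obj str) (w : a.carrier) : S := (str a.lvl.down).hom w.1

/-- Continuous maps over the base. -/
instance : Category.{u} (Obj str) where
  Hom a b := {g : C(a.carrier, b.carrier) // ∀ w, b.base (g w) = a.base w}
  id a := ⟨ContinuousMap.id _, fun _ => rfl⟩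
  comp g h := ⟨h.1.comp g.1, fun w => (h.2 _).trans (g.2 w)⟩

lemma hom_ext {a b : Obj str} {g h : a ⟶ b} (e : ∀ w, (g.1 w).1 = (h.1 w).1) : g = h :=
  Subtype.ext (ContinuousMap.ext fun w => Subtype.ext (e w))

variable (str) in
/-- An object. -/
abbrev mk (l : ι) (A : Set (str l).left) : Obj str := ⟨⟨l⟩, A⟩

/-- Inclusions. -/
def incl {l : ULift.{u} ι} {A B : Set (str l.down).left} (h : A ⊆ B) : (⟨l, A⟩ : Obj str) ⟶ ⟨l, B⟩ :=
  ⟨⟨Set.inclusion h, continuous_inclusion h⟩, fun _ => rfl⟩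

lemma incl_comp {l : ULift.{u} ι} {A B C : Set (str l.down).left} (h : A ⊆ B) (h' : B ⊆ C) :
    incl h ≫ incl h' = incl (h.trans h') := rfl

lemma exists_factor {a : Obj str} {b : Obj str} (g : b ⟶ a) {A : Set (str a.lvl.down).left} (hA : A ⊆ a.carrier)
    (h : ∀ w, (g.1 w).1 ∈ A) : ∃ k : b ⟶ ⟨a.lvl, A⟩, k ≫ incl hA = g :=
  ⟨⟨⟨fun w => ⟨(g.1 w).1, h w⟩, (continuous_subtype_val.comp g.1.continuous).subtype_mk _⟩, g.2⟩, hom_ext fun _ => rfl⟩

variable (str) in
/-- Coverings are open coverings. -/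
def topology : GrothendieckTopology (Obj str) where
  sieves a := {R | ∀ w : a.carrier, ∃ O : Set (str a.lvl.down).left, IsOpen O ∧ w.1 ∈ O ∧
    R (incl (l := a.lvl) (Set.inter_subset_left : a.carrier ∩ O ⊆ a.carrier))}
  top_mem' _ _ := ⟨Set.univ, isOpen_univ, trivial, trivial⟩
  pullback_stable' {a b R} g hR w := by
    obtain ⟨O, hO, hwO, hR⟩ := hR (g.1 w)
    obtain ⟨O', hO', hpre⟩ := isOpen_induced_iff.1 (hO.preimage (continuous_subtype_val.comp g.1.continuous))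
    refine ⟨O', hO', (Set.ext_iff.1 hpre w).2 hwO, ?_⟩
    obtain ⟨k, hk⟩ := exists_factor (incl (Set.inter_subset_left : b.carrier ∩ O' ⊆ b.carrier) ≫ g)
      (Set.inter_subset_left : a.carrier ∩ O ⊆ a.carrier)
      (fun v => ⟨(g.1 ⟨v.1, v.2.1⟩).2, (Set.ext_iff.1 hpre ⟨v.1, v.2.1⟩).1 v.2.2⟩)
    rw [Sieve.pullback_apply, ← hk]
    exact R.downward_closed hR k
  transitive' {a R} hR R' h w := by
    obtain ⟨O, hO, hwO, hR⟩ := hR w
    obtain ⟨O', hO', hwO', h'⟩ := h hR ⟨w.1, w.2, hwO⟩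
    refine ⟨O ∩ O', hO.inter hO', ⟨hwO, hwO'⟩, ?_⟩
    rw [show incl (Set.inter_subset_left : a.carrier ∩ (O ∩ O') ⊆ a.carrier) =
      incl (fun v hv => (⟨⟨hv.1, hv.2.1⟩, hv.2.2⟩ : v ∈ (a.carrier ∩ O) ∩ O')) ≫
        incl (Set.inter_subset_left : (a.carrier ∩ O) ∩ O' ⊆ a.carrier ∩ O) ≫
        incl (Set.inter_subset_left : a.carrier ∩ O ⊆ a.carrier) from rfl]
    exact R'.downward_closed h' _

variable (str) in
/-- Abelian sheaves on the site. -/
abbrev Sh : Type (u + 1) := Sheaf (topology str) AddCommGrpCat.{u}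

lemma map_map (G : Sh str) {a b c : Obj str} (g : b ⟶ a) (h : c ⟶ b) (s : G.obj.obj (op a)) :
    G.obj.map h.op (G.obj.map g.op s) = G.obj.map (h ≫ g).op s :=
  (ConcreteCategory.congr_hom (G.obj.map_comp g.op h.op) s).symm

/-- Unique gluing along relatively open coverings. -/
theorem existsUnique_glue (G : Sh str) (a : Obj str) {κ : Type u} (B : κ → Set (str a.lvl.down).left)
    (hB : ∀ k, B k ⊆ a.carrier)
    (hcov : ∀ w ∈ a.carrier, ∃ k, ∃ O : Set (str a.lvl.down).left, IsOpen O ∧ w ∈ O ∧ a.carrier ∩ O ⊆ B k)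
    (s : ∀ k, G.obj.obj (op ⟨a.lvl, B k⟩))
    (hs : ∀ k k', G.obj.map (incl (Set.inter_subset_left : B k ∩ B k' ⊆ B k)).op (s k) =
      G.obj.map (incl (Set.inter_subset_right : B k ∩ B k' ⊆ B k')).op (s k')) :
    ∃! t : G.obj.obj (op a), ∀ k, G.obj.map (incl (hB k)).op t = s k := by
  have hsh : Presieve.IsSheaf (topology str) (G.obj ⋙ forget AddCommGrpCat.{u}) :=
    (isSheaf_iff_isSheaf_of_type _ _).1 (GrothendieckTopology.HasSheafCompose.isSheaf G.obj G.2)
  let π : ∀ k, (⟨a.lvl, B k⟩ : Obj str) ⟶ a := fun k => incl (hB k)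
  have hmem : Sieve.generate (Presieve.ofArrows (fun k => (⟨a.lvl, B k⟩ : Obj str)) π) ∈ topology str a := fun w => by
    obtain ⟨k, O, hO, hwO, h⟩ := hcov w.1 w.2
    exact ⟨O, hO, hwO, _, incl h, π k, Presieve.ofArrows.mk k, rfl⟩
  refine (Presieve.isSheafFor_arrows_iff (G.obj ⋙ forget AddCommGrpCat.{u}) π).1
    ((Presieve.isSheafFor_iff_generate _).2 (hsh _ hmem)) s fun k k' Z g g' e => ?_
  have hg : ∀ w, (g.1 w).1 = (g'.1 w).1 := fun w => congrArg (fun φ => ((Subtype.val φ) w).1) e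
  obtain ⟨l, hl⟩ := exists_factor g (Set.inter_subset_left : B k ∩ B k' ⊆ B k)
    (fun w => ⟨(g.1 w).2, by rw [hg w]; exact (g'.1 w).2⟩)
  have hl' : l ≫ incl (Set.inter_subset_right : B k ∩ B k' ⊆ B k') = g' := hom_ext fun w =>
    (congrArg (fun φ => ((Subtype.val φ) w).1) hl).trans (hg w)
  change G.obj.map g.op (s k) = G.obj.map g'.op (s k')
  rw [← hl, ← hl', op_comp, op_comp, G.obj.map_comp, G.obj.map_comp, ConcreteCategory.comp_apply,
    ConcreteCategory.comp_apply, hs]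

section Restriction

variable {l : ι} {T : TopCat.{u}} (i : T ⟶ (str l).left)

/-- The images of open sets. -/
def openFun : Opens T ⥤ Obj str where
  obj U := mk str l (i '' U)
  map {U V} h := incl (Set.image_mono (f := i) h.le)

variable {i} (hi : Topology.IsEmbedding i)

include hi in
lemma isSheaf_openFun (G : Sh str) : TopCat.Presheaf.IsSheaf ((openFun i).op ⋙ G.obj) := by
  refine (TopCat.Presheaf.isSheaf_iff_isSheafUniqueGluing _).2 fun κ U s hs => ?_
  refine existsUnique_glue G (mk str l (i '' (iSup U : Opens T))) (fun k => i '' U k)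
    (fun k => Set.image_mono (f := i) (le_iSup U k)) ?_ s ?_
  · rintro _ ⟨z, hz, rfl⟩
    obtain ⟨k, hk⟩ := Opens.mem_iSup.1 hz
    obtain ⟨O, hO, hOU⟩ := hi.isInducing.isOpen_iff.1 (U k).2
    refine ⟨k, O, hO, (Set.ext_iff.1 hOU z).2 hk, ?_⟩
    rintro _ ⟨⟨z', -, rfl⟩, hz'⟩
    exact ⟨z', (Set.ext_iff.1 hOU z').1 hz', rfl⟩
  · intro k k'
    have h : i '' U k ∩ i '' U k' ⊆ i '' (U k ⊓ U k' : Opens T) := by
      rintro _ ⟨⟨z, hz, rfl⟩, ⟨z', hz', e⟩⟩
      exact ⟨z, ⟨hz, hi.injective e ▸ hz'⟩, rfl⟩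
    have e := congrArg (G.obj.map (incl h).op) (hs k k')
    exact (map_map G _ _ _).symm.trans (e.trans (map_map G _ _ _))

/-- Restriction to a subspace. -/
noncomputable def res : Sh str ⥤ CohTop.Ab T where
  obj G := ⟨(openFun i).op ⋙ G.obj, isSheaf_openFun hi G⟩
  map φ := ⟨Functor.whiskerLeft _ φ.hom⟩

instance : (res hi).Additive where
  map_add {_ _ _ _} := rfl

lemma res_map_app {G G' : Sh str} (φ : G ⟶ G') (U : Opens T) :
    ((res hi).map φ).hom.app (op U) = φ.hom.app (op (mk str l (i '' U))) := rfl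

theorem preservesEpimorphisms_res : (res hi).PreservesEpimorphisms := by
  refine ⟨fun {G G'} φ hφ => ?_⟩
  haveI : Sheaf.IsLocallySurjective φ := (Sheaf.isLocallySurjective_iff_epi' _ φ).2 hφ
  refine (Sheaf.isLocallySurjective_iff_epi' _ _).1 ⟨fun {U} s x hx => ?_⟩
  obtain ⟨O, hO, hxO, t, ht⟩ := Presheaf.imageSieve_mem (topology str) φ.hom
    (U := op (mk str l (i '' U))) s ⟨i x, x, hx, rfl⟩
  let V : Opens T := U ⊓ ⟨i ⁻¹' O, hO.preimage i.hom.continuous⟩
  have h : i '' V ⊆ i '' U ∩ O := by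
    rintro _ ⟨z, hz, rfl⟩
    exact ⟨⟨z, hz.1, rfl⟩, hz.2⟩
  refine ⟨V, homOfLE inf_le_left, ⟨G.obj.map (incl h).op t, ?_⟩, hx, hxO⟩
  refine (NatTrans.naturality_apply φ.hom (incl h).op t).trans ((congrArg (G'.obj.map _) ht).trans ?_)
  exact ((ConcreteCategory.congr_hom (G'.obj.map_comp _ _) s).symm : _)

instance : PreservesFiniteLimits (res hi) := by
  let P := res hi ⋙ sheafToPresheaf (Opens.grothendieckTopology T) AddCommGrpCat.{u}
  haveI : PreservesFiniteLimits (sheafToPresheaf (topology str) AddCommGrpCat.{u}) :=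
    haveI := (sheafificationAdjunction (topology str) AddCommGrpCat.{u}).rightAdjoint_preservesLimits.{0, 0}
    ⟨fun _ => inferInstance⟩
  haveI : PreservesFiniteLimits P := inferInstanceAs (PreservesFiniteLimits
    (sheafToPresheaf (topology str) AddCommGrpCat.{u} ⋙ (Functor.whiskeringLeft _ _ _).obj (openFun i).op))
  exact preservesFiniteLimits_of_reflects_of_preserves (res hi)
    (sheafToPresheaf (Opens.grothendieckTopology T) AddCommGrpCat.{u})

instance : PreservesFiniteColimits (res hi) :=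
  haveI := preservesEpimorphisms_res hi
  Groth.SiteCohomology.preservesFiniteColimits_of_preservesEpi _

instance isFlasque_res (I : Sh str) [Injective I] : TopCat.Sheaf.IsFlasque ((res hi).obj I) := by
  refine (isFlasque_iff_surjective _).2 fun U V k t => ?_
  haveI : Mono ((openFun i).map k) := ⟨fun g h e => hom_ext fun w => congrArg (fun φ => ((Subtype.val φ) w).1) e⟩
  exact surjective_map_of_injective I ((openFun i).map k) t

end Restriction

section GermSheaf

variable (F : CohTop.Ab S)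

/-- Families of germs. -/
abbrev Fam (a : Obj str) : Type u := ∀ (w : a.carrier) (x : {x : S // a.base w = x}), (sfib x.1).obj F

/-- Families of germs locally given by sections. -/
def famSubgroup (a : Obj str) : AddSubgroup (Fam F a) where
  carrier := {c | ∀ w : a.carrier, ∃ N : Set a.carrier, IsOpen N ∧ w ∈ N ∧ ∃ (V : Opens S) (s : F.obj.obj (op V)),
    ∀ v ∈ N, ∀ x (h : a.base v = x), ∃ hx : x ∈ V, c v ⟨x, h⟩ = gm F x V hx s}
  zero_mem' _ := ⟨Set.univ, isOpen_univ, trivial, ⊤, 0, fun _ _ x _ => ⟨trivial, (map_zero _).symm⟩⟩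
  add_mem' {c c'} hc hc' w := by
    obtain ⟨N, hN, hwN, V, s, hs⟩ := hc w
    obtain ⟨N', hN', hwN', V', s', hs'⟩ := hc' w
    refine ⟨N ∩ N', hN.inter hN', ⟨hwN, hwN'⟩, V ⊓ V',
      F.obj.map (homOfLE inf_le_left).op s + F.obj.map (homOfLE inf_le_right).op s', fun v hv x h => ?_⟩
    obtain ⟨hx, e⟩ := hs v hv.1 x h
    obtain ⟨hx', e'⟩ := hs' v hv.2 x h
    exact ⟨⟨hx, hx'⟩, by rw [map_add, gm_res, gm_res, ← e, ← e']; rfl⟩
  neg_mem' {c} hc w := by
    obtain ⟨N, hN, hwN, V, s, hs⟩ := hc w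
    refine ⟨N, hN, hwN, V, -s, fun v hv x h => ?_⟩
    obtain ⟨hx, e⟩ := hs v hv x h
    exact ⟨hx, by rw [map_neg, ← e]; rfl⟩

/-- Precomposition. -/
noncomputable def famMap {a b : Obj str} (g : b ⟶ a) : famSubgroup F a →+ famSubgroup F b :=
  AddMonoidHom.mk' (fun c => ⟨fun w x => c.1 (g.1 w) ⟨x.1, (g.2 w).trans x.2⟩, fun w => by
    obtain ⟨N, hN, hwN, V, s, hs⟩ := c.2 (g.1 w)
    exact ⟨g.1 ⁻¹' N, hN.preimage g.1.continuous, hwN, V, s, fun v hv x h => hs _ hv x _⟩⟩) fun _ _ => rfl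

/-- The presheaf of germ families. -/
noncomputable def famPresheaf : (Obj str)ᵒᵖ ⥤ AddCommGrpCat.{u} where
  obj a := AddCommGrpCat.of (famSubgroup F a.unop)
  map g := AddCommGrpCat.ofHom (famMap F g.unop)
  map_id _ := rfl
  map_comp _ _ := rfl

lemma congr_fam {a : Obj str} (c : famSubgroup F a) {v w : a.carrier} (e : v = w) {y : S} (h : a.base v = y)
    (h' : a.base w = y) : c.1 v ⟨y, h⟩ = c.1 w ⟨y, h'⟩ := by
  subst e; rfl

theorem isSheaf_famPresheaf : Presheaf.IsSheaf (topology str) (famPresheaf (str := str) F) := by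
  refine (Presheaf.isSheaf_iff_isSheaf_forget (topology str) _ (forget AddCommGrpCat.{u})).2
    ((isSheaf_iff_isSheaf_of_type _ _).2 fun a R hR x hx => ?_)
  choose O hO hwO hRO using hR
  let c : Fam F a := fun w y => (x _ (hRO w)).1 ⟨w.1, w.2, hwO w⟩ ⟨y.1, y.2⟩
  have key : ∀ {b : Obj str} (g : b ⟶ a) (hg : R g) (v : b.carrier) (y : S) (h : a.base (g.1 v) = y),
      c (g.1 v) ⟨y, h⟩ = (x g hg).1 v ⟨y, (g.2 v).symm.trans h⟩ := fun {b} g hg v y h => by
    obtain ⟨O', hO', hpre⟩ := isOpen_induced_iff.1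
      ((hO (g.1 v)).preimage (continuous_subtype_val.comp g.1.continuous))
    obtain ⟨k, hk⟩ := exists_factor (incl (Set.inter_subset_left : b.carrier ∩ O' ⊆ b.carrier) ≫ g)
      (Set.inter_subset_left : a.carrier ∩ O (g.1 v) ⊆ a.carrier)
      (fun z => ⟨(g.1 ⟨z.1, z.2.1⟩).2, (Set.ext_iff.1 hpre ⟨z.1, z.2.1⟩).1 z.2.2⟩)
    have e := congrArg Subtype.val (hx k (incl (Set.inter_subset_left : b.carrier ∩ O' ⊆ b.carrier)) (hRO (g.1 v)) hg hk)
    have hv' : v.1 ∈ b.carrier ∩ O' := ⟨v.2, (Set.ext_iff.1 hpre v).2 (hwO (g.1 v))⟩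
    have e' := congrFun (congrFun e ⟨v.1, hv'⟩) ⟨y, (g.2 v).symm.trans h⟩
    refine Eq.trans ?_ e'
    exact congr_fam F (x _ (hRO (g.1 v))) (Subtype.ext
      (congrArg (fun φ => ((Subtype.val φ) ⟨v.1, hv'⟩).1) hk).symm) _ _
  have hc : c ∈ famSubgroup F a := fun w => by
    obtain ⟨N, hN, hwN, V, s, hs⟩ := (x _ (hRO w)).2 ⟨w.1, w.2, hwO w⟩
    obtain ⟨B, hB, hBN⟩ := isOpen_induced_iff.1 hN
    refine ⟨Subtype.val ⁻¹' (B ∩ O w), (hB.inter (hO w)).preimage continuous_subtype_val,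
      ⟨(Set.ext_iff.1 hBN ⟨w.1, w.2, hwO w⟩).2 hwN, hwO w⟩, V, s, fun v hv y h => ?_⟩
    obtain ⟨hy, e⟩ := hs ⟨v.1, v.2, hv.2⟩ ((Set.ext_iff.1 hBN ⟨v.1, v.2, hv.2⟩).1 hv.1) y h
    exact ⟨hy, (key _ (hRO w) ⟨v.1, v.2, hv.2⟩ y h).trans e⟩
  refine ⟨⟨c, hc⟩, fun b g hg => ?_, fun t ht => ?_⟩
  · exact Subtype.ext (funext fun v => funext fun y => key g hg v y.1 _)
  · refine Subtype.ext (funext fun w => funext fun y => ?_)
    exact congrFun (congrFun (congrArg Subtype.val (ht _ (hRO w))) ⟨w.1, w.2, hwO w⟩) ⟨y.1, y.2⟩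

variable (str) in
/-- The sheaf of germ families. -/
noncomputable def germSheaf : Sh str := ⟨famPresheaf F, isSheaf_famPresheaf F⟩

end GermSheaf

end Groth.Agent.CohTopBC.DescentSite
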