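import Mathlib
import Groth.Agent.CohTopBC.DescentSite

/-!
Germ families on subspaces and the comparison of inverse image and restriction.
-/

set_option autoImplicit false
universe u

open CategoryTheory CategoryTheory.Limits Opposite TopologicalSpace
open Groth.SiteCohomology
open Groth.Agent.CohDescent (gm gm_res gm_eq gm_map gm_surjective sect_ext res_res tau tau_gm bijective_tau pb pushGerm pushGerm_gm)

namespace Groth.Agent.CohTopBC.DescentSite

variable {S : TopCat.{u}} {ι : Type} {str : ι → Over S} (F : CohTop.Ab S)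

/-- The germ family of a section. -/
noncomputable def secFam (a : Obj str) {V : Opens S} (hV : ∀ w : a.carrier, a.base w ∈ V) :
    F.obj.obj (op V) →+ famSubgroup F a :=
  AddMonoidHom.mk' (fun s => ⟨fun w y => gm F y.1 V (y.2 ▸ hV w) s, fun w =>
    ⟨Set.univ, isOpen_univ, trivial, V, s, fun v _ x h => ⟨h ▸ hV v, rfl⟩⟩⟩)
    fun s t => Subtype.ext (funext fun w => funext fun y => map_add _ s t)

lemma secFam_apply (a : Obj str) {V : Opens S} (hV : ∀ w : a.carrier, a.base w ∈ V) (s : F.obj.obj (op V))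
    (w : a.carrier) (x : S) (h : a.base w = x) :
    (secFam F a hV s).1 w ⟨x, h⟩ = gm F x V (h ▸ hV w) s := rfl

variable {l : ι} {T T' : TopCat.{u}} {i : T ⟶ (str l).left} (hi : Topology.IsEmbedding i)

/-- Evaluation of a germ of a germ family. -/
noncomputable def evalGerm (z : T) :
    (sfib z).obj ((res hi).obj (germSheaf str F)) ⟶ (sfib ((str l).hom (i z))).obj F :=
  (Opens.pointGrothendieckTopology z).presheafFiberDesc
    (fun U hz => AddCommGrpCat.ofHom (AddMonoidHom.mk'
      (fun c : famSubgroup F (mk str l (i '' U)) => c.1 ⟨i z, z, hz.down.down, rfl⟩ ⟨_, rfl⟩) fun _ _ => rfl))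
    (fun {U V} _ _ => rfl)

lemma evalGerm_gm (z : T) (U : Opens T) (hz : z ∈ U) (c : famSubgroup F (mk str l (i '' U))) :
    evalGerm F hi z (gm ((res hi).obj (germSheaf str F)) z U hz c) = c.1 ⟨i z, z, hz, rfl⟩ ⟨_, rfl⟩ :=
  ConcreteCategory.congr_hom (show gm ((res hi).obj (germSheaf str F)) z U hz ≫ evalGerm F hi z = _ by
    exact colimit.ι_desc _ _) c

theorem bijective_evalGerm (z : T) : Function.Bijective (evalGerm F hi z) := by
  refine ⟨?_, fun a => ?_⟩
  · refine (injective_iff_map_eq_zero (evalGerm F hi z).hom).2 fun b hb => ?_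
    obtain ⟨U, hz, c, rfl⟩ := gm_surjective _ z b
    change famSubgroup F (mk str l (i '' U)) at c
    have hb' : evalGerm F hi z (gm ((res hi).obj (germSheaf str F)) z U hz c) = 0 := hb
    rw [evalGerm_gm] at hb'
    obtain ⟨N, hN, hzN, V, s, hs⟩ := c.2 ⟨i z, z, hz, rfl⟩
    obtain ⟨hx, e⟩ := hs _ hzN _ rfl
    obtain ⟨V', hV', hxV', e'⟩ := gm_eq F _ hx s 0 (by rw [map_zero, ← e]; exact hb')
    obtain ⟨B, hB, hBN⟩ := isOpen_induced_iff.1 hN
    let U' : Opens T := U ⊓ ⟨i ⁻¹' (B ∩ (str l).hom ⁻¹' V'),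
      (hB.inter (V'.2.preimage (str l).hom.hom.continuous)).preimage i.hom.continuous⟩
    have hzU' : z ∈ U' := ⟨hz, (Set.ext_iff.1 hBN ⟨i z, z, hz, rfl⟩).2 hzN, hxV'⟩
    rw [← gm_res _ z (inf_le_left : U' ≤ U) hzU']
    refine (congrArg _ ?_).trans (map_zero (gm ((res hi).obj (germSheaf str F)) z U' hzU').hom)
    refine Subtype.ext (funext fun v => funext fun y => ?_)
    obtain ⟨y, hy⟩ := y
    obtain ⟨_, z', hz', rfl⟩ := v
    obtain ⟨hyV, e''⟩ := hs ⟨i z', z', hz'.1, rfl⟩ ((Set.ext_iff.1 hBN ⟨i z', z', hz'.1, rfl⟩).1 hz'.2.1) y hy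
    refine e''.trans ?_
    have hyV' : y ∈ V' := hy ▸ hz'.2.2
    rw [← gm_res F y hV' hyV' s, e', map_zero, map_zero]
    rfl
  · obtain ⟨V, hV, s, rfl⟩ := gm_surjective F _ a
    let U : Opens T := (Opens.map (i ≫ (str l).hom)).obj V
    refine ⟨gm ((res hi).obj (germSheaf str F)) z U hV (secFam F (mk str l (i '' U)) (V := V) (by
      rintro ⟨_, z', hz', rfl⟩
      exact hz') s), ?_⟩
    exact evalGerm_gm F hi z U hV _

/-- The tautological map. -/
noncomputable def nu : F ⟶ (CohTop.push (i ≫ (str l).hom)).obj ((res hi).obj (germSheaf str F)) :=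
  ⟨{ app := fun V => AddCommGrpCat.ofHom (secFam F (mk str l (i '' _)) (V := V.unop) (by
        rintro ⟨_, z', hz', rfl⟩
        exact hz'))
     naturality := fun V W k => by
       refine ConcreteCategory.hom_ext _ _ fun s => Subtype.ext (funext fun w => funext fun y => ?_)
       obtain ⟨y, hy⟩ := y
       obtain ⟨_, z', hz', rfl⟩ := w
       exact gm_res F y k.unop.le (hy ▸ hz') s }⟩

theorem nonempty_pullIso :
    Nonempty ((CohTop.pull (i ≫ (str l).hom)).obj F ≅ (res hi).obj (germSheaf str F)) := by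
  let g := i ≫ (str l).hom
  let φ : (CohTop.pull g).obj F ⟶ (res hi).obj (germSheaf str F) :=
    ((pullPushAdj g).homEquiv _ _).symm (nu F hi)
  have h : (pullPushAdj g).unit.app F ≫ (CohTop.push g).map φ = nu F hi :=
    ((pullPushAdj g).homEquiv_unit ..).symm.trans (((pullPushAdj g).homEquiv _ _).apply_symm_apply _)
  have key : ∀ z (a : (sfib (g z)).obj F),
      evalGerm F hi z ((sfib z).map φ (tau g (rfl : g z = g z) F a)) = a := fun z a => by
    obtain ⟨V, hV, s, rfl⟩ := gm_surjective F _ a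
    rw [tau_gm, gm_map]
    have e : φ.hom.app (op ((Opens.map g).obj V)) (pb g F V s) = (nu F hi).hom.app (op V) s :=
      ConcreteCategory.congr_hom (congrArg (fun k => k.hom.app (op V)) h) s
    rw [e]
    exact evalGerm_gm F hi z _ hV _
  haveI : IsIso φ := isIso_of_sfib φ fun z => by
    refine (ConcreteCategory.isIso_iff_bijective _).2 ⟨fun a b e => ?_, fun c => ?_⟩
    · obtain ⟨a, rfl⟩ := (bijective_tau g F (rfl : g z = g z)).2 a
      obtain ⟨b, rfl⟩ := (bijective_tau g F (rfl : g z = g z)).2 b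
      exact congrArg _ ((key z a).symm.trans ((congrArg _ e).trans (key z b)))
    · exact ⟨tau g rfl F (evalGerm F hi z c), (bijective_evalGerm F hi z).1 (key z _)⟩
  exact ⟨asIso φ⟩

section Compare

variable (j : T' ⟶ T) (hj : Topology.IsEmbedding (j ≫ i))

lemma image_sub (U : Opens T) : (j ≫ i) '' ((Opens.map j).obj U : Set T') ⊆ i '' U := by
  rintro _ ⟨z, hz, rfl⟩
  exact ⟨j z, hz, rfl⟩

/-- The adjoint of the comparison map. -/
noncomputable def xiCmp (G : Sh str) : (res hi).obj G ⟶ (CohTop.push j).obj ((res hj).obj G) :=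
  ⟨{ app := fun U => G.obj.map (incl (image_sub j U.unop)).op
     naturality := fun U V k => by
       refine ConcreteCategory.hom_ext _ _ fun s => ?_
       exact (map_map G _ _ s).trans (map_map G (incl (image_sub (i := i) j U.unop))
         ((openFun (j ≫ i)).map ((Opens.map j).map k.unop)) s).symm }⟩

/-- The comparison of inverse image and restriction. -/
noncomputable def theta : res hi ⋙ CohTop.pull j ⟶ res hj where
  app G := ((pullPushAdj j).homEquiv _ _).symm (xiCmp hi j hj G)
  naturality G G' φ := by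
    change (CohTop.pull j).map ((res hi).map φ) ≫ _ = _
    rw [← Adjunction.homEquiv_naturality_left_symm, ← Adjunction.homEquiv_naturality_right_symm]
    refine congrArg _ (Sheaf.hom_ext (NatTrans.ext (funext fun U => ConcreteCategory.hom_ext _ _ fun s => ?_)))
    exact (NatTrans.naturality_apply φ.hom (incl (image_sub (i := i) j U.unop)).op s).symm

lemma theta_pb (G : Sh str) (U : Opens T) (s : G.obj.obj (op (mk str l (i '' U)))) :
    ((theta hi j hj).app G).hom.app (op ((Opens.map j).obj U)) (pb j ((res hi).obj G) U s) =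
      G.obj.map (incl (image_sub j U)).op s := by
  have h : (pullPushAdj j).unit.app _ ≫ (CohTop.push j).map ((theta hi j hj).app G) = xiCmp hi j hj G :=
    ((pullPushAdj j).homEquiv_unit ..).symm.trans (((pullPushAdj j).homEquiv _ _).apply_symm_apply _)
  have h' := ConcreteCategory.congr_hom (congrArg (fun k => k.hom.app (op U)) h) s
  exact h'

theorem isIso_theta_germSheaf : IsIso ((theta hi j hj).app (germSheaf str F)) := by
  refine isIso_of_sfib _ fun z => ?_
  have key : ∀ a, evalGerm F hj z ((sfib z).map ((theta hi j hj).app (germSheaf str F))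
      (tau j (rfl : j z = j z) _ a)) = evalGerm F hi (j z) a := fun a => by
    obtain ⟨U, hU, c, rfl⟩ := gm_surjective _ (j z) a
    rw [tau_gm]
    erw [gm_map]
    erw [theta_pb hi j hj (germSheaf str F) U c]
    exact (evalGerm_gm F hj z _ hU _).trans (evalGerm_gm F hi (j z) U hU c).symm
  refine (ConcreteCategory.isIso_iff_bijective _).2 ⟨fun a b e => ?_, fun c => ?_⟩
  · obtain ⟨a, rfl⟩ := (bijective_tau j _ (rfl : j z = j z)).2 a
    obtain ⟨b, rfl⟩ := (bijective_tau j _ (rfl : j z = j z)).2 b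
    exact congrArg _ ((bijective_evalGerm F hi (j z)).1 ((key a).symm.trans ((congrArg _ e).trans (key b))))
  · obtain ⟨a, ha⟩ := (bijective_evalGerm F hi (j z)).2 (evalGerm F hj z c)
    exact ⟨tau j rfl _ a, (bijective_evalGerm F hj z).1 ((key a).trans ha)⟩

end Compare

end Groth.Agent.CohTopBC.DescentSite
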