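import Mathlib
import Groth.Agent.CohTopBC.DescentGerms
import Groth.Agent.Misc7.GSS.Acyclic

/-!
Cocycles of an injective resolution of the sheaf of germ families near a fibre of a proper map.
-/

set_option autoImplicit false
universe u v w

open CategoryTheory CategoryTheory.Limits Opposite TopologicalSpace
open Groth.SiteCohomology
open Groth.Agent.CohDescent (gm gm_res gm_eq gm_map gm_surjective sect_ext res_res tau tau_gm bijective_tau pb pushGerm pushGerm_gm)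

namespace Groth.Agent.CohTopBC.DescentSite

section Elementwise

variable {K L : CochainComplex AddCommGrpCat.{u} ℤ} (φ : K ⟶ L) [hφ : QuasiIso φ] (i j k : ℤ) (hij : i + 1 = j) (hjk : j + 1 = k)

lemma exists_cycle (M : CochainComplex AddCommGrpCat.{u} ℤ) {j k : ℤ} (hjk : j + 1 = k) (b : M.X j) (hb : M.d j k b = 0) :
    ∃ z : M.cycles j, M.iCycles j z = b :=
  (ShortComplex.ab_exact_iff _).1 (ShortComplex.exact_of_f_is_kernel
    (ShortComplex.mk (M.iCycles j) (M.d j k) (M.iCycles_d _ _)) (M.cyclesIsKernel j k (by simp [← hjk]))) b hb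

lemma exists_boundary (M : CochainComplex AddCommGrpCat.{u} ℤ) {i j : ℤ} (hij : i + 1 = j) (z : M.cycles j)
    (hz : M.homologyπ j z = 0) : ∃ c : M.X i, M.d i j c = M.iCycles j z := by
  obtain ⟨c, hc⟩ := (ShortComplex.ab_exact_iff _).1 (ShortComplex.exact_of_g_is_cokernel
    (ShortComplex.mk (M.toCycles i j) (M.homologyπ j) (M.toCycles_comp_homologyπ _ _))
    (M.homologyIsCokernel i j (by simp [← hij]))) z hz
  exact ⟨c, (ConcreteCategory.congr_hom (M.toCycles_i i j) c).symm.trans (congrArg (M.iCycles j) hc)⟩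

lemma homologyπ_d (M : CochainComplex AddCommGrpCat.{u} ℤ) {i j : ℤ} (z : M.cycles j) (c : M.X i)
    (hc : M.d i j c = M.iCycles j z) : M.homologyπ j z = 0 := by
  have e : z = M.toCycles i j c :=
    (AddCommGrpCat.mono_iff_injective (M.iCycles j)).1 inferInstance
      (hc.symm.trans (ConcreteCategory.congr_hom (M.toCycles_i i j) c).symm)
  rw [e]
  exact ConcreteCategory.congr_hom (M.toCycles_comp_homologyπ i j) c

include hij hjk hφ in
theorem quasiIso_surj (b : L.X j) (hb : L.d j k b = 0) :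
    ∃ a : K.X j, K.d j k a = 0 ∧ ∃ c : L.X i, L.d i j c = φ.f j a - b := by
  obtain ⟨z, rfl⟩ := exists_cycle L hjk b hb
  obtain ⟨h, hh⟩ := (ConcreteCategory.bijective_of_isIso (HomologicalComplex.homologyMap φ j)).2 (L.homologyπ j z)
  obtain ⟨w, rfl⟩ := (AddCommGrpCat.epi_iff_surjective (K.homologyπ j)).1 inferInstance h
  refine ⟨K.iCycles j w, ConcreteCategory.congr_hom (K.iCycles_d j k) w, ?_⟩
  obtain ⟨c, hc⟩ := exists_boundary L hij (HomologicalComplex.cyclesMap φ j w - z) (by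
    rw [map_sub, ← hh, sub_eq_zero]
    exact (ConcreteCategory.congr_hom (HomologicalComplex.homologyπ_naturality φ j) w).symm)
  refine ⟨c, hc.trans ((map_sub _ _ _).trans (congrArg (· - _) ?_))⟩
  exact ConcreteCategory.congr_hom (HomologicalComplex.cyclesMap_i φ j) w

include hij hjk hφ in
theorem quasiIso_inj (a : K.X j) (ha : K.d j k a = 0) (c : L.X i) (hc : L.d i j c = φ.f j a) :
    ∃ c' : K.X i, K.d i j c' = a := by
  obtain ⟨w, rfl⟩ := exists_cycle K hjk a ha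
  refine exists_boundary K hij w ((ConcreteCategory.bijective_of_isIso (HomologicalComplex.homologyMap φ j)).1 ?_)
  rw [map_zero]
  refine (ConcreteCategory.congr_hom (HomologicalComplex.homologyπ_naturality φ j) w).trans ?_
  exact homologyπ_d L _ c (hc.trans (ConcreteCategory.congr_hom (HomologicalComplex.cyclesMap_i φ j) w).symm)

end Elementwise

section Resolution

variable {C : Type v} [Category.{u} C] [Abelian C] {Y : C} (R : InjectiveResolution Y)

/-- Being a coboundary of the image of a resolution. -/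
def IsCob (Ψ : C ⥤ AddCommGrpCat.{u}) : ∀ n : ℕ, Ψ.obj (R.cocomplex.X n) → Prop
  | 0, s => s = 0
  | n + 1, s => ∃ c : Ψ.obj (R.cocomplex.X n), Ψ.map (R.cocomplex.d n (n + 1)) c = s

variable {R} in
lemma IsCob.map {Ψ Ψ' : C ⥤ AddCommGrpCat.{u}} (τ : Ψ ⟶ Ψ') : ∀ {n : ℕ} {s : Ψ.obj (R.cocomplex.X n)},
    IsCob R Ψ n s → IsCob R Ψ' n (τ.app _ s)
  | 0, _, h => (congrArg _ h).trans (map_zero _)
  | _ + 1, _, ⟨c, hc⟩ => ⟨τ.app _ c, (NatTrans.naturality_apply τ _ c).symm.trans (congrArg _ hc)⟩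

variable {Ψ₁ Ψ₂ : C ⥤ AddCommGrpCat.{u}} [Ψ₁.Additive] [Ψ₂.Additive] (τ : Ψ₁ ⟶ Ψ₂)
  [QuasiIso ((NatTrans.mapHomologicalComplex τ (ComplexShape.up ℤ)).app R.cochainComplex)]

lemma map_XIso (Ψ : C ⥤ AddCommGrpCat.{u}) (n m : ℕ) (x : Ψ.obj (R.cochainComplex.X n)) :
    Ψ.map (R.cochainComplexXIso m m rfl).hom (Ψ.map (R.cochainComplex.d n m) x) =
      Ψ.map (R.cocomplex.d n m) (Ψ.map (R.cochainComplexXIso n n rfl).hom x) := by
  rw [← ConcreteCategory.comp_apply, ← ConcreteCategory.comp_apply, ← Ψ.map_comp, ← Ψ.map_comp,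
    R.cochainComplex_d n m n m rfl rfl, Category.assoc, Category.assoc, Iso.inv_hom_id, Category.comp_id]

lemma map_XIso_inv (Ψ : C ⥤ AddCommGrpCat.{u}) (n m : ℕ) (x : Ψ.obj (R.cocomplex.X n)) :
    Ψ.map (R.cochainComplex.d n m) (Ψ.map (R.cochainComplexXIso n n rfl).inv x) =
      Ψ.map (R.cochainComplexXIso m m rfl).inv (Ψ.map (R.cocomplex.d n m) x) := by
  rw [← ConcreteCategory.comp_apply, ← ConcreteCategory.comp_apply, ← Ψ.map_comp, ← Ψ.map_comp,
    R.cochainComplex_d n m n m rfl rfl, Iso.inv_hom_id_assoc]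

theorem resolution_surj (n : ℕ) (b : Ψ₂.obj (R.cocomplex.X n)) (hb : Ψ₂.map (R.cocomplex.d n (n + 1)) b = 0) :
    ∃ a : Ψ₁.obj (R.cocomplex.X n), Ψ₁.map (R.cocomplex.d n (n + 1)) a = 0 ∧
      IsCob R Ψ₂ n (τ.app _ a - b) := by
  let φ := (NatTrans.mapHomologicalComplex τ (ComplexShape.up ℤ)).app R.cochainComplex
  obtain ⟨a, ha, c, hc⟩ := quasiIso_surj φ ((n : ℤ) - 1) n ((n + 1 : ℕ) : ℤ) (by omega) (by omega)
    (Ψ₂.map (R.cochainComplexXIso n n rfl).inv b)
    ((map_XIso_inv R Ψ₂ n (n + 1) b).trans ((congrArg _ hb).trans (map_zero _)))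
  change Ψ₁.obj (R.cochainComplex.X n) at a
  change Ψ₂.obj (R.cochainComplex.X ((n : ℤ) - 1)) at c
  have hc' : Ψ₂.map (R.cochainComplex.d ((n : ℤ) - 1) n) c =
      τ.app _ a - Ψ₂.map (R.cochainComplexXIso n n rfl).inv b := hc
  refine ⟨Ψ₁.map (R.cochainComplexXIso n n rfl).hom a,
    (map_XIso R Ψ₁ n (n + 1) a).symm.trans ((congrArg _ ha).trans (map_zero _)), ?_⟩
  have e : τ.app _ (Ψ₁.map (R.cochainComplexXIso n n rfl).hom a) - b =
      Ψ₂.map (R.cochainComplexXIso n n rfl).hom (Ψ₂.map (R.cochainComplex.d ((n : ℤ) - 1) n) c) := by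
    refine Eq.trans ?_ (congrArg _ hc').symm
    rw [map_sub, ← ConcreteCategory.comp_apply (Ψ₂.map _) (Ψ₂.map _) b, ← Ψ₂.map_comp, Iso.inv_hom_id, Ψ₂.map_id]
    exact congrArg (· - b) (NatTrans.naturality_apply τ _ a)
  rw [e]
  cases n with
  | zero =>
    change _ = (0 : Ψ₂.obj (R.cocomplex.X 0))
    haveI := AddCommGrpCat.subsingleton_of_isZero
      (Ψ₂.map_isZero (R.cochainComplex.isZero_of_isStrictlyGE 0 (((0 : ℕ) : ℤ) - 1) (by simp)))
    rw [Subsingleton.elim c 0, map_zero, map_zero]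
  | succ m =>
    have key : ∀ (q : ℤ) (c : Ψ₂.obj (R.cochainComplex.X q)), q = (m : ℤ) → IsCob R Ψ₂ (m + 1)
        (Ψ₂.map (R.cochainComplexXIso _ (m + 1) rfl).hom (Ψ₂.map (R.cochainComplex.d q ((m + 1 : ℕ) : ℤ)) c)) := by
      rintro _ c rfl
      exact ⟨_, (map_XIso R Ψ₂ m (m + 1) c).symm⟩
    exact key _ c (by omega)

theorem resolution_inj (n : ℕ) (a : Ψ₁.obj (R.cocomplex.X n)) (ha : Ψ₁.map (R.cocomplex.d n (n + 1)) a = 0)
    (h : IsCob R Ψ₂ n (τ.app _ a)) : IsCob R Ψ₁ n a := by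
  let φ := (NatTrans.mapHomologicalComplex τ (ComplexShape.up ℤ)).app R.cochainComplex
  have ha' : Ψ₁.map (R.cochainComplex.d n ((n + 1 : ℕ) : ℤ)) (Ψ₁.map (R.cochainComplexXIso n n rfl).inv a) = 0 :=
    (map_XIso_inv R Ψ₁ n (n + 1) a).trans ((congrArg _ ha).trans (map_zero _))
  have e : a = Ψ₁.map (R.cochainComplexXIso n n rfl).hom (Ψ₁.map (R.cochainComplexXIso n n rfl).inv a) := by
    rw [← ConcreteCategory.comp_apply, ← Ψ₁.map_comp, Iso.inv_hom_id, Ψ₁.map_id]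
    rfl
  have hτ : τ.app _ (Ψ₁.map (R.cochainComplexXIso n n rfl).inv a) =
      Ψ₂.map (R.cochainComplexXIso n n rfl).inv (τ.app _ a) := NatTrans.naturality_apply τ _ a
  cases n with
  | zero =>
    obtain ⟨c', hc'⟩ := quasiIso_inj φ (-1) ((0 : ℕ) : ℤ) ((0 + 1 : ℕ) : ℤ) (by simp) (by simp) _ ha' 0
      ((map_zero _).trans (hτ.trans ((congrArg _ h).trans (map_zero _))).symm)
    haveI : Subsingleton (Ψ₁.obj (R.cochainComplex.X (-1))) := AddCommGrpCat.subsingleton_of_isZero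
      (Ψ₁.map_isZero (R.cochainComplex.isZero_of_isStrictlyGE 0 (-1) (by simp)))
    have h0 : Ψ₁.map (R.cochainComplexXIso _ 0 rfl).inv a = 0 :=
      hc'.symm.trans ((congrArg _ (Subsingleton.elim (α := Ψ₁.obj (R.cochainComplex.X (-1))) c' 0)).trans (map_zero _))
    exact e.trans ((congrArg _ h0).trans (map_zero _))
  | succ m =>
    obtain ⟨c, hc⟩ := h
    obtain ⟨c', hc'⟩ := quasiIso_inj φ (m : ℤ) ((m + 1 : ℕ) : ℤ) ((m + 1 + 1 : ℕ) : ℤ) (by omega) (by omega) _ ha'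
      (Ψ₂.map (R.cochainComplexXIso m m rfl).inv c) ((map_XIso_inv R Ψ₂ m (m + 1) c).trans ((congrArg _ hc).trans hτ.symm))
    exact ⟨_, (map_XIso R Ψ₁ m (m + 1) c').symm.trans ((congrArg _ hc').trans e.symm)⟩

end Resolution

end Groth.Agent.CohTopBC.DescentSite
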