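import Mathlib
import Groth.Agent.CohTopBC.DescentBC

/-!
Cocycles near a fibre of a proper structure map on the site of subspaces.
-/

set_option autoImplicit false
universe u

open CategoryTheory CategoryTheory.Limits Opposite TopologicalSpace
open Groth.SiteCohomology
open Groth.Agent.CohDescent (gm gm_res gm_eq gm_map gm_surjective sect_ext res_res tau tau_gm bijective_tau pb pushGerm pushGerm_gm)

namespace Groth.Agent.CohTopBC.DescentSite

variable {S : TopCat.{u}} {ι : Type} {str : ι → Over S}

instance : HasInjectiveResolutions (Sh str) := inferInstance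

variable (str) in
/-- The part of a level over a subset of the base. -/
abbrev lvlObj (l : ι) (A : Set S) : Obj str := mk str l ((str l).hom ⁻¹' A)

variable (str) in
/-- Evaluation at an object. -/
noncomputable abbrev evalAt (a : Obj str) : Sh str ⥤ AddCommGrpCat.{u} :=
  sheafToPresheaf (topology str) AddCommGrpCat.{u} ⋙ (evaluation _ _).obj (op a)

instance (a : Obj str) : (evalAt str a).Additive where
  map_add {_ _ _ _} := rfl

/-- Restriction between evaluations. -/
noncomputable def evalRes {a b : Obj str} (g : b ⟶ a) : evalAt str a ⟶ evalAt str b where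
  app G := G.obj.map g.op
  naturality G G' φ := (φ.hom.naturality g.op).symm

section Fibre

/-- Global sections. -/
noncomputable abbrev secTop (T : TopCat.{u}) : CohTop.Ab T ⥤ AddCommGrpCat.{u} :=
  sheafToPresheaf (Opens.grothendieckTopology T) AddCommGrpCat.{u} ⋙ (evaluation _ _).obj (op (⊤ : Opens T))

instance {T : TopCat.{u}} : (secTop T).Additive where
  map_add {_ _ _ _} := rfl

variable {T : TopCat.{u}} [CompactSpace T] [T2Space T]

theorem rightAcyclic_of_soft (G : CohTop.Ab T) (hG : IsSoftSh G) : Groth.CohFin.RightAcyclic (secTop T) G := fun j => by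
  obtain ⟨e⟩ := nonempty_rightDerived_sections (T := T) (𝟭 (CohTop.Ab T))
    (fun I _ n => haveI := isFlasque_of_injective I; subsingleton_HU_succ_of_flasque I ⊤ n)
    (secTop T) (fun _ => Iso.refl _) (fun _ _ => rfl) G (j + 1)
  haveI : Subsingleton (CohTop.HU G (j + 1) ⊤) := subsingleton_ext_free_of_soft j _ hG
  have h : Subsingleton (CohTop.H G (j + 1)) := (HUTopEquiv _ (j + 1)).symm.subsingleton
  exact (@AddCommGrpCat.isZero_of_subsingleton _ h).of_iso e

variable (F : CohTop.Ab S) (R : InjectiveResolution (germSheaf str F)) {l : ι} {Tl : TopCat.{u}}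
  {i : Tl ⟶ (str l).left} (hi : Topology.IsEmbedding i) (j : T ⟶ Tl) (hj : Topology.IsEmbedding (j ≫ i))
  (hsep : ∀ z z' : T, z ≠ z' → ∃ U V : Set Tl, IsOpen U ∧ IsOpen V ∧ j z ∈ U ∧ j z' ∈ V ∧ Disjoint U V)
  (hjE : Topology.IsEmbedding j)

include hsep hjE in
theorem quasiIso_theta :
    QuasiIso ((NatTrans.mapHomologicalComplex (Functor.whiskerRight (theta hi j hj) (secTop T))
      (ComplexShape.up ℤ)).app R.cochainComplex) := by
  haveI : (CohTop.pull j).Additive := additive_inverseImage _
  haveI : PreservesFiniteColimits (CohTop.pull j) := preservesFiniteColimits_pull _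
  haveI : PreservesFiniteLimits (CohTop.pull j) := preservesFiniteLimits_pull _
  let ΦA := res hi ⋙ CohTop.pull j
  let ΦB := res hj
  haveI : PreservesFiniteLimits ΦA := comp_preservesFiniteLimits _ _
  haveI : PreservesFiniteColimits ΦA := comp_preservesFiniteColimits _ _
  haveI : ΦA.PreservesHomology := inferInstance
  haveI : ΦB.PreservesHomology := inferInstance
  let τ : ΦA ⟶ ΦB := theta hi j hj
  let N := NatTrans.mapHomologicalComplex τ (ComplexShape.up ℤ)
  haveI : QuasiIso ((ΦA.mapHomologicalComplex _).map R.ι') := inferInstance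
  haveI : QuasiIso ((ΦB.mapHomologicalComplex _).map R.ι') := inferInstance
  haveI : IsIso (N.app ((CochainComplex.singleFunctor (Sh str) 0).obj (germSheaf str F))) := by
    haveI : ∀ n, IsIso ((N.app ((CochainComplex.singleFunctor (Sh str) 0).obj (germSheaf str F))).f n) := fun n => by
      change IsIso (τ.app _)
      by_cases hn : n = 0
      · subst hn
        exact (NatTrans.isIso_app_iff_of_iso τ (HomologicalComplex.singleObjXSelf _ (0 : ℤ) (germSheaf str F))).2
          (isIso_theta_germSheaf F hi j hj)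
      · have hz : IsZero (((CochainComplex.singleFunctor (Sh str) 0).obj (germSheaf str F)).X n) :=
          HomologicalComplex.isZero_single_obj_X _ _ _ _ hn
        exact ⟨⟨0, (ΦA.map_isZero hz).eq_of_src _ _, (ΦB.map_isZero hz).eq_of_src _ _⟩⟩
    exact HomologicalComplex.Hom.isIso_of_components _
  haveI : QuasiIso ((ΦA.mapHomologicalComplex _).map R.ι' ≫ N.app R.cochainComplex) := by
    rw [N.naturality]
    infer_instance
  haveI : QuasiIso (N.app R.cochainComplex) := quasiIso_of_comp_left ((ΦA.mapHomologicalComplex _).map R.ι') _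
  haveI hA : CochainComplex.IsStrictlyGE ((ΦA.mapHomologicalComplex _).obj R.cochainComplex) 0 :=
    (CochainComplex.isStrictlyGE_iff _ _).2 fun n hn => ΦA.map_isZero (R.cochainComplex.isZero_of_isStrictlyGE 0 n hn)
  haveI hB : CochainComplex.IsStrictlyGE ((ΦB.mapHomologicalComplex _).obj R.cochainComplex) 0 :=
    (CochainComplex.isStrictlyGE_iff _ _).2 fun n hn => ΦB.map_isZero (R.cochainComplex.isZero_of_isStrictlyGE 0 n hn)
  exact Groth.Misc7.GSS.quasiIso_mapHomologicalComplex (secTop T) 0
    (fun n => rightAcyclic_of_soft _ (isSoftSh_pull_flasque j hjE hsep ((res hi).obj (R.cochainComplex.X n))))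
    (fun n => rightAcyclic_of_soft _ (isSoftSh_of_flasque ((res hj).obj (R.cochainComplex.X n))))
    (N.app R.cochainComplex)

end Fibre

section Near

variable (F : CohTop.Ab S) (R : InjectiveResolution (germSheaf str F)) (l : ι)

lemma sub_id (A : Set S) : (str l).hom ⁻¹' A ⊆ (𝟙 ((str l).left) : _ → (str l).left) '' ((str l).hom ⁻¹' A) :=
  fun w hw => ⟨w, hw, rfl⟩

lemma id_sub (A : Set S) : (𝟙 ((str l).left) : _ → (str l).left) '' ((str l).hom ⁻¹' A) ⊆ (str l).hom ⁻¹' A :=
  fun _ ⟨_, hw, e⟩ => e ▸ hw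

variable (str) in
/-- The inclusion of the part over a point. -/
def fibSub {A : Set S} {x : S} (hx : x ∈ A) : lvlObj str l {x} ⟶ lvlObj str l A :=
  incl (fun w (hw : (str l).hom w = x) => by change (str l).hom w ∈ A; rw [hw]; exact hx)

variable (hc : IsClosedMap (str l).hom) (x : S) (hK : IsCompact ((str l).hom ⁻¹' {x}))
  (hsep : ∀ z z' : (str l).left, (str l).hom z = (str l).hom z' → z ≠ z' →
    ∃ U V : Set (str l).left, IsOpen U ∧ IsOpen V ∧ z ∈ U ∧ z' ∈ V ∧ Disjoint U V)
include hc hK hsep

/-- Cocycles along a fibre extend to a neighbourhood up to coboundaries, uniquely up to coboundaries. -/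
theorem near_fibre (n : ℕ) :
    (∀ b : (evalAt str (lvlObj str l {x})).obj (R.cocomplex.X n),
      (evalAt str (lvlObj str l {x})).map (R.cocomplex.d n (n + 1)) b = 0 →
      ∃ (V : Opens S) (hx : x ∈ V) (a : (evalAt str (lvlObj str l V)).obj (R.cocomplex.X n)),
        (evalAt str (lvlObj str l V)).map (R.cocomplex.d n (n + 1)) a = 0 ∧
        IsCob R (evalAt str (lvlObj str l {x})) n
          ((evalRes (fibSub str l (A := (V : Set S)) hx)).app _ a - b)) ∧
    ∀ (V : Opens S) (hx : x ∈ V) (a : (evalAt str (lvlObj str l V)).obj (R.cocomplex.X n)),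
      (evalAt str (lvlObj str l V)).map (R.cocomplex.d n (n + 1)) a = 0 →
      IsCob R (evalAt str (lvlObj str l {x})) n ((evalRes (fibSub str l (A := (V : Set S)) hx)).app _ a) →
      ∃ (W : Opens S) (hW : W ≤ V), x ∈ W ∧ IsCob R (evalAt str (lvlObj str l W)) n
        ((evalRes (incl (Set.preimage_mono (f := (str l).hom) hW))).app _ a) := by
  let g : (str l).left ⟶ S := (str l).hom
  let Tl := (str l).left
  let j : TopCat.of (g ⁻¹' {x}) ⟶ Tl := fibIncl g x
  have hi : Topology.IsEmbedding (𝟙 Tl) := Topology.IsEmbedding.id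
  have hj : Topology.IsEmbedding (j ≫ 𝟙 Tl) := Topology.IsEmbedding.subtypeVal
  haveI : CompactSpace (TopCat.of (g ⁻¹' {x})) := isCompact_iff_compactSpace.1 hK
  have hsep' : ∀ z z' : TopCat.of (g ⁻¹' {x}), z ≠ z' →
      ∃ U V : Set Tl, IsOpen U ∧ IsOpen V ∧ j z ∈ U ∧ j z' ∈ V ∧ Disjoint U V := fun z z' h =>
    hsep z.1 z'.1 (Eq.trans z.2 (Eq.symm z'.2)) fun e => h (Subtype.ext e)
  haveI : T2Space (TopCat.of (g ⁻¹' {x})) := ⟨fun z z' h => by
    obtain ⟨U, V, hU, hV, hzU, hzV, hd⟩ := hsep' z z' h
    exact ⟨_, _, hU.preimage continuous_subtype_val, hV.preimage continuous_subtype_val, hzU, hzV, hd.preimage _⟩⟩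
  haveI := quasiIso_theta F R hi j hj hsep' Topology.IsEmbedding.subtypeVal
  let τ := Functor.whiskerRight (theta hi j hj) (secTop (TopCat.of (g ⁻¹' {x})))
  haveI : (CohTop.pull j).Additive := additive_inverseImage _
  haveI hadd₁ : ((res hi ⋙ CohTop.pull j) ⋙ secTop (TopCat.of (g ⁻¹' {x}))).Additive :=
    haveI : (res hi ⋙ CohTop.pull j).Additive := inferInstance
    inferInstance
  haveI hadd₂ : (res hj ⋙ secTop (TopCat.of (g ⁻¹' {x}))).Additive := { map_add := rfl }
  let J := R.cocomplex
  -- sections over a neighbourhood, as seen on the fibre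
  let sect : ∀ (V : Opens S), x ∈ V → ∀ G : Sh str, G.obj.obj (op (mk str l (𝟙 Tl '' ((Opens.map g).obj V : Set Tl)))) →
      (secTop _).obj ((res hi ⋙ CohTop.pull j).obj G) := fun V hV G s =>
    kappa g x ((res hi).obj G) (gm ((CohTop.push g).obj ((res hi).obj G)) x V hV s)
  have sect_nat : ∀ (V : Opens S) (hV : x ∈ V) (G G' : Sh str) (φ : G ⟶ G')
      (s : G.obj.obj (op (mk str l (𝟙 Tl '' ((Opens.map g).obj V : Set Tl))))),
      ((res hi ⋙ CohTop.pull j) ⋙ secTop _).map φ (sect V hV G s) = sect V hV G' (φ.hom.app _ s) := by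
    intro V hV G G' φ s
    dsimp only [sect]
    rw [kappa_gm, kappa_gm]
    refine (NatTrans.naturality_apply ((CohTop.pull j).map ((res hi).map φ)).hom (homOfLE (fib_le g x V hV)).op _).trans
      (congrArg _ ?_)
    exact ConcreteCategory.congr_hom (congrArg (fun k => k.hom.app (op ((Opens.map g).obj V)))
      ((pullPushAdj j).unit.naturality ((res hi).map φ))).symm s
  -- the value on the fibre
  have subj : (j ≫ 𝟙 Tl) '' ((⊤ : Opens (TopCat.of (g ⁻¹' {x}))) : Set (TopCat.of (g ⁻¹' {x}))) ⊆ g ⁻¹' {x} := by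
    rintro _ ⟨z, -, rfl⟩
    exact z.2
  have jsub : g ⁻¹' {x} ⊆ (j ≫ 𝟙 Tl) '' ((⊤ : Opens (TopCat.of (g ⁻¹' {x}))) : Set (TopCat.of (g ⁻¹' {x}))) :=
    fun z hz => ⟨⟨z, hz⟩, trivial, rfl⟩
  let e₁ : res hj ⋙ secTop _ ⟶ evalAt str (lvlObj str l {x}) :=
    { app := fun G => G.obj.map (incl jsub).op
      naturality := fun G G' φ => (φ.hom.naturality (incl jsub).op).symm }
  let e₂ : evalAt str (lvlObj str l {x}) ⟶ res hj ⋙ secTop _ :=
    { app := fun G => G.obj.map (incl subj).op
      naturality := fun G G' φ => (φ.hom.naturality (incl subj).op).symm }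
  have e_e : ∀ G (b : G.obj.obj (op (lvlObj str l {x}))), e₁.app G (e₂.app G b) = b := fun G b => by
    refine (map_map G (incl subj) (incl jsub) b).trans ?_
    change G.obj.map (𝟙 _) b = b
    rw [G.obj.map_id]
    rfl
  have sect_val : ∀ (V : Opens S) (hV : x ∈ V) (G : Sh str)
      (s : G.obj.obj (op (mk str l (𝟙 Tl '' ((Opens.map g).obj V : Set Tl))))),
      e₁.app G (τ.app G (sect V hV G s)) =
        G.obj.map (fibSub str l (A := (V : Set S)) hV).op (G.obj.map (incl (sub_id l V)).op s) := by
    intro V hV G s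
    dsimp only [sect]
    rw [kappa_gm]
    refine (congrArg (e₁.app G) ((NatTrans.naturality_apply ((theta hi j hj).app G).hom
      (homOfLE (fib_le g x V hV)).op _).trans (congrArg _ (theta_pb hi j hj G ((Opens.map g).obj V) s)))).trans ?_
    exact (congrArg (G.obj.map (incl jsub).op) (map_map G (incl (image_sub (i := 𝟙 Tl) j ((Opens.map g).obj V)))
      ((openFun (j ≫ 𝟙 Tl)).map (homOfLE (fib_le g x V hV))) s)).trans ((map_map G _ _ s).trans
        (map_map G (incl (sub_id l (V : Set S))) (fibSub str l (A := (V : Set S)) hV) s).symm)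
  refine ⟨fun b hb => ?_, fun V hx a ha hcob => ?_⟩
  · obtain ⟨a₀, ha₀, hcob⟩ := resolution_surj R τ n (e₂.app _ b)
      ((NatTrans.naturality_apply e₂ (J.d n (n + 1)) b).symm.trans ((congrArg _ hb).trans (map_zero _)))
    obtain ⟨α, rfl⟩ := (bijective_kappa g hc x hK hsep ((res hi).obj (J.X n))).2 a₀
    obtain ⟨V, hV, s, rfl⟩ := gm_surjective _ x α
    have h0 : gm ((CohTop.push g).obj ((res hi).obj (J.X (n + 1)))) x V hV ((J.d n (n + 1)).hom.app _ s) =
        gm ((CohTop.push g).obj ((res hi).obj (J.X (n + 1)))) x V hV 0 := by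
      refine ((bijective_kappa g hc x hK hsep ((res hi).obj (J.X (n + 1)))).1 ?_).trans (map_zero _).symm
      exact ((sect_nat V hV _ _ (J.d n (n + 1)) s).symm.trans ha₀).trans (map_zero _).symm
    obtain ⟨W, hW, hxW, e⟩ := gm_eq _ _ _ _ _ h0
    let k : lvlObj str l (W : Set S) ⟶ mk str l (𝟙 Tl '' ((Opens.map g).obj V : Set Tl)) :=
      incl ((Set.preimage_mono (f := g) hW).trans (sub_id l (V : Set S)))
    refine ⟨W, hxW, (J.X n).obj.map k.op s, ?_, ?_⟩
    · refine (NatTrans.naturality_apply (J.d n (n + 1)).hom k.op s).trans ?_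
      have e' := congrArg ((J.X (n + 1)).obj.map (incl (sub_id l (W : Set S))).op) e
      refine (map_map (J.X (n + 1)) ((openFun (𝟙 Tl)).map ((Opens.map g).map (homOfLE hW)))
        (incl (sub_id l (W : Set S))) _).symm.trans (e'.trans ?_)
      exact (congrArg ((J.X (n + 1)).obj.map (incl (sub_id l (W : Set S))).op)
        (map_zero (((CohTop.push g).obj ((res hi).obj (J.X (n + 1)))).obj.map (homOfLE hW).op).hom)).trans
          (map_zero ((J.X (n + 1)).obj.map (incl (sub_id l (W : Set S))).op).hom)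
    · have hb' := IsCob.map e₁ hcob
      rw [map_sub, e_e] at hb'
      convert hb' using 2
      refine Eq.trans ?_ (sect_val V hV _ s).symm
      exact (map_map _ _ _ s).trans (map_map _ (incl (sub_id l (V : Set S))) (fibSub str l (A := (V : Set S)) hV) s).symm
  · let s : (J.X n).obj.obj (op (mk str l (𝟙 Tl '' ((Opens.map g).obj V : Set Tl)))) :=
      (J.X n).obj.map (incl (id_sub l (V : Set S))).op a
    have hs : (J.d n (n + 1)).hom.app _ s = 0 := by
      refine (NatTrans.naturality_apply (J.d n (n + 1)).hom (incl (id_sub l (V : Set S))).op a).trans ?_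
      exact (congrArg _ ha).trans (map_zero _)
    have hd : ((res hi ⋙ CohTop.pull j) ⋙ secTop _).map (J.d n (n + 1)) (sect V hx _ s) = 0 := by
      rw [sect_nat, hs]
      exact (congrArg _ (map_zero _)).trans (map_zero (kappa g x ((res hi).obj (J.X (n + 1)))).hom)
    have hτ : τ.app _ (sect V hx _ s) = e₂.app _ ((evalRes (fibSub str l (A := (V : Set S)) hx)).app _ a) := by
      dsimp only [sect]
      rw [kappa_gm]
      refine ((NatTrans.naturality_apply ((theta hi j hj).app _).hom (homOfLE (fib_le g x V hx)).op _).trans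
        (congrArg _ (theta_pb hi j hj _ ((Opens.map g).obj V) s))).trans ?_
      exact ((congrArg _ (map_map _ _ _ a)).trans (map_map _ _ _ a)).trans
        (map_map _ (fibSub str l (A := (V : Set S)) hx) (incl subj) a).symm
    have hA : IsCob R ((res hi ⋙ CohTop.pull j) ⋙ secTop _) n (sect V hx _ s) :=
      resolution_inj R τ n _ hd (hτ.symm ▸ IsCob.map e₂ hcob)
    cases n with
    | zero =>
      have h0 : gm ((CohTop.push g).obj ((res hi).obj (J.X 0))) x V hx s =
          gm ((CohTop.push g).obj ((res hi).obj (J.X 0))) x V hx 0 := by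
        refine ((bijective_kappa g hc x hK hsep ((res hi).obj (J.X 0))).1 ?_).trans (map_zero _).symm
        exact hA.trans (map_zero _).symm
      obtain ⟨W, hW, hxW, e⟩ := gm_eq _ _ _ _ _ h0
      refine ⟨W, hW, hxW, ?_⟩
      have e' := congrArg ((J.X 0).obj.map (incl (sub_id l (W : Set S))).op) e
      replace e' := e'.trans ((congrArg ((J.X 0).obj.map (incl (sub_id l (W : Set S))).op)
        (map_zero (((CohTop.push g).obj ((res hi).obj (J.X 0))).obj.map (homOfLE hW).op).hom)).trans
          (map_zero ((J.X 0).obj.map (incl (sub_id l (W : Set S))).op).hom))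
      refine Eq.trans ?_ e'
      refine Eq.symm ((congrArg ((J.X 0).obj.map (incl (sub_id l (W : Set S))).op)
        (map_map (J.X 0) (incl (id_sub l (V : Set S))) ((openFun (𝟙 Tl)).map ((Opens.map g).map (homOfLE hW))) a)).trans
        (map_map (J.X 0) _ (incl (sub_id l (W : Set S))) a))
    | succ m =>
      obtain ⟨c₀, hc₀⟩ := hA
      obtain ⟨γ, rfl⟩ := (bijective_kappa g hc x hK hsep ((res hi).obj (J.X m))).2 c₀
      obtain ⟨V', hV', c, rfl⟩ := gm_surjective _ x γ
      let I := V ⊓ V'
      have hxI : x ∈ I := ⟨hx, hV'⟩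
      have h0 : gm ((CohTop.push g).obj ((res hi).obj (J.X (m + 1)))) x I hxI
            (((CohTop.push g).obj ((res hi).obj (J.X (m + 1)))).obj.map (homOfLE (inf_le_right : I ≤ V')).op
              ((J.d m (m + 1)).hom.app _ c)) =
          gm ((CohTop.push g).obj ((res hi).obj (J.X (m + 1)))) x I hxI
            (((CohTop.push g).obj ((res hi).obj (J.X (m + 1)))).obj.map (homOfLE (inf_le_left : I ≤ V)).op s) := by
        refine (gm_res _ _ inf_le_right hxI _).trans (Eq.trans ?_ (gm_res _ _ inf_le_left hxI _).symm)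
        exact (bijective_kappa g hc x hK hsep ((res hi).obj (J.X (m + 1)))).1
          ((sect_nat V' hV' _ _ (J.d m (m + 1)) c).symm.trans hc₀)
      obtain ⟨W, hW, hxW, e⟩ := gm_eq _ _ _ _ _ h0
      refine ⟨W, hW.trans inf_le_left, hxW,
        (J.X m).obj.map (incl ((Set.preimage_mono (f := g) (hW.trans inf_le_right)).trans (sub_id l (V' : Set S)))).op c, ?_⟩
      have e' := congrArg ((J.X (m + 1)).obj.map (incl (sub_id l (W : Set S))).op) e
      refine (NatTrans.naturality_apply (J.d m (m + 1)).hom _ c).trans (Eq.trans ?_ (e'.trans ?_))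
      · exact ((congrArg ((J.X (m + 1)).obj.map (incl (sub_id l (W : Set S))).op)
          (map_map (J.X (m + 1)) ((openFun (𝟙 Tl)).map ((Opens.map g).map (homOfLE (inf_le_right : I ≤ V'))))
            ((openFun (𝟙 Tl)).map ((Opens.map g).map (homOfLE hW))) _)).trans
          (map_map (J.X (m + 1)) _ (incl (sub_id l (W : Set S))) _)).symm
      · refine (congrArg ((J.X (m + 1)).obj.map (incl (sub_id l (W : Set S))).op)
          ((congrArg ((J.X (m + 1)).obj.map ((openFun (𝟙 Tl)).map ((Opens.map g).map (homOfLE hW))).op)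
            (map_map (J.X (m + 1)) (incl (id_sub l (V : Set S)))
              ((openFun (𝟙 Tl)).map ((Opens.map g).map (homOfLE (inf_le_left : I ≤ V)))) a)).trans
            (map_map (J.X (m + 1)) _ ((openFun (𝟙 Tl)).map ((Opens.map g).map (homOfLE hW))) a))).trans ?_
        exact map_map (J.X (m + 1)) _ (incl (sub_id l (W : Set S))) a

end Near

end Groth.Agent.CohTopBC.DescentSite
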