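import Mathlib
import Groth.Agent.SiteCohomology.AcyclicResolution

/-!
Ext groups out of a system of objects near a limit index, and their behaviour in resolutions.
-/

set_option autoImplicit false
universe u v w

open CategoryTheory CategoryTheory.Limits CategoryTheory.Abelian
open Groth.SiteCohomology

namespace Groth.Agent.CohTopBC.NearExt

variable {A : Type v} [Category.{u} A] [Abelian A] [HasExt.{w} A] (G : A) {K : Type u} [Preorder K]

/-- The restriction on Ext groups. -/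
noncomputable abbrev res (M : K ⥤ A) {a b : K} (h : a ≤ b) (n : ℕ) : Ext (M.obj b) G n →+ Ext (M.obj a) G n :=
  (Ext.mk₀ (M.map (homOfLE h))).precomp G (zero_add n)

lemma res_res (M : K ⥤ A) {a b c : K} (h : a ≤ b) (h' : b ≤ c) (n : ℕ) (β : Ext (M.obj c) G n) :
    res G M h n (res G M h' n β) = res G M (h.trans h') n β := by
  change (Ext.mk₀ _).comp ((Ext.mk₀ _).comp β (zero_add n)) (zero_add n) = _
  rw [Ext.mk₀_comp_mk₀_assoc, ← Functor.map_comp]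
  rfl

/-- The map induced by a natural transformation. -/
noncomputable abbrev pre {M M' : K ⥤ A} (φ : M' ⟶ M) (a : K) (n : ℕ) : Ext (M.obj a) G n →+ Ext (M'.obj a) G n :=
  (Ext.mk₀ (φ.app a)).precomp G (zero_add n)

lemma res_pre {M M' : K ⥤ A} (φ : M' ⟶ M) {a b : K} (h : a ≤ b) (n : ℕ) (β : Ext (M.obj b) G n) :
    res G M' h n (pre G φ b n β) = pre G φ a n (res G M h n β) := by
  change (Ext.mk₀ _).comp ((Ext.mk₀ _).comp β (zero_add n)) (zero_add n) =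
    (Ext.mk₀ _).comp ((Ext.mk₀ _).comp β (zero_add n)) (zero_add n)
  rw [Ext.mk₀_comp_mk₀_assoc, Ext.mk₀_comp_mk₀_assoc, φ.naturality]

variable (x₀ : K) (N : Set K)

/-- Classes at the limit index come from nearby indices. -/
def Surj (M : K ⥤ A) (n : ℕ) : Prop :=
  ∀ α : Ext (M.obj x₀) G n, ∃ k ∈ N, ∃ (h : x₀ ≤ k) (β : Ext (M.obj k) G n), res G M h n β = α

/-- Classes vanishing at the limit index vanish nearby. -/
def Inj (M : K ⥤ A) (n : ℕ) : Prop :=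
  ∀ k ∈ N, ∀ (h : x₀ ≤ k) (β : Ext (M.obj k) G n), res G M h n β = 0 →
    ∃ k' ∈ N, ∃ h' : k' ≤ k, res G M h' n β = 0

variable {G x₀ N} in
lemma Surj.of_iso {M M' : K ⥤ A} (e : M ≅ M') {n : ℕ} (hM : Surj G x₀ N M n) : Surj G x₀ N M' n := fun α => by
  obtain ⟨k, hk, h, β, hβ⟩ := hM (pre G e.hom x₀ n α)
  refine ⟨k, hk, h, pre G e.inv k n β, ?_⟩
  rw [res_pre, hβ]
  change (Ext.mk₀ _).comp ((Ext.mk₀ _).comp α (zero_add n)) (zero_add n) = _
  rw [Ext.mk₀_comp_mk₀_assoc, e.inv_hom_id_app, Ext.mk₀_id_comp]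

variable {G x₀ N} in
lemma Inj.of_iso {M M' : K ⥤ A} (e : M ≅ M') {n : ℕ} (hM : Inj G x₀ N M n) : Inj G x₀ N M' n := fun k hk h β hβ => by
  obtain ⟨k', hk', h', he⟩ := hM k hk h (pre G e.hom k n β) (by rw [res_pre, hβ, map_zero])
  refine ⟨k', hk', h', ?_⟩
  rw [res_pre] at he
  have e2 := congrArg (pre G e.inv k' n) he
  rw [map_zero] at e2
  refine Eq.trans ?_ e2
  change _ = (Ext.mk₀ _).comp ((Ext.mk₀ _).comp _ (zero_add n)) (zero_add n)
  rw [Ext.mk₀_comp_mk₀_assoc, e.inv_hom_id_app, Ext.mk₀_id_comp]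

variable (hle : ∀ k ∈ N, x₀ ≤ k) (hdir : ∀ k ∈ N, ∀ k' ∈ N, ∃ k'' ∈ N, k'' ≤ k ∧ k'' ≤ k')

section SES

variable {M₁ M₂ M₃ : K ⥤ A} (f : M₁ ⟶ M₂) (g : M₂ ⟶ M₃) (w : f ≫ g = 0)
  (hS : ∀ a, (ShortComplex.mk (f.app a) (g.app a) (by rw [← NatTrans.comp_app, w]; rfl)).ShortExact)

/-- The connecting map. -/
noncomputable abbrev delta (a : K) (n m : ℕ) (hm : 1 + n = m) : Ext (M₁.obj a) G n →+ Ext (M₃.obj a) G m :=
  (hS a).extClass.precomp G hm

lemma res_delta {a b : K} (h : a ≤ b) (n m : ℕ) (hm : 1 + n = m) (β : Ext (M₁.obj b) G n) :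
    res G M₃ h m (delta G f g w hS b n m hm β) = delta G f g w hS a n m hm (res G M₁ h n β) := by
  change (Ext.mk₀ _).comp ((hS b).extClass.comp β hm) (zero_add m) =
    (hS a).extClass.comp ((Ext.mk₀ _).comp β (zero_add n)) hm
  rw [← Ext.comp_assoc _ _ _ (zero_add 1) hm (by omega),
    ← Ext.comp_assoc _ _ _ (add_zero 1) (zero_add n) (by omega)]
  let ψ : ShortComplex.mk (f.app a) (g.app a) (by rw [← NatTrans.comp_app, w]; rfl) ⟶
      ShortComplex.mk (f.app b) (g.app b) (by rw [← NatTrans.comp_app, w]; rfl) :=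
    { τ₁ := M₁.map (homOfLE h), τ₂ := M₂.map (homOfLE h), τ₃ := M₃.map (homOfLE h)
      comm₁₂ := f.naturality _
      comm₂₃ := g.naturality _ }
  exact congrArg (fun z => Ext.comp z β hm) (ShortComplex.ShortExact.extClass_naturality (hS a) (hS b) ψ).symm

include hS hle hdir

theorem inj_zero (h₂ : Inj G x₀ N M₂ 0) : Inj G x₀ N M₃ 0 := fun k hk h β hβ => by
  obtain ⟨k', hk', h', he⟩ := h₂ k hk h (pre G g k 0 β) (by rw [res_pre, hβ, map_zero])
  rw [res_pre] at he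
  haveI : Epi (g.app k') := (hS k').epi_g
  exact ⟨k', hk', h', Ext.precomp_mk₀_injective_of_epi G (g.app k') (he.trans (map_zero _).symm)⟩

theorem inj_succ (n : ℕ) (h₂ : Inj G x₀ N M₂ (n + 1)) (h₂' : Surj G x₀ N M₂ n) (h₁ : Inj G x₀ N M₁ n)
    (h₁' : Surj G x₀ N M₁ n) : Inj G x₀ N M₃ (n + 1) := fun k hk h β hβ => by
  obtain ⟨k₁, hk₁, h₁k, he⟩ := h₂ k hk h (pre G g k (n + 1) β) (by rw [res_pre, hβ, map_zero])
  rw [res_pre] at he
  obtain ⟨e, hec⟩ := Ext.contravariant_sequence_exact₃ (hS k₁) G _ he (n₀ := n) (by omega)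
  have hx : delta G f g w hS x₀ n (n + 1) (by omega) (res G M₁ (hle _ hk₁) n e) = 0 := by
    rw [← res_delta]
    exact (congrArg (res G M₃ (hle _ hk₁) (n + 1)) hec).trans ((res_res G M₃ _ _ _ _).trans hβ)
  obtain ⟨c, hc⟩ := Ext.contravariant_sequence_exact₁ (hS x₀) G _ (n₁ := n + 1) (by omega) hx
  obtain ⟨k₂, hk₂, h₂k, c', hc'⟩ := h₂' c
  obtain ⟨k₃, hk₃, h₃₁, h₃₂⟩ := hdir _ hk₁ _ hk₂
  obtain ⟨k₄, hk₄, h₄₃, hd⟩ := h₁ k₃ hk₃ (hle _ hk₃)
    (res G M₁ h₃₁ n e - pre G f k₃ n (res G M₂ h₃₂ n c')) (by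
      rw [map_sub, res_res, res_pre, res_res, hc', sub_eq_zero]
      exact hc.symm)
  refine ⟨k₄, hk₄, h₄₃.trans (h₃₁.trans h₁k), ?_⟩
  rw [map_sub, res_res, res_pre, res_res, sub_eq_zero] at hd
  rw [← res_res G M₃ (h₄₃.trans h₃₁) h₁k, ← show delta G f g w hS k₁ n (n + 1) (by omega) e = _ from hec, res_delta, hd]
  exact (hS k₄).extClass_comp_assoc _ (h := Nat.add_comm 1 n)

theorem surj_zero (h₂ : Surj G x₀ N M₂ 0) (h₁ : Inj G x₀ N M₁ 0) : Surj G x₀ N M₃ 0 := fun α => by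
  obtain ⟨k, hk, h, b, hb⟩ := h₂ (pre G g x₀ 0 α)
  have hfg : ∀ a (z : Ext (M₃.obj a) G 0), pre G f a 0 (pre G g a 0 z) = 0 := fun a z => by
    change (Ext.mk₀ _).comp ((Ext.mk₀ _).comp z (zero_add 0)) (zero_add 0) = 0
    rw [Ext.mk₀_comp_mk₀_assoc, ← NatTrans.comp_app, w]
    change (Ext.mk₀ (0 : M₁.obj a ⟶ M₃.obj a)).comp z (zero_add 0) = 0
    simp
  obtain ⟨k', hk', h', he⟩ := h₁ k hk h (pre G f k 0 b) (by rw [res_pre, hb, hfg])
  rw [res_pre] at he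
  obtain ⟨c, hc⟩ := Ext.contravariant_sequence_exact₂ (hS k') G _ he
  refine ⟨k', hk', hle _ hk', c, ?_⟩
  haveI : Epi (g.app x₀) := (hS x₀).epi_g
  refine Ext.precomp_mk₀_injective_of_epi G (g.app x₀) ?_
  change pre G g x₀ 0 _ = pre G g x₀ 0 α
  rw [← res_pre, show pre G g k' 0 c = _ from hc, res_res, hb]

theorem surj_succ (n : ℕ) (h₂ : Surj G x₀ N M₂ (n + 1)) (h₁ : Inj G x₀ N M₁ (n + 1)) (h₁' : Surj G x₀ N M₁ n) :
    Surj G x₀ N M₃ (n + 1) := fun α => by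
  obtain ⟨k, hk, h, b, hb⟩ := h₂ (pre G g x₀ (n + 1) α)
  have hfg : ∀ a (z : Ext (M₃.obj a) G (n + 1)), pre G f a (n + 1) (pre G g a (n + 1) z) = 0 := fun a z => by
    change (Ext.mk₀ _).comp ((Ext.mk₀ _).comp z (zero_add (n + 1))) (zero_add (n + 1)) = 0
    rw [Ext.mk₀_comp_mk₀_assoc, ← NatTrans.comp_app, w]
    change (Ext.mk₀ (0 : M₁.obj a ⟶ M₃.obj a)).comp z (zero_add (n + 1)) = 0
    simp
  obtain ⟨k', hk', h', he⟩ := h₁ k hk h (pre G f k (n + 1) b) (by rw [res_pre, hb, hfg])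
  rw [res_pre] at he
  obtain ⟨c, hc⟩ := Ext.contravariant_sequence_exact₂ (hS k') G _ he
  have hx : (Ext.mk₀ (g.app x₀)).comp (α - res G M₃ (hle _ hk') (n + 1) c) (zero_add (n + 1)) = 0 := by
    change pre G g x₀ (n + 1) _ = 0
    rw [map_sub, ← res_pre, show pre G g k' (n + 1) c = _ from hc, res_res, ← hb, sub_self]
  obtain ⟨e, hec⟩ := Ext.contravariant_sequence_exact₃ (hS x₀) G _ hx (n₀ := n) (by omega)
  obtain ⟨k₂, hk₂, h₂k, e', he'⟩ := h₁' e
  obtain ⟨k₃, hk₃, h₃₁, h₃₂⟩ := hdir _ hk' _ hk₂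
  refine ⟨k₃, hk₃, hle _ hk₃, res G M₃ h₃₁ (n + 1) c +
    res G M₃ h₃₂ (n + 1) (delta G f g w hS k₂ n (n + 1) (by omega) e'), ?_⟩
  rw [map_add, res_res, res_res, res_delta, he', show delta G f g w hS x₀ n (n + 1) (by omega) e = _ from hec,
    add_sub_cancel]

end SES

variable {N}

lemma exact_eval {S : ShortComplex (K ⥤ A)} (h : ∀ a, (S.map ((evaluation K A).obj a)).Exact) : S.Exact := by
  rw [S.exact_iff_isZero_homology]
  exact Functor.isZero _ fun a =>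
    ((ShortComplex.exact_iff_isZero_homology _).1 (h a)).of_iso (S.mapHomologyIso ((evaluation K A).obj a)).symm

lemma isResolution'_eval (C : ℕ → K ⥤ A) (d : ∀ n, C (n + 1) ⟶ C n) {Q : K ⥤ A} (ε : C 0 ⟶ Q)
    (h : ∀ a, AcyclicRes.IsResolution' (fun n => (C n).obj a) (fun n => (d n).app a) (ε.app a)) :
    AcyclicRes.IsResolution' C d ε where
  epi := haveI := fun a => (h a).epi; NatTrans.epi_of_epi_app ε
  zero₀ := NatTrans.ext (funext fun a => (h a).zero₀)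
  exact₀ := exact_eval fun a => (h a).exact₀
  zero n := NatTrans.ext (funext fun a => (h a).zero n)
  exact n := exact_eval fun a => (h a).exact n

include hle hdir

/-- Good behaviour passes along resolutions. -/
theorem near_of_resolution [HasExt.{max u v} (K ⥤ A)] : ∀ (n : ℕ) (C : ℕ → K ⥤ A) (d : ∀ p, C (p + 1) ⟶ C p) (Q : K ⥤ A) (ε : C 0 ⟶ Q),
    AcyclicRes.IsResolution' C d ε → (∀ p m, Inj G x₀ N (C p) m ∧ Surj G x₀ N (C p) m) →
    Inj G x₀ N Q n ∧ Surj G x₀ N Q n := by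
  intro n
  induction n with
  | zero =>
    intro C d Q ε h hC
    have key : ∀ (C : ℕ → K ⥤ A) (d : ∀ p, C (p + 1) ⟶ C p) (Q : K ⥤ A) (ε : C 0 ⟶ Q),
        AcyclicRes.IsResolution' C d ε → (∀ p m, Inj G x₀ N (C p) m ∧ Surj G x₀ N (C p) m) →
        Inj G x₀ N Q 0 := fun C d Q ε h hC => by
      haveI := h.epi
      exact inj_zero G x₀ N hle hdir (kernel.ι ε) ε (kernel.condition ε)
        (fun a => (AcyclicRes.shortExact_kernel C ε).map_of_exact ((evaluation K A).obj a)) (hC 0 0).1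
    haveI := h.epi
    exact ⟨key C d Q ε h hC, surj_zero G x₀ N hle hdir (kernel.ι ε) ε (kernel.condition ε)
      (fun a => (AcyclicRes.shortExact_kernel C ε).map_of_exact ((evaluation K A).obj a)) (hC 0 0).2
      (key _ _ _ _ h.tail fun p m => hC (p + 1) m)⟩
  | succ n ih =>
    intro C d Q ε h hC
    have key : ∀ (C : ℕ → K ⥤ A) (d : ∀ p, C (p + 1) ⟶ C p) (Q : K ⥤ A) (ε : C 0 ⟶ Q),
        AcyclicRes.IsResolution' C d ε → (∀ p m, Inj G x₀ N (C p) m ∧ Surj G x₀ N (C p) m) →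
        Inj G x₀ N Q (n + 1) := fun C d Q ε h hC => by
      haveI := h.epi
      obtain ⟨hi, hs⟩ := ih _ _ _ _ h.tail fun p m => hC (p + 1) m
      exact inj_succ G x₀ N hle hdir (kernel.ι ε) ε (kernel.condition ε)
        (fun a => (AcyclicRes.shortExact_kernel C ε).map_of_exact ((evaluation K A).obj a)) n
        (hC 0 (n + 1)).1 (hC 0 n).2 hi hs
    haveI := h.epi
    exact ⟨key C d Q ε h hC, surj_succ G x₀ N hle hdir (kernel.ι ε) ε (kernel.condition ε)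
      (fun a => (AcyclicRes.shortExact_kernel C ε).map_of_exact ((evaluation K A).obj a)) n (hC 0 (n + 1)).2
      (key _ _ _ _ h.tail fun p m => hC (p + 1) m) (ih _ _ _ _ h.tail fun p m => hC (p + 1) m).2⟩

end Groth.Agent.CohTopBC.NearExt
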