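import Mathlib
import Groth.Agent.CohTopBC.DescentStalk
import Groth.Agent.CohTopBC.NearExt
import Groth.Agent.CohDescent.LocalHomeoDescent

/-!
The site attached to a proper surjection: levels, the nerve, and classes near a point of the base.
-/

set_option autoImplicit false
universe u

open CategoryTheory CategoryTheory.Limits Opposite TopologicalSpace Simplicial
open CategoryTheory.Abelian
open Groth.SiteCohomology
open Groth.Agent.CohDescent (powBase apply_π gm)

namespace Groth.Agent.CohTopBC.DescentSite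

variable {X S : TopCat.{u}} (f : X ⟶ S)

/-- The base and the fibre powers. -/
noncomputable def lvls (l : Option ℕ) : Over S :=
  l.elim (Over.mk (𝟙 S)) fun p => Over.mk (powBase f p)

theorem isProperMap_powBase (hf : IsProperMap f) (p : ℕ) : IsProperMap (powBase f p) := by
  refine isProperMap_iff_ultrafilter.2 ⟨(powBase f p).hom.continuous, fun 𝒰 y hy => ?_⟩
  let π := fun i => WidePullback.π (fun _ : Fin (p + 1) => f) i
  have hx : ∀ i, ∃ x, f x = y ∧ Filter.Tendsto (π i) 𝒰 (nhds x) := fun i => by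
    have h1 : Filter.Tendsto f (𝒰.map (π i) : Filter X) (nhds y) := by
      change Filter.map f (Filter.map (π i) 𝒰) ≤ _
      rw [Filter.map_map, show (f : X → S) ∘ π i = powBase f p from funext (apply_π f p i)]
      exact hy
    obtain ⟨x, hx, hlim⟩ := (isProperMap_iff_ultrafilter.1 hf).2 h1
    exact ⟨x, hx, hlim⟩
  choose x hx hlim using hx
  let P := TopCat.of PUnit.{u + 1}
  let b : P ⟶ S := TopCat.ofHom ⟨fun _ => y, continuous_const⟩
  let l := WidePullback.lift (arrows := fun _ : Fin (p + 1) => f) b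
    (fun i => TopCat.ofHom ⟨fun _ => x i, continuous_const⟩) fun i => TopCat.hom_ext (ContinuousMap.ext fun _ => hx i)
  refine ⟨l PUnit.unit, ConcreteCategory.congr_hom (WidePullback.lift_base (arrows := fun _ : Fin (p + 1) => f) b _ _) _, ?_⟩
  rw [congrArg (fun t => @nhds _ t (l PUnit.unit))
      (TopCat.limit_topology (WidePullbackShape.wideCospan S (fun _ : Fin (p + 1) => X) fun _ => f)),
    nhds_iInf, le_iInf_iff]
  rintro (_ | i)
  · rw [nhds_induced, ← Filter.map_le_iff_le_comap]
    have h0 : (l PUnit.unit |> powBase f p) = y :=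
      ConcreteCategory.congr_hom (WidePullback.lift_base (arrows := fun _ : Fin (p + 1) => f) b _ _) _
    change Filter.map (powBase f p) 𝒰 ≤ nhds (powBase f p (l PUnit.unit))
    rw [h0]
    exact hy
  · rw [nhds_induced, ← Filter.map_le_iff_le_comap]
    have h0 : π i (l PUnit.unit) = x i :=
      ConcreteCategory.congr_hom (WidePullback.lift_π (arrows := fun _ : Fin (p + 1) => f) b _ _ i) _
    change Filter.map (π i) 𝒰 ≤ nhds (π i (l PUnit.unit))
    rw [h0]
    exact hlim i

variable {f} (hf : IsProperMap f)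
  (hs : ∀ x x' : X, f x = f x' → x ≠ x' → ∃ U V : Set X, IsOpen U ∧ IsOpen V ∧ x ∈ U ∧ x' ∈ V ∧ Disjoint U V)

include hf in
lemma isProperMap_lvls (l : Option ℕ) : IsProperMap (lvls f l).hom := by
  cases l with
  | none => exact isProperMap_id
  | some p => exact isProperMap_powBase f hf p

include hs in
lemma sep_lvls (l : Option ℕ) : ∀ (z z' : (lvls f l).left), (lvls f l).hom z = (lvls f l).hom z' → z ≠ z' →
    ∃ U V : Set (lvls f l).left, IsOpen U ∧ IsOpen V ∧ z ∈ U ∧ z' ∈ V ∧ Disjoint U V := by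
  cases l with
  | none => exact fun _ _ h hne => absurd h hne
  | some p =>
    intro z z' h hne
    obtain ⟨i, hi⟩ : ∃ i, WidePullback.π (fun _ : Fin (p + 1) => f) i z ≠ WidePullback.π (fun _ : Fin (p + 1) => f) i z' := by
      by_contra! hall
      exact hne (Concrete.widePullback_ext' _ _ _ hall)
    obtain ⟨U, V, hU, hV, hz, hz', hd⟩ := hs _ _ ((apply_π f p i z).trans (h.trans (apply_π f p i z').symm)) hi
    exact ⟨_, _, hU.preimage (WidePullback.π (fun _ : Fin (p + 1) => f) i).hom.continuous,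
      hV.preimage (WidePullback.π (fun _ : Fin (p + 1) => f) i).hom.continuous, hz, hz', hd.preimage _⟩

variable (f)

/-- The parts of a level over subsets of the base. -/
@[reducible] noncomputable def lvlFun (l : Option ℕ) : Set S ⥤ Obj (lvls f) where
  obj A := lvlObj (lvls f) l A
  map h := incl (Set.preimage_mono (f := (lvls f l).hom) h.le)

/-- The free sheaves on the parts of a level. -/
noncomputable abbrev lvlFree (l : Option ℕ) : Set S ⥤ Sh (lvls f) :=
  (lvlFun f l ⋙ yoneda) ⋙ freeSh (topology (lvls f))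

/-- Lifts to the source of the surjection. -/
def Lifts (U : Obj (lvls f)) : Type u := {h : C(U.carrier, X) // ∀ w, f (h w) = U.base w}

variable {f}

/-- Precomposition of lifts. -/
noncomputable def Lifts.comp {U U' : Obj (lvls f)} (k : U' ⟶ U) (h : Lifts f U) : Lifts f U' :=
  ⟨h.1.comp k.1, fun w => (h.2 _).trans (k.2 w)⟩

variable (f) in
/-- The structure map as a morphism. -/
noncomputable def baseHom (U : Obj (lvls f)) {A : Set S} (h : ∀ w, U.base w ∈ A) : U ⟶ lvlObj (lvls f) none A :=
  ⟨⟨fun w => ⟨U.base w, h w⟩,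
    ((lvls f U.lvl.down).hom.hom.continuous.comp continuous_subtype_val).subtype_mk _⟩, fun _ => rfl⟩

instance subsingleton_hom_none {U : Obj (lvls f)} {A : Set S} : Subsingleton (U ⟶ lvlObj (lvls f) none A) :=
  ⟨fun g g' => hom_ext fun w => (g.2 w).trans (g'.2 w).symm⟩

lemma base_mem {U : Obj (lvls f)} {A : Set S} (g : U ⟶ lvlObj (lvls f) none A) (w : U.carrier) : U.base w ∈ A := by
  rw [← g.2 w]
  exact (g.1 w).2

variable (f)

/-- The subsets of the base admitting lifts. -/
noncomputable def pointFun : Set S ⥤ ((Obj (lvls f))ᵒᵖ ⥤ Type u) where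
  obj A :=
    { obj := fun U => {g : U.unop ⟶ lvlObj (lvls f) none A // Nonempty (Lifts f U.unop)}
      map := fun k => ↾fun g => ⟨k.unop ≫ g.1, g.2.map (Lifts.comp k.unop)⟩
      map_id := fun _ => by ext g; exact Subsingleton.elim (α := _ ⟶ _) _ _
      map_comp := fun _ _ => by ext g; exact Subsingleton.elim (α := _ ⟶ _) _ _ }
  map h := { app := fun U => ↾fun g => ⟨g.1 ≫ (lvlFun f none).map h, g.2⟩ }
  map_id A := by ext U g; exact Subsingleton.elim (α := _ ⟶ _) _ _
  map_comp _ _ := by ext U g; exact Subsingleton.elim (α := _ ⟶ _) _ _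

/-- The inclusion of the subsets admitting lifts. -/
noncomputable def pointIncl : pointFun f ⟶ lvlFun f none ⋙ yoneda where
  app A := { app := fun U => ↾fun g => g.1 }

instance mono_pointIncl (A : Set S) : Mono ((pointIncl f).app A) :=
  have : ∀ U, Mono (((pointIncl f).app A).app U) := fun U => by
    rw [mono_iff_injective]
    intro g g' _
    exact Subtype.ext (Subsingleton.elim (α := _ ⟶ _) _ _)
  NatTrans.mono_of_mono_app _

/-- The tuples of lifts. -/
noncomputable def nerve : SimplicialObject.Augmented (Set S ⥤ ((Obj (lvls f))ᵒᵖ ⥤ Type u)) where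
  left :=
    { obj := fun n =>
        { obj := fun A =>
            { obj := fun U => {t : Fin (n.unop.len + 1) → Lifts f U.unop // ∀ w, U.unop.base w ∈ A}
              map := fun {U U'} k => ↾fun t => ⟨fun i => (t.1 i).comp k.unop, fun w => by
                rw [← k.unop.2 w]
                exact t.2 _⟩ }
          map := fun h => { app := fun U => ↾fun t => ⟨t.1, fun w => h.le (t.2 w)⟩ } }
      map := fun θ => { app := fun A => { app := fun U => ↾fun t => ⟨fun i => t.1 (θ.unop.toOrderHom i), t.2⟩ } } }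
  right := pointFun f
  hom :=
    { app := fun n =>
        { app := fun A =>
            { app := fun U => ↾fun t => ⟨baseHom f U.unop t.2, ⟨t.1 0⟩⟩
              naturality := fun U U' k => by
                ext t
                exact Subtype.ext (Subsingleton.elim (α := U'.unop ⟶ lvlObj (lvls f) none A) _ _) }
          naturality := fun A A' h => by
            ext U t
            exact Subtype.ext (Subsingleton.elim (α := U.unop ⟶ lvlObj (lvls f) none A') _ _) }
      naturality := fun n m θ => by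
        ext A U t
        exact Subtype.ext (Subsingleton.elim (α := U.unop ⟶ lvlObj (lvls f) none A) _ _) }

/-- The nerve at a subset of the base. -/
noncomputable abbrev nerveAt (A : Set S) : SimplicialObject.Augmented ((Obj (lvls f))ᵒᵖ ⥤ Type u) :=
  ((SimplicialObject.Augmented.whiskering _ _).obj ((evaluation (Set S) _).obj A)).obj (nerve f)

lemma isCechTypePresheaf_nerveAt (A : Set S) : IsCechTypePresheaf (nerveAt f A) := fun c =>
  { ext := fun n x y h => Subtype.ext (funext fun i => congrFun (congrArg Subtype.val (h i)) 0)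
    lift := fun n t _ => ⟨⟨fun i => (t i).1 0, (t 0).2⟩, fun i => Subtype.ext (funext fun k => by
      obtain rfl : k = 0 := Subsingleton.elim (α := Fin 1) _ _
      rfl)⟩ }

instance isLocallySurjective_nerveAt (A : Set S) :
    Presheaf.IsLocallySurjective (topology (lvls f)) ((nerveAt f A).hom.app (op ⦋0⦌)) where
  imageSieve_mem {U} a w := by
    obtain ⟨g, ⟨h⟩⟩ := a
    refine ⟨Set.univ, isOpen_univ, trivial, ⟨fun _ => h.comp (incl Set.inter_subset_left), fun v => ?_⟩, ?_⟩
    · exact base_mem g ⟨v.1, v.2.1⟩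
    · exact Subtype.ext (Subsingleton.elim (α := _ ⟶ lvlObj (lvls f) none A) _ _)

variable {f} in
/-- The structure map of an object. -/
noncomputable def baseMap (U : Obj (lvls f)) : TopCat.of U.carrier ⟶ S :=
  TopCat.ofHom ⟨U.base, (lvls f U.lvl.down).hom.hom.continuous.comp continuous_subtype_val⟩

variable {f} in
/-- The map to a fibre power given by a tuple of lifts. -/
noncomputable def powMap {p : ℕ} (U : Obj (lvls f)) (t : Fin (p + 1) → Lifts f U) :
    TopCat.of U.carrier ⟶ widePullback S (fun _ : Fin (p + 1) => X) fun _ => f :=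
  WidePullback.lift (arrows := fun _ : Fin (p + 1) => f)
    (baseMap U) (fun i => TopCat.ofHom (t i).1) fun i => TopCat.hom_ext (ContinuousMap.ext fun w => (t i).2 w)

variable {f} in
lemma powMap_base {p : ℕ} (U : Obj (lvls f)) (t : Fin (p + 1) → Lifts f U) (w : U.carrier) :
    powBase f p (powMap U t w) = U.base w := by
  unfold powMap
  exact ConcreteCategory.congr_hom (WidePullback.lift_base (arrows := fun _ : Fin (p + 1) => f) (baseMap U) _ _) w

variable {f} in
lemma powMap_π {p : ℕ} (U : Obj (lvls f)) (t : Fin (p + 1) → Lifts f U) (i : Fin (p + 1)) (w : U.carrier) :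
    WidePullback.π (fun _ : Fin (p + 1) => f) i (powMap U t w) = (t i).1 w := by
  unfold powMap
  exact ConcreteCategory.congr_hom (WidePullback.lift_π (arrows := fun _ : Fin (p + 1) => f) (baseMap U) _ _ i) w

/-- Maps into a part of a fibre power are tuples of lifts. -/
noncomputable def levelEquiv (p : ℕ) (A : Set S) (U : Obj (lvls f)) :
    (U ⟶ lvlObj (lvls f) (some p) A) ≃ {t : Fin (p + 1) → Lifts f U // ∀ w, U.base w ∈ A} where
  toFun g := ⟨fun i => ⟨(WidePullback.π (fun _ : Fin (p + 1) => f) i).hom.comp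
      ⟨fun w => (g.1 w).1, continuous_subtype_val.comp g.1.continuous⟩,
    fun w => (apply_π f p i (g.1 w).1).trans (g.2 w)⟩, fun w => by rw [← g.2 w]; exact (g.1 w).2⟩
  invFun t :=
    ⟨⟨fun w => ⟨powMap U t.1 w, Set.mem_preimage.2 (Eq.mpr (congrArg (· ∈ A) (powMap_base U t.1 w)) (t.2 w))⟩,
      (powMap U t.1).hom.continuous.subtype_mk _⟩, fun w => powMap_base U t.1 w⟩
  left_inv g := hom_ext fun w => Concrete.widePullback_ext' _ _ _ fun i => powMap_π U _ i w
  right_inv t := Subtype.ext (funext fun i => Subtype.ext (ContinuousMap.ext fun w => powMap_π U t.1 i w))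

/-- The levels of the nerve are the fibre powers. -/
noncomputable def levelIso (p : ℕ) : lvlFun f (some p) ⋙ yoneda ≅ (nerve f).left.obj (op ⦋p⦌) :=
  NatIso.ofComponents (fun A => NatIso.ofComponents (fun U => Equiv.toIso (levelEquiv f p A U.unop))
    fun _ => rfl) fun _ => rfl

/-- The free sheaves on the subsets admitting lifts. -/
noncomputable abbrev pointFree : Set S ⥤ Sh (lvls f) := pointFun f ⋙ freeSh (topology (lvls f))

/-- The inclusion of free sheaves. -/
noncomputable abbrev rho : pointFree f ⟶ lvlFree f none := Functor.whiskerRight (pointIncl f) (freeSh (topology (lvls f)))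

instance mono_rho (A : Set S) : Mono ((rho f).app A) := mono_freeSh_map _ ((pointIncl f).app A)

section Classes

variable {f} {F : CohTop.Ab S} (R : InjectiveResolution (germSheaf (lvls f) F))

/-- Neighbourhoods of a point. -/
def nbhds (x : S) : Set (Set S) := {A | IsOpen A ∧ x ∈ A}

lemma nbhds_le {x : S} : ∀ A ∈ nbhds x, ({x} : Set S) ≤ A := fun _ hA => Set.singleton_subset_iff.2 hA.2

lemma nbhds_dir {x : S} : ∀ A ∈ nbhds x, ∀ B ∈ nbhds x, ∃ C ∈ nbhds x, C ≤ A ∧ C ≤ B :=
  fun A hA B hB => ⟨A ∩ B, ⟨hA.1.inter hB.1, hA.2, hB.2⟩, Set.inter_subset_left, Set.inter_subset_right⟩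

lemma extMk_zero_iff {X' : Sh (lvls f)} (φ : X' ⟶ R.cocomplex.X 0) (hφ : φ ≫ R.cocomplex.d 0 1 = 0) :
    R.extMk φ 1 rfl hφ = 0 ↔ φ = 0 := by
  refine ⟨fun h => ?_, fun h => by subst h; exact R.extMk_zero 1 rfl⟩
  rw [← R.extEquivCohomologyClass.apply_eq_iff_eq, InjectiveResolution.extEquivCohomologyClass_extMk,
    InjectiveResolution.extEquivCohomologyClass_zero, CochainComplex.HomComplex.CohomologyClass.mk_eq_zero_iff,
    CochainComplex.HomComplex.Cocycle.fromSingleMk_mem_coboundaries_iff _ _ _ _ _ (-1 : ℤ) (by simp)] at h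
  obtain ⟨g, hg⟩ := h
  rw [(R.cochainComplex.isZero_of_isStrictlyGE 0 (-1) (by simp)).eq_of_tgt g 0, zero_comp] at hg
  rw [← cancel_mono (R.cochainComplexXIso 0 0 rfl).inv, zero_comp]
  exact hg.symm

/-- The class of a cocycle. -/
noncomputable abbrev cls {X' : Sh (lvls f)} (n : ℕ) (φ : X' ⟶ R.cocomplex.X n) (hφ : φ ≫ R.cocomplex.d n (n + 1) = 0) :
    Ext X' (germSheaf (lvls f) F) n := R.extMk φ (n + 1) rfl hφ

lemma cls_eq {X' : Sh (lvls f)} {n : ℕ} {φ ψ : X' ⟶ R.cocomplex.X n} (h : φ = ψ) (hφ hψ) :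
    cls R n φ hφ = cls R n ψ hψ := by
  subst h; rfl

lemma ofSect_d (a : Obj (lvls f)) (n : ℕ) (s : (R.cocomplex.X n).obj.obj (op a)) :
    CohFree.ofSect (topology (lvls f)) a _ s ≫ R.cocomplex.d n (n + 1) =
      CohFree.ofSect (topology (lvls f)) a _ ((evalAt (lvls f) a).map (R.cocomplex.d n (n + 1)) s) :=
  ofSect_comp s _

lemma isCob_iff (a : Obj (lvls f)) (n : ℕ) (s : (R.cocomplex.X n).obj.obj (op a))
    (hs : CohFree.ofSect (topology (lvls f)) a _ s ≫ R.cocomplex.d n (n + 1) = 0) :
    cls R n _ hs = 0 ↔ IsCob R (evalAt (lvls f) a) n s := by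
  cases n with
  | zero =>
    rw [cls, extMk_zero_iff]
    exact ⟨fun h => (CohFree.evalGen_ofSect _ a _ s).symm.trans ((congrArg (CohFree.evalGen _ a _) h).trans (map_zero _)),
      fun (h : s = 0) => by subst h; exact map_zero (CohFree.homEquivSect (topology (lvls f)) a _).symm⟩
  | succ n =>
    rw [cls, R.extMk_eq_zero_iff _ _ rfl hs n rfl]
    constructor
    · rintro ⟨g, hg⟩
      refine ⟨CohFree.evalGen (topology (lvls f)) a _ g, ?_⟩
      exact (evalGen_comp g _).symm.trans ((congrArg _ hg).trans (CohFree.evalGen_ofSect _ a _ s))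
    · rintro ⟨c, hc⟩
      exact ⟨CohFree.ofSect _ a _ c, (ofSect_comp c _).trans (congrArg _ hc)⟩

lemma res_cls {M : Set S ⥤ Sh (lvls f)} {A B : Set S} (h : A ≤ B) (n : ℕ) (φ : M.obj B ⟶ R.cocomplex.X n)
    (hφ : φ ≫ R.cocomplex.d n (n + 1) = 0) :
    NearExt.res (germSheaf (lvls f) F) M h n (cls R n φ hφ) =
      cls R n (M.map (homOfLE h) ≫ φ) (by rw [Category.assoc, hφ, comp_zero]) :=
  R.mk₀_comp_extMk φ (n + 1) rfl hφ (M.map (homOfLE h))

/-- The morphism given by a section. -/
noncomputable def sectHom {l : Option ℕ} {A : Set S} (G : Sh (lvls f)) :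
    G.obj.obj (op (lvlObj (lvls f) l A)) ≃+ ((lvlFree f l).obj A ⟶ G) :=
  (CohFree.homEquivSect (topology (lvls f)) (lvlObj (lvls f) l A) G).symm

lemma sectHom_comp {l : Option ℕ} {A : Set S} {G G' : Sh (lvls f)} (s : G.obj.obj (op (lvlObj (lvls f) l A))) (φ : G ⟶ G') :
    sectHom G s ≫ φ = sectHom G' ((evalAt (lvls f) (lvlObj (lvls f) l A)).map φ s) :=
  ofSect_comp s φ

lemma map_sectHom {l : Option ℕ} {A B : Set S} (h : A ⊆ B) {G : Sh (lvls f)}
    (s : G.obj.obj (op (lvlObj (lvls f) l B))) :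
    (lvlFree f l).map (homOfLE h) ≫ sectHom G s =
      sectHom G (G.obj.map ((lvlFun f l).map (homOfLE h)).op s) :=
  freeSheafMap_comp_ofSect ((lvlFun f l).map (homOfLE h)) s

lemma sectHom_cocycle_iff {l : Option ℕ} {A : Set S} (n : ℕ) (s : (R.cocomplex.X n).obj.obj (op (lvlObj (lvls f) l A))) :
    sectHom _ s ≫ R.cocomplex.d n (n + 1) = 0 ↔
      (evalAt (lvls f) (lvlObj (lvls f) l A)).map (R.cocomplex.d n (n + 1)) s = 0 := by
  rw [sectHom_comp, AddEquiv.map_eq_zero_iff]

lemma cls_sectHom_eq_zero {l : Option ℕ} {A : Set S} (n : ℕ) (s : (R.cocomplex.X n).obj.obj (op (lvlObj (lvls f) l A)))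
    (hs : sectHom _ s ≫ R.cocomplex.d n (n + 1) = 0) :
    cls R n (sectHom _ s) hs = 0 ↔ IsCob R (evalAt (lvls f) (lvlObj (lvls f) l A)) n s :=
  isCob_iff R _ n s hs

lemma exists_cls {l : Option ℕ} {A : Set S} (n : ℕ) (β : Ext ((lvlFree f l).obj A) (germSheaf (lvls f) F) n) :
    ∃ (s : (R.cocomplex.X n).obj.obj (op (lvlObj (lvls f) l A))) (hs : _), cls R n (sectHom _ s) hs = β := by
  obtain ⟨φ, hφ, rfl⟩ := R.extMk_surjective β (n + 1) rfl
  obtain ⟨s, rfl⟩ := (sectHom (l := l) (A := A) _).surjective φ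
  exact ⟨s, hφ, rfl⟩

lemma res_cls_sectHom {l : Option ℕ} {A B : Set S} (h : A ≤ B) (n : ℕ)
    (s : (R.cocomplex.X n).obj.obj (op (lvlObj (lvls f) l B))) (hs : sectHom _ s ≫ R.cocomplex.d n (n + 1) = 0) :
    NearExt.res (germSheaf (lvls f) F) (lvlFree f l) h n (cls R n (sectHom _ s) hs) =
      cls R n (sectHom _ ((R.cocomplex.X n).obj.map ((lvlFun f l).map (homOfLE h)).op s))
        (by rw [← map_sectHom h s, Category.assoc, hs, comp_zero]) :=
  (res_cls R h n _ hs).trans (cls_eq R (map_sectHom h s) _ _)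

end Classes

variable {f}

include hf hs in
theorem near_lvlFree {F : CohTop.Ab S} (R : InjectiveResolution (germSheaf (lvls f) F)) (l : Option ℕ) (x : S) (n : ℕ) :
    NearExt.Inj (germSheaf (lvls f) F) {x} (nbhds x) (lvlFree f l) n ∧
      NearExt.Surj (germSheaf (lvls f) F) {x} (nbhds x) (lvlFree f l) n := by
  have hp := isProperMap_lvls hf l
  obtain ⟨hsurj, hinj⟩ := near_fibre F R l hp.isClosedMap x (hp.isCompact_preimage isCompact_singleton) (sep_lvls hs l) n
  refine ⟨fun k hk h β hβ => ?_, fun α => ?_⟩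
  · obtain ⟨s, hs', rfl⟩ := exists_cls R n β
    rw [res_cls_sectHom, cls_sectHom_eq_zero] at hβ
    obtain ⟨W, hW, hxW, hc⟩ := hinj ⟨k, hk.1⟩ hk.2 s ((sectHom_cocycle_iff R n s).1 hs') hβ
    refine ⟨W, ⟨W.2, hxW⟩, hW, ?_⟩
    rw [res_cls_sectHom, cls_sectHom_eq_zero]
    exact hc
  · obtain ⟨b, hb, rfl⟩ := exists_cls R n α
    obtain ⟨V, hxV, a, ha, hc⟩ := hsurj b ((sectHom_cocycle_iff R n b).1 hb)
    refine ⟨V, ⟨V.2, hxV⟩, Set.singleton_subset_iff.2 hxV, cls R n _ ((sectHom_cocycle_iff R n a).2 ha), sub_eq_zero.1 ?_⟩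
    rw [res_cls_sectHom, cls, cls, InjectiveResolution.sub_extMk]
    let a' : (R.cocomplex.X n).obj.obj (op (lvlObj (lvls f) l {x})) :=
      (evalRes (fibSub (lvls f) l (A := (V : Set S)) hxV)).app _ a
    have e := (map_sub (sectHom (l := l) (A := ({x} : Set S)) (R.cocomplex.X n)) a' b).symm
    have hd' : sectHom _ (a' - b) ≫ R.cocomplex.d n (n + 1) = 0 := by
      rw [← e, Preadditive.sub_comp, hb, sub_zero]
      refine (sectHom_cocycle_iff R n _).2 ((NatTrans.naturality_apply (evalRes (fibSub (lvls f) l (A := (V : Set S)) hxV))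
        (R.cocomplex.d n (n + 1)) a).symm.trans ?_)
      rw [ha, map_zero]
    exact (cls_eq R e _ hd').trans ((cls_sectHom_eq_zero R n _ hd').2 hc)

lemma isResolution'_congr {C : Type*} [Category C] [Abelian C] {A : ℕ → C} {d d' : ∀ n, A (n + 1) ⟶ A n} {Y : C}
    {ε ε' : A 0 ⟶ Y} (h : AcyclicRes.IsResolution' A d ε) (hd : ∀ n, d n = d' n) (he : ε = ε') :
    AcyclicRes.IsResolution' A d' ε' := by
  obtain rfl : d = d' := funext hd
  subst he
  exact h

variable (f)

/-- The free simplicial object of the nerve. -/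
noncomputable abbrev nerveFree : SimplicialObject.Augmented (Set S ⥤ Sh (lvls f)) :=
  ((SimplicialObject.Augmented.whiskering _ _).obj
    ((Functor.whiskeringRight (Set S) _ _).obj (freeSh (topology (lvls f))))).obj (nerve f)

theorem isResolution_nerveFree_app (A : Set S) :
    AcyclicRes.IsResolution' (fun n => ((nerveFree f).left.obj (op ⦋n⦌)).obj A)
      (fun n => (AlgebraicTopology.AlternatingFaceMapComplex.objD (nerveFree f).left n).app A)
      (((nerveFree f).hom.app (op ⦋0⦌)).app A) := by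
  refine isResolution'_congr (isAugResolution_freeSh (topology (lvls f)) (nerveAt f A) (isCechTypePresheaf_nerveAt f A))
    (fun n => ?_) ?_
  · exact (map_objD ((evaluation (Set S) (Sh (lvls f))).obj A) (nerveFree f).left n).symm
  · refine (Category.comp_id _).trans ?_
    refine Eq.trans ?_ (NatTrans.congr_app (Category.comp_id
      (((Functor.whiskeringRight (Set S) _ _).obj (freeSh (topology (lvls f)))).map ((nerve f).hom.app (op ⦋0⦌)))) A).symm
    exact congrArg (fun k => (freeSh (topology (lvls f))).map k) (Category.comp_id _)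

theorem isResolution_nerveFree :
    AcyclicRes.IsResolution' (fun n => (nerveFree f).left.obj (op ⦋n⦌))
      (AlgebraicTopology.AlternatingFaceMapComplex.objD (nerveFree f).left) ((nerveFree f).hom.app (op ⦋0⦌)) :=
  NearExt.isResolution'_eval _ _ _ (isResolution_nerveFree_app f)

variable {f}

include hf hs in
theorem near_pointFree {F : CohTop.Ab S} (R : InjectiveResolution (germSheaf (lvls f) F)) (x : S) (n : ℕ) :
    NearExt.Inj (germSheaf (lvls f) F) {x} (nbhds x) (pointFree f) n ∧
      NearExt.Surj (germSheaf (lvls f) F) {x} (nbhds x) (pointFree f) n := by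
  haveI : HasExt.{u + 1} (Set S ⥤ Sh (lvls f)) := HasExt.standard _
  refine NearExt.near_of_resolution (germSheaf (lvls f) F) {x} nbhds_le nbhds_dir n _ _ (pointFree f) _
    (isResolution_nerveFree f) fun p m => ?_
  let e : lvlFree f (some p) ≅ (nerveFree f).left.obj (op ⦋p⦌) :=
    Functor.isoWhiskerRight (levelIso f p) (freeSh (topology (lvls f)))
  exact ⟨(near_lvlFree hf hs R (some p) x m).1.of_iso e, (near_lvlFree hf hs R (some p) x m).2.of_iso e⟩

theorem isIso_rho_singleton (hsurj : Function.Surjective f) (x : S) : IsIso ((rho f).app {x}) := by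
  haveI : IsIso ((pointIncl f).app {x}) := by
    haveI : ∀ U, IsIso (((pointIncl f).app {x}).app U) := fun U => by
      rw [isIso_iff_bijective]
      refine ⟨fun g g' _ => Subtype.ext (Subsingleton.elim (α := _ ⟶ _) _ _), fun g => ?_⟩
      obtain ⟨y, hy⟩ := hsurj x
      exact ⟨⟨g, ⟨⟨ContinuousMap.const _ y, fun w => hy.trans (show U.unop.base w = x from base_mem g w).symm⟩⟩⟩,
        Subsingleton.elim (α := U.unop ⟶ lvlObj (lvls f) none {x}) _ _⟩
    exact NatIso.isIso_of_isIso_app _
  exact inferInstanceAs (IsIso ((freeSh (topology (lvls f))).map ((pointIncl f).app {x})))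

end Groth.Agent.CohTopBC.DescentSite
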