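import Mathlib
import Groth.Agent.CohTopBC.DescentLevels

/-!
The comparison of classes on the subsets admitting lifts with the cohomology of the base.
-/

set_option autoImplicit false
universe u

open CategoryTheory CategoryTheory.Limits Opposite TopologicalSpace Simplicial
open CategoryTheory.Abelian
open scoped ZeroObject
open Groth.SiteCohomology
open Groth.Agent.CohDescent (gm gm_res gm_eq gm_map gm_surjective sect_ext exists_glue_germs nonempty_ext_equiv_of_natIso_zero exact_of_sfib powBase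
  hasSmallDerivedCategory hasDerivedCategoryOp exists_spectralSequence_of_isResolution isResolution_op nonempty_extOp_equiv)

namespace Groth.Agent.CohTopBC.DescentSite

section Site

lemma homEquiv_ofSect_app {C : Type u} [SmallCategory C] (J : GrothendieckTopology C) (a : C)
    (G : Sheaf J AddCommGrpCat.{u}) (s : G.obj.obj (op a)) (T : C) (g : T ⟶ a) :
    ((freeShAdj J).homEquiv (yoneda.obj a) G (CohFree.ofSect J a G s)).app (op T) g = G.obj.map g.op s := by
  have h1 : ((freeShAdj J).homEquiv (yoneda.obj a) G (CohFree.ofSect J a G s)).app (op a) (𝟙 a) = s := by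
    rw [Adjunction.homEquiv_unit]
    exact CohFree.evalGen_ofSect J a G s
  have h2 := NatTrans.naturality_apply ((freeShAdj J).homEquiv (yoneda.obj a) G (CohFree.ofSect J a G s)) g.op (𝟙 a)
  change _ = G.obj.map g.op (((freeShAdj J).homEquiv (yoneda.obj a) G (CohFree.ofSect J a G s)).app (op a) (𝟙 a)) at h2
  rw [h1] at h2
  rw [← h2]
  exact congrArg _ (Category.comp_id g).symm

variable {S : TopCat.{u}} {ι : Type} {str : ι → Over S}

/-- Ext groups out of a level are the cohomology of the level. -/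
theorem nonempty_ext_level (l : ι) (G : Sh str) (n : ℕ) :
    Nonempty (Ext (CohCx.freeSheaf (topology str) (lvlObj str l (Set.univ : Set S))) G n ≃+
      CohTop.H ((res (i := 𝟙 (str l).left) (Topology.IsEmbedding.id)).obj G) n) := by
  let hi : Topology.IsEmbedding (𝟙 (str l).left) := Topology.IsEmbedding.id
  let Tt := Opens.grothendieckTopology (str l).left
  let a := lvlObj str l (Set.univ : Set S)
  let b := mk str l ((𝟙 (str l).left : _ → (str l).left) '' ((⊤ : Opens (str l).left) : Set (str l).left))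
  have hab : ((str l).hom ⁻¹' Set.univ : Set (str l).left) ⊆
      (𝟙 (str l).left : _ → (str l).left) '' ((⊤ : Opens (str l).left) : Set (str l).left) :=
    fun w _ => ⟨w, trivial, rfl⟩
  let k : a ⟶ b := incl hab
  let k' : b ⟶ a := incl fun _ _ => trivial
  let κ : a ≅ b := ⟨k, k', rfl, rfl⟩
  let e : ∀ G : Sh str, (CohCx.freeSheaf (topology str) a ⟶ G) ≃+
      (CohCx.freeSheaf Tt (⊤ : Opens (str l).left) ⟶ (res hi).obj G) := fun G =>
    ((CohFree.homEquivSect (topology str) a G).trans
      (G.obj.mapIso κ.op).symm.addCommGroupIsoToAddEquiv).trans (CohFree.homEquivSect Tt ⊤ ((res hi).obj G)).symm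
  have he : ∀ {G G' : Sh str} (φ : CohCx.freeSheaf (topology str) a ⟶ G) (ψ : G ⟶ G'),
      e G' (φ ≫ ψ) = e G φ ≫ (res hi).map ψ := fun {G G'} φ ψ => by
    simp only [e, AddEquiv.trans_apply]
    refine (congrArg _ ?_).trans (ofSect_comp (J := Tt) _ _).symm
    rw [CohFree.homEquivSect_apply, CohFree.homEquivSect_apply, evalGen_comp]
    exact (NatTrans.naturality_apply ψ.hom _ _).symm
  have hac : ∀ (I : Sh str) [Injective I] (m : ℕ),
      Subsingleton (Ext (CohCx.freeSheaf Tt (⊤ : Opens (str l).left)) ((res hi).obj I) (m + 1)) := fun I _ m =>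
    subsingleton_HU_succ_of_flasque _ ⊤ m
  obtain ⟨ε⟩ := nonempty_ext_equiv_of_natIso_zero (res hi) (CohCx.freeSheaf (topology str) a)
    (CohCx.freeSheaf Tt (⊤ : Opens (str l).left)) e he hac n G
  exact ⟨ε.trans (HUTopEquiv _ n)⟩

theorem nonempty_iso_res_of_id {F : CohTop.Ab S} (l : ι)
    (i : S ⟶ (str l).left) (hi : Topology.IsEmbedding i) (h : i ≫ (str l).hom = 𝟙 S) :
    Nonempty (F ≅ (res hi).obj (germSheaf str F)) := by
  have hb : ∀ z, (str l).hom (i z) = z := fun z => ConcreteCategory.congr_hom h z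
  let φ : F ⟶ (res hi).obj (germSheaf str F) :=
    ⟨{ app := fun U => AddCommGrpCat.ofHom (secFam F (mk str l (i '' _)) (V := U.unop) (by
          rintro ⟨_, z', hz', rfl⟩
          change (str l).hom (i z') ∈ U.unop
          rw [hb]
          exact hz'))
       naturality := fun V W k => by
         refine ConcreteCategory.hom_ext _ _ fun s => Subtype.ext (funext fun w => funext fun y => ?_)
         obtain ⟨y, hy⟩ := y
         obtain ⟨_, z', hz', rfl⟩ := w
         exact gm_res F y k.unop.le (hy ▸ (show (str l).hom (i z') ∈ W.unop by rw [hb]; exact hz')) s }⟩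
  haveI : IsIso φ := isIso_of_sfib φ fun z => by
    refine (ConcreteCategory.isIso_iff_bijective _).2 ?_
    have key : ∀ a, ∀ (y : S) (hy : (str l).hom (i z) = y) (hyz : y = z),
        evalGerm F hi z ((sfib z).map φ a) = (eqToHom (congrArg (fun w => (sfib w).obj F) (hyz.symm.trans hy.symm))) a := by
      intro a y hy hyz
      obtain ⟨U, hU, s, rfl⟩ := gm_surjective F z a
      rw [gm_map]
      refine (evalGerm_gm F hi z U hU _).trans ?_
      change gm F ((str l).hom (i z)) U _ s = _
      have : ∀ (w : S) (e : z = w) (hw : w ∈ U), gm F w U hw s =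
          (eqToHom (congrArg (fun w => (sfib w).obj F) e)) (gm F z U hU s) := by
        rintro _ rfl _
        rfl
      exact this _ (hb z).symm _
    have hbij : Function.Bijective (eqToHom (congrArg (fun w => (sfib w).obj F) (hb z).symm)) :=
      ConcreteCategory.bijective_of_isIso _
    exact ⟨fun a b e => hbij.1 ((key a _ rfl (hb z)).symm.trans ((congrArg _ e).trans (key b _ rfl (hb z)))),
      fun c => by
        obtain ⟨a, ha⟩ := hbij.2 (evalGerm F hi z c)
        exact ⟨a, (bijective_evalGerm F hi z).1 ((key a _ rfl (hb z)).trans ha)⟩⟩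
  exact ⟨asIso φ⟩

end Site

variable {X S : TopCat.{u}} {f : X ⟶ S}

lemma map_lvl {A B : Set S} (h : A ≤ B) {G : Sh (lvls f)} {C : Set S} (h' : C ≤ A)
    (s : G.obj.obj (op (lvlObj (lvls f) none B))) :
    G.obj.map ((lvlFun f none).map (homOfLE h')).op (G.obj.map ((lvlFun f none).map (homOfLE h)).op s) =
      G.obj.map ((lvlFun f none).map (homOfLE (h'.trans h))).op s :=
  map_map G _ _ s

/-- Sections vanishing on the subsets admitting lifts. -/
noncomputable def van (A : Set S) (G : Sh (lvls f)) : AddSubgroup (G.obj.obj (op (lvlObj (lvls f) none A))) :=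
  AddMonoidHom.ker (AddMonoidHom.comp (Preadditive.leftComp G ((rho f).app A))
    (sectHom (l := none) (A := A) G).toAddMonoidHom)

lemma mem_van {A : Set S} {G : Sh (lvls f)} {s : G.obj.obj (op (lvlObj (lvls f) none A))} :
    s ∈ van A G ↔ (rho f).app A ≫ sectHom G s = 0 := Iff.rfl

lemma mem_van_iff {A : Set S} {G : Sh (lvls f)} {s : G.obj.obj (op (lvlObj (lvls f) none A))} :
    s ∈ van A G ↔ ∀ (U : Obj (lvls f)) (g : U ⟶ lvlObj (lvls f) none A), Nonempty (Lifts f U) → G.obj.map g.op s = 0 := by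
  let E := (freeShAdj (topology (lvls f))).homEquiv ((pointFun f).obj A) G
  have key : ∀ (U : (Obj (lvls f))ᵒᵖ) (g : ((pointFun f).obj A).obj U),
      (E ((rho f).app A ≫ sectHom G s)).app U g = G.obj.map g.1.op s := fun U g => by
    rw [show E ((rho f).app A ≫ sectHom G s) = (pointIncl f).app A ≫
      (freeShAdj (topology (lvls f))).homEquiv (yoneda.obj (lvlObj (lvls f) none A)) G (sectHom G s) from
        Adjunction.homEquiv_naturality_left _ _ _]
    exact homEquiv_ofSect_app (topology (lvls f)) (lvlObj (lvls f) none A) G s U.unop g.1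
  have h0 : ∀ (U : (Obj (lvls f))ᵒᵖ) (g : ((pointFun f).obj A).obj U),
      (E 0).app U g = (0 : G.obj.obj U) := fun U g => by
    simp only [E, Adjunction.homEquiv_unit]
    rfl
  rw [mem_van]
  refine ⟨fun h U g hU => ?_, fun h => E.injective (NatTrans.ext (funext fun U => ?_))⟩
  · exact ((key (op U) ⟨g, hU⟩).symm.trans (congrArg (fun φ => (E φ).app (op U) ⟨g, hU⟩) h)).trans (h0 _ _)
  · ext g
    exact (key U g).trans ((h U.unop g.1 g.2).trans (h0 U g).symm)

lemma van_map {A B : Set S} (h : A ≤ B) {G : Sh (lvls f)} {s : G.obj.obj (op (lvlObj (lvls f) none B))}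
    (hs : s ∈ van B G) : G.obj.map ((lvlFun f none).map (homOfLE h)).op s ∈ van A G := by
  rw [mem_van] at hs ⊢
  rw [← map_sectHom h s, ← Category.assoc, ← (rho f).naturality, Category.assoc, hs, comp_zero]

lemma van_comp {A : Set S} {G G' : Sh (lvls f)} (φ : G ⟶ G') {s : G.obj.obj (op (lvlObj (lvls f) none A))}
    (hs : s ∈ van A G) : (evalAt (lvls f) (lvlObj (lvls f) none A)).map φ s ∈ van A G' := by
  rw [mem_van] at hs ⊢
  rw [← sectHom_comp, reassoc_of% hs, zero_comp]

theorem exists_extend_van {G : Sh (lvls f)} [Injective G] {W V : Set S} (hW : W ≤ V)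
    (s : G.obj.obj (op (lvlObj (lvls f) none W))) (hs : s ∈ van W G) :
    ∃ t ∈ van V G, G.obj.map ((lvlFun f none).map (homOfLE hW)).op t = s := by
  classical
  let J := topology (lvls f)
  let a := lvlObj (lvls f) none V
  let Rs : Subfunctor (yoneda.obj a) :=
    { obj := fun U => {_g | (∀ w, U.unop.base w ∈ W) ∨ Nonempty (Lifts f U.unop)}
      map := fun k g hg => hg.imp (fun h w => (k.unop.2 w) ▸ h _) (fun h => h.map (Lifts.comp k.unop)) }
  let φ : Rs.toFunctor ⟶ G.obj ⋙ forget AddCommGrpCat.{u} :=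
    { app := fun U => ↾fun g =>
        if h : ∀ w, U.unop.base w ∈ W then G.obj.map (baseHom f U.unop h).op s else 0
      naturality := fun U U' k => by
        ext g
        change (if h : ∀ w, U'.unop.base w ∈ W then G.obj.map (baseHom f U'.unop h).op s else 0) =
          G.obj.map k (if h : ∀ w, U.unop.base w ∈ W then G.obj.map (baseHom f U.unop h).op s else 0)
        by_cases h : ∀ w, U.unop.base w ∈ W
        · have h' : ∀ w, U'.unop.base w ∈ W := fun w => (k.unop.2 w) ▸ h _
          rw [dif_pos h, dif_pos h']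
          refine Eq.trans ?_ (map_map G (baseHom f U.unop h) k.unop s).symm
          rw [Subsingleton.elim (baseHom f U'.unop h') (k.unop ≫ baseHom f U.unop h)]
        · rw [dif_neg h, map_zero]
          split_ifs with h'
          · exact mem_van_iff.1 hs _ _ ((g.2.resolve_left h).map (Lifts.comp k.unop))
          · rfl }
  haveI : Mono ((freeSh J).map Rs.ι) := mono_freeSh_map J Rs.ι
  let ψ := Injective.factorThru (((freeShAdj J).homEquiv _ G).symm φ) ((freeSh J).map Rs.ι)
  let t := CohFree.evalGen J a G ψ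
  have key : ∀ (U : (Obj (lvls f))ᵒᵖ) (g : Rs.toFunctor.obj U), G.obj.map g.1.op t = φ.app U g := fun U g => by
    have h1 : Rs.ι ≫ (freeShAdj J).homEquiv (yoneda.obj a) G ψ = φ := by
      rw [← Adjunction.homEquiv_naturality_left, Injective.comp_factorThru, Equiv.apply_symm_apply]
    rw [← h1, ← homEquiv_ofSect_app J a G t U.unop g.1, CohFree.ofSect_evalGen]
    rfl
  refine ⟨t, mem_van_iff.2 fun U g hU => ?_, ?_⟩
  · refine (key (op U) ⟨g, Or.inr hU⟩).trans ?_
    change (if h : ∀ w, U.base w ∈ W then G.obj.map (baseHom f U h).op s else 0) = 0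
    split_ifs with h
    · exact mem_van_iff.1 hs _ _ hU
    · rfl
  · have hW' : ∀ w, (lvlObj (lvls f) none W).base w ∈ W := fun w => w.2
    refine (key (op (lvlObj (lvls f) none W)) ⟨(lvlFun f none).map (homOfLE hW), Or.inl hW'⟩).trans ?_
    change (if h : ∀ w, (lvlObj (lvls f) none W).base w ∈ W then G.obj.map (baseHom f _ h).op s else 0) = s
    rw [dif_pos hW', Subsingleton.elim (baseHom f _ hW') (𝟙 _), op_id, G.obj.map_id]
    rfl

/-- The sheaf of sections vanishing on the subsets admitting lifts. -/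
noncomputable def vanPresheaf (G : Sh (lvls f)) : (Opens S)ᵒᵖ ⥤ AddCommGrpCat.{u} where
  obj V := AddCommGrpCat.of (van (V.unop : Set S) G)
  map {V W} k := AddCommGrpCat.ofHom (AddMonoidHom.mk'
    (fun s => ⟨G.obj.map ((lvlFun f none).map (homOfLE (show (W.unop : Set S) ≤ (V.unop : Set S) from k.unop.le))).op s.1,
      van_map _ s.2⟩) fun s t => Subtype.ext (map_add _ _ _))
  map_id V := by
    ext s
    change G.obj.map (𝟙 _) _ = _
    rw [G.obj.map_id]
    rfl
  map_comp k k' := by
    ext s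
    exact (map_lvl _ _ s.1).symm

theorem isSheaf_vanPresheaf (G : Sh (lvls f)) : TopCat.Presheaf.IsSheaf (X := S) (vanPresheaf G) := by
  refine (TopCat.Presheaf.isSheaf_iff_isSheafUniqueGluing _).2 fun κ U s hs => ?_
  let a := lvlObj (lvls f) none ((iSup U : Opens S) : Set S)
  obtain ⟨t, ht, huniq⟩ := existsUnique_glue G a (fun k => (lvls f none).hom ⁻¹' (U k : Set S))
    (fun k => Set.preimage_mono (f := (lvls f none).hom) (le_iSup U k))
    (fun w hw => by
      obtain ⟨k, hk⟩ := Opens.mem_iSup.1 hw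
      exact ⟨k, _, (U k).2.preimage (lvls f none).hom.hom.continuous, hk, Set.inter_subset_right⟩)
    (fun k => (s k).1) (fun k k' => congrArg Subtype.val (hs k k'))
  refine ⟨⟨t, mem_van_iff.2 fun V g hV => ?_⟩, fun k => Subtype.ext (ht k), fun t' ht' =>
    Subtype.ext (huniq t'.1 fun k => congrArg Subtype.val (ht' k))⟩
  refine (existsUnique_glue G V (fun k => V.carrier ∩ (lvls f V.lvl.down).hom ⁻¹' (U k : Set S))
    (fun k => Set.inter_subset_left) (fun w hw => ?_) (fun _ => 0) (fun _ _ => by rw [map_zero, map_zero])).unique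
    (fun k => ?_) (fun k => map_zero _)
  · obtain ⟨k, hk⟩ := Opens.mem_iSup.1 (base_mem g ⟨w, hw⟩)
    exact ⟨k, _, (U k).2.preimage (lvls f V.lvl.down).hom.hom.continuous, hk, subset_rfl⟩
  · let g' : (⟨V.lvl, V.carrier ∩ (lvls f V.lvl.down).hom ⁻¹' (U k : Set S)⟩ : Obj (lvls f)) ⟶
        lvlObj (lvls f) none (U k : Set S) := baseHom f _ fun w => w.2.2
    refine (map_map G g _ t).trans (Eq.trans ?_ (mem_van_iff.1 (s k).2 _ g' (hV.map (Lifts.comp (incl Set.inter_subset_left)))))
    refine Eq.trans ?_ (congrArg (G.obj.map g'.op) (ht k))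
    refine Eq.trans ?_ (map_map G _ g' t).symm
    exact congrArg (fun k => G.obj.map (Quiver.Hom.op k) t) (Subsingleton.elim (α := _ ⟶ lvlObj (lvls f) none _) _ _)

/-- The sheaf of sections vanishing on the subsets admitting lifts. -/
noncomputable def vanSheaf (G : Sh (lvls f)) : CohTop.Ab S := ⟨vanPresheaf G, isSheaf_vanPresheaf G⟩

/-- Functoriality of the sheaf of vanishing sections. -/
noncomputable def vanMap {G G' : Sh (lvls f)} (φ : G ⟶ G') : vanSheaf G ⟶ vanSheaf G' :=
  ⟨{ app := fun V => AddCommGrpCat.ofHom (AddMonoidHom.mk' (fun s => ⟨_, van_comp φ s.2⟩)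
        fun s t => Subtype.ext (map_add _ _ _))
     naturality := fun V W k => by
       refine ConcreteCategory.hom_ext _ _ fun s => Subtype.ext ?_
       exact NatTrans.naturality_apply φ.hom _ s.1 }⟩

instance isFlasque_vanSheaf (G : Sh (lvls f)) [Injective G] : TopCat.Sheaf.IsFlasque (vanSheaf G) := by
  refine (isFlasque_iff_surjective _).2 fun V W k s => ?_
  obtain ⟨t, ht, e⟩ := exists_extend_van (G := G) (show (W : Set S) ≤ (V : Set S) from k.le) s.1 s.2
  exact ⟨⟨t, ht⟩, Subtype.ext e⟩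

section Compare

variable {F : CohTop.Ab S} (R : InjectiveResolution (germSheaf (lvls f) F))

lemma pre_cls {A : Set S} (n : ℕ) (φ : (lvlFree f none).obj A ⟶ R.cocomplex.X n)
    (hφ : φ ≫ R.cocomplex.d n (n + 1) = 0) :
    NearExt.pre (germSheaf (lvls f) F) (rho f) A n (cls R n φ hφ) =
      cls R n ((rho f).app A ≫ φ) (by rw [Category.assoc, hφ, comp_zero]) :=
  R.mk₀_comp_extMk φ (n + 1) rfl hφ ((rho f).app A)

variable (hf : IsProperMap f)
  (hs : ∀ x x' : X, f x = f x' → x ≠ x' → ∃ U V : Set X, IsOpen U ∧ IsOpen V ∧ x ∈ U ∧ x' ∈ V ∧ Disjoint U V)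
  (hsurj : Function.Surjective f)
include hsurj

lemma bijective_pre_singleton (x : S) (n : ℕ) :
    Function.Bijective (NearExt.pre (germSheaf (lvls f) F) (rho f) ({x} : Set S) n) := by
  haveI := isIso_rho_singleton hsurj x
  exact (extIsoLeft (asIso ((rho f).app ({x} : Set S))) (germSheaf (lvls f) F) n).bijective

include hf hs

lemma exists_nhd_cls_zero {V : Set S} (hV : IsOpen V) {x : S} (hx : x ∈ V) (n : ℕ)
    (a : (R.cocomplex.X n).obj.obj (op (lvlObj (lvls f) none V))) (ha : a ∈ van V (R.cocomplex.X n))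
    (had : sectHom _ a ≫ R.cocomplex.d n (n + 1) = 0) :
    ∃ W ∈ nbhds x, ∃ h : W ≤ V, IsCob R (evalAt (lvls f) (lvlObj (lvls f) none W)) n
      ((R.cocomplex.X n).obj.map ((lvlFun f none).map (homOfLE h)).op a) := by
  have hx' : ({x} : Set S) ≤ V := Set.singleton_subset_iff.2 hx
  have h0 : NearExt.res (germSheaf (lvls f) F) (lvlFree f none) hx' n (cls R n _ had) = 0 := by
    refine (bijective_pre_singleton hsurj x n).1 ?_
    rw [← NearExt.res_pre, pre_cls R n _ had, map_zero, cls_eq R (mem_van.1 ha) _ zero_comp, cls,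
      InjectiveResolution.extMk_zero, map_zero]
  obtain ⟨W, hW, h, he⟩ := (near_lvlFree hf hs R none x n).1 V ⟨hV, hx⟩ hx' _ h0
  rw [res_cls_sectHom, cls_sectHom_eq_zero] at he
  exact ⟨W, hW, h, he⟩

lemma exists_cocycle_correction {W : Set S} (hW : IsOpen W) {x : S} (hx : x ∈ W) (m : ℕ)
    (φ : (pointFree f).obj W ⟶ R.cocomplex.X m) (hφ : φ ≫ R.cocomplex.d m (m + 1) = 0) :
    ∃ W' ∈ nbhds x, ∃ (h : W' ≤ W) (c : (R.cocomplex.X m).obj.obj (op (lvlObj (lvls f) none W')))
      (hc : sectHom (l := none) (A := W') (R.cocomplex.X m) c ≫ R.cocomplex.d m (m + 1) = 0),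
      cls R m ((pointFree f).map (homOfLE h) ≫ φ - (rho f).app W' ≫ sectHom (l := none) (A := W') (R.cocomplex.X m) c)
        (by rw [Preadditive.sub_comp, Category.assoc, Category.assoc, hφ, hc, comp_zero, comp_zero, sub_zero]) = 0 := by
  have hx' : ({x} : Set S) ≤ W := Set.singleton_subset_iff.2 hx
  obtain ⟨δ, hδ⟩ := (bijective_pre_singleton hsurj x m).2
    (NearExt.res (germSheaf (lvls f) F) (pointFree f) hx' m (cls R m φ hφ))
  obtain ⟨W₂, hW₂, h₂, δ', hδ'⟩ := (near_lvlFree hf hs R none x m).2 δ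
  obtain ⟨W₃, hW₃, h₃, h₃₂⟩ := nbhds_dir W ⟨hW, hx⟩ W₂ hW₂
  obtain ⟨W₄, hW₄, h₄, he⟩ := (near_pointFree hf hs R x m).1 W₃ hW₃ (nbhds_le W₃ hW₃)
    (NearExt.res (germSheaf (lvls f) F) (pointFree f) h₃ m (cls R m φ hφ) -
      NearExt.pre (germSheaf (lvls f) F) (rho f) W₃ m (NearExt.res (germSheaf (lvls f) F) (lvlFree f none) h₃₂ m δ')) (by
      rw [map_sub, NearExt.res_res, NearExt.res_pre, NearExt.res_res, hδ', hδ, sub_self])
  rw [map_sub, NearExt.res_res, NearExt.res_pre, NearExt.res_res] at he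
  obtain ⟨c, hc, hce⟩ := exists_cls R m (NearExt.res (germSheaf (lvls f) F) (lvlFree f none) (h₄.trans h₃₂) m δ')
  refine ⟨W₄, hW₄, h₄.trans h₃, c, hc, ?_⟩
  have e1 := res_cls R (M := pointFree f) (h₄.trans h₃) m φ hφ
  have e2 := pre_cls R m (sectHom (l := none) (A := W₄) _ c) hc
  rw [e1, ← hce, e2] at he
  refine Eq.trans ?_ he
  exact (R.sub_extMk _ _ (m + 1) rfl _ _).symm

theorem locally_exact_zero {V : Opens S} {x : S} (hx : x ∈ V)
    (a : (R.cocomplex.X 0).obj.obj (op (lvlObj (lvls f) none V))) (ha : a ∈ van (V : Set S) (R.cocomplex.X 0))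
    (had : (evalAt (lvls f) (lvlObj (lvls f) none V)).map (R.cocomplex.d 0 1) a = 0) :
    ∃ (W : Opens S) (h : (W : Set S) ≤ V), x ∈ W ∧
      (R.cocomplex.X 0).obj.map ((lvlFun f none).map (homOfLE h)).op a = 0 := by
  obtain ⟨W, hW, h, e⟩ := exists_nhd_cls_zero R hf hs hsurj V.2 hx 0 a ha ((sectHom_cocycle_iff R 0 a).2 had)
  exact ⟨⟨W, hW.1⟩, h, hW.2, e⟩

theorem locally_exact_succ (m : ℕ) {V : Opens S} {x : S} (hx : x ∈ V)
    (a : (R.cocomplex.X (m + 1)).obj.obj (op (lvlObj (lvls f) none V))) (ha : a ∈ van (V : Set S) (R.cocomplex.X (m + 1)))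
    (had : (evalAt (lvls f) (lvlObj (lvls f) none V)).map (R.cocomplex.d (m + 1) (m + 2)) a = 0) :
    ∃ (W : Opens S) (h : (W : Set S) ≤ V), x ∈ W ∧ ∃ e ∈ van (W : Set S) (R.cocomplex.X m),
      (evalAt (lvls f) (lvlObj (lvls f) none W)).map (R.cocomplex.d m (m + 1)) e =
        (R.cocomplex.X (m + 1)).obj.map ((lvlFun f none).map (homOfLE h)).op a := by
  obtain ⟨W, hW, h, b, hb⟩ := exists_nhd_cls_zero R hf hs hsurj V.2 hx (m + 1) a ha ((sectHom_cocycle_iff R (m + 1) a).2 had)
  have hbd : ((rho f).app W ≫ sectHom _ b) ≫ R.cocomplex.d m (m + 1) = 0 := by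
    rw [Category.assoc, sectHom_comp, hb]
    exact van_map h ha
  obtain ⟨W', hW', h', c, hc, he⟩ := exists_cocycle_correction R hf hs hsurj hW.1 hW.2 m _ hbd
  have e1 : (pointFree f).map (homOfLE h') ≫ (rho f).app W ≫ sectHom _ b - (rho f).app W' ≫ sectHom _ c =
      (rho f).app W' ≫ sectHom _ ((R.cocomplex.X m).obj.map ((lvlFun f none).map (homOfLE h')).op b - c) := by
    rw [← Category.assoc, (rho f).naturality, Category.assoc, map_sectHom h' b, ← Preadditive.comp_sub, ← map_sub]
  have hd1 : (evalAt (lvls f) (lvlObj (lvls f) none W')).map (R.cocomplex.d m (m + 1))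
      ((R.cocomplex.X m).obj.map ((lvlFun f none).map (homOfLE h')).op b - c) =
      (R.cocomplex.X (m + 1)).obj.map ((lvlFun f none).map (homOfLE (h'.trans h))).op a := by
    rw [map_sub, (sectHom_cocycle_iff R m c).1 hc, sub_zero]
    exact (NatTrans.naturality_apply (R.cocomplex.d m (m + 1)).hom _ b).trans ((congrArg _ hb).trans (map_lvl h h' a))
  cases m with
  | zero =>
    refine ⟨⟨W', hW'.1⟩, h'.trans h, hW'.2, _, ?_, hd1⟩
    rw [mem_van]
    exact e1.symm.trans ((extMk_zero_iff R _ _).1 he)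
  | succ k =>
    rw [cls, InjectiveResolution.extMk_eq_zero_iff R _ _ rfl _ k rfl] at he
    obtain ⟨g, hg⟩ := he
    haveI := R.injective k
    obtain ⟨c', hc'⟩ := (sectHom (l := none) (A := W') _).surjective (Injective.factorThru g ((rho f).app W'))
    let dc : (R.cocomplex.X (k + 1)).obj.obj (op (lvlObj (lvls f) none W')) :=
      (evalAt (lvls f) (lvlObj (lvls f) none W')).map (R.cocomplex.d k (k + 1)) c'
    let b' : (R.cocomplex.X (k + 1)).obj.obj (op (lvlObj (lvls f) none W')) :=
      (R.cocomplex.X (k + 1)).obj.map ((lvlFun f none).map (homOfLE h')).op b - c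
    have hv : (rho f).app W' ≫ sectHom (l := none) (A := W') _ (b' - dc) = 0 := by
      rw [map_sub, Preadditive.comp_sub, ← show _ = (rho f).app W' ≫ sectHom (l := none) (A := W') _ b' from e1, ← hg,
        show sectHom (l := none) (A := W') _ dc = sectHom _ c' ≫ R.cocomplex.d k (k + 1) from (sectHom_comp c' _).symm,
        hc', ← Category.assoc, Injective.comp_factorThru, sub_self]
    have hdd : (evalAt (lvls f) (lvlObj (lvls f) none W')).map (R.cocomplex.d (k + 1) (k + 1 + 1)) dc = 0 := by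
      change (evalAt (lvls f) (lvlObj (lvls f) none W')).map _ ((evalAt (lvls f) (lvlObj (lvls f) none W')).map _ c') = 0
      rw [← ConcreteCategory.comp_apply, ← Functor.map_comp, HomologicalComplex.d_comp_d, Functor.map_zero]
      rfl
    have hval : (evalAt (lvls f) (lvlObj (lvls f) none W')).map (R.cocomplex.d (k + 1) (k + 1 + 1)) (b' - dc) =
        (R.cocomplex.X (k + 1 + 1)).obj.map ((lvlFun f none).map (homOfLE (h'.trans h))).op a := by
      rw [map_sub, hdd, sub_zero]
      exact hd1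
    exact ⟨⟨W', hW'.1⟩, h'.trans h, hW'.2, b' - dc, hv, hval⟩

/-- Vanishing cocycles on the base are coboundaries of vanishing sections. -/
theorem exists_primitive (n : ℕ) (a : (R.cocomplex.X n).obj.obj (op (lvlObj (lvls f) none (Set.univ : Set S))))
    (ha : a ∈ van (Set.univ : Set S) (R.cocomplex.X n))
    (had : (evalAt (lvls f) (lvlObj (lvls f) none Set.univ)).map (R.cocomplex.d n (n + 1)) a = 0) :
    match n, a with
    | 0, a => a = 0
    | m + 1, a => ∃ e ∈ van (Set.univ : Set S) (R.cocomplex.X m),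
        (evalAt (lvls f) (lvlObj (lvls f) none Set.univ)).map (R.cocomplex.d m (m + 1)) e = a := by
  haveI := fun k => R.injective k
  let A := fun k => vanSheaf (R.cocomplex.X k)
  let d := fun k => vanMap (R.cocomplex.d k (k + 1))
  have hgm : ∀ (k : ℕ) {x : S} (V : Opens S) (hx : x ∈ V) (s : (A k).obj.obj (op V)),
      (sfib x).map (d k) (gm (A k) x V hx s) = 0 → ∃ (W : Opens S) (hW : W ≤ V), x ∈ W ∧
        (evalAt (lvls f) (lvlObj (lvls f) none W)).map (R.cocomplex.d k (k + 1))
          ((A k).obj.map (homOfLE hW).op s).1 = 0 := fun k x V hx s h => by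
    rw [gm_map] at h
    obtain ⟨W, hW, hxW, e⟩ := gm_eq (A (k + 1)) x hx _ 0 (h.trans (map_zero _).symm)
    refine ⟨W, hW, hxW, (congrArg Subtype.val (NatTrans.naturality_apply (d k).hom (homOfLE hW).op s)).trans ?_⟩
    exact (congrArg Subtype.val e).trans (congrArg Subtype.val (map_zero ((A (k + 1)).obj.map (homOfLE hW).op).hom))
  have hz : ∀ k, d k ≫ d (k + 1) = 0 := fun k => Sheaf.hom_ext (NatTrans.ext (funext fun V =>
    ConcreteCategory.hom_ext _ _ fun s => Subtype.ext (by
      change (evalAt _ _).map (R.cocomplex.d (k + 1) (k + 2)) ((evalAt _ _).map (R.cocomplex.d k (k + 1)) s.1) = 0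
      rw [← ConcreteCategory.comp_apply, ← Functor.map_comp, HomologicalComplex.d_comp_d, Functor.map_zero]
      rfl)))
  have hres : AcyclicRes.IsResolution A d (0 : (0 : CohTop.Ab S) ⟶ A 0) :=
    { mono := ⟨fun g g' _ => (isZero_zero _).eq_of_tgt g g'⟩
      zero₀ := zero_comp
      exact₀ := exact_of_sfib fun x => by
        rw [ShortComplex.ab_exact_iff]
        intro b hb
        obtain ⟨V, hx, s, rfl⟩ := gm_surjective (A 0) x b
        obtain ⟨W, hW, hxW, e⟩ := hgm 0 V hx s hb
        obtain ⟨W', hW', hxW', e'⟩ := locally_exact_zero R hf hs hsurj hxW _ ((A 0).obj.map (homOfLE hW).op s).2 e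
        refine ⟨0, (map_zero _).trans ?_⟩
        rw [← gm_res (A 0) x hW hxW, ← gm_res (A 0) x (show W' ≤ W from hW') hxW']
        refine ((congrArg _ (Subtype.ext ?_)).trans (map_zero (gm (A 0) x W' hxW').hom)).symm
        exact e'
      zero := hz
      exact := fun k => exact_of_sfib fun x => by
        rw [ShortComplex.ab_exact_iff]
        intro b hb
        obtain ⟨V, hx, s, rfl⟩ := gm_surjective (A (k + 1)) x b
        obtain ⟨W, hW, hxW, e⟩ := hgm (k + 1) V hx s hb
        obtain ⟨W', hW', hxW', g, hg, e'⟩ := locally_exact_succ R hf hs hsurj k hxW _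
          ((A (k + 1)).obj.map (homOfLE hW).op s).2 e
        refine ⟨gm (A k) x W' hxW' ⟨g, hg⟩, ?_⟩
        refine (gm_map (d k) x W' hxW' _).trans ?_
        rw [← gm_res (A (k + 1)) x hW hxW, ← gm_res (A (k + 1)) x (show W' ≤ W from hW') hxW']
        exact congrArg _ (Subtype.ext e') }
  let Z := CohCx.freeSheaf (Opens.grothendieckTopology S) (⊤ : Opens S)
  obtain ⟨ψ, -, hk⟩ := AcyclicRes.exists_cocyclesToExt Z n A d _ hres fun k q _ =>
    (subsingleton_HU_succ_of_flasque (A k) ⊤ q : _)
  let z : Z ⟶ A n := CohFree.ofSect _ ⊤ _ (⟨a, ha⟩ : van (Set.univ : Set S) (R.cocomplex.X n))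
  have hz' : z ≫ d n = 0 := by
    refine (ofSect_comp _ (d n)).trans ?_
    rw [show (d n).hom.app (op ⊤) (⟨a, ha⟩ : van (Set.univ : Set S) (R.cocomplex.X n)) = 0 from Subtype.ext had]
    exact map_zero (CohFree.homEquivSect (Opens.grothendieckTopology S) ⊤ (A (n + 1))).symm
  have h0 : z ∈ AcyclicRes.cobound Z A d n := (hk ⟨z, hz'⟩).1 (by
    rw [← Ext.comp_mk₀_id (ψ ⟨z, hz'⟩), (isZero_zero _).eq_of_src (𝟙 (0 : CohTop.Ab S)) 0, Ext.mk₀_zero, Ext.comp_zero])
  cases n with
  | zero =>
    change z = 0 at h0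
    exact congrArg Subtype.val ((CohFree.evalGen_ofSect (Opens.grothendieckTopology S) ⊤ (A 0) _).symm.trans
      ((congrArg (CohFree.evalGen _ ⊤ (A 0)) h0).trans (map_zero _)))
  | succ m =>
    obtain ⟨g, hg⟩ := h0
    refine ⟨(CohFree.evalGen _ ⊤ (A m) g).1, (CohFree.evalGen _ ⊤ (A m) g).2, ?_⟩
    exact congrArg Subtype.val ((evalGen_comp g (d m)).symm.trans
      ((congrArg _ hg).trans (CohFree.evalGen_ofSect (Opens.grothendieckTopology S) ⊤ (A (m + 1)) _)))

include R in
theorem bijective_pre_univ (n : ℕ) :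
    Function.Bijective (NearExt.pre (germSheaf (lvls f) F) (rho f) (Set.univ : Set S) n) := by
  constructor
  · refine (injective_iff_map_eq_zero _).2 fun β hβ => ?_
    obtain ⟨a, had, rfl⟩ := exists_cls R n β
    rw [pre_cls] at hβ
    rw [cls_sectHom_eq_zero]
    cases n with
    | zero => exact exists_primitive R hf hs hsurj 0 a ((extMk_zero_iff R _ _).1 hβ) ((sectHom_cocycle_iff R 0 a).1 had)
    | succ m =>
      rw [cls, InjectiveResolution.extMk_eq_zero_iff R _ _ rfl _ m rfl] at hβ
      obtain ⟨g, hg⟩ := hβ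
      haveI := R.injective m
      obtain ⟨c, hc⟩ := (sectHom (l := none) (A := (Set.univ : Set S)) _).surjective
        (Injective.factorThru g ((rho f).app (Set.univ : Set S)))
      let Φ := evalAt (lvls f) (lvlObj (lvls f) none (Set.univ : Set S))
      let dc : (R.cocomplex.X (m + 1)).obj.obj (op (lvlObj (lvls f) none (Set.univ : Set S))) :=
        Φ.map (R.cocomplex.d m (m + 1)) c
      have hd2 : Φ.map (R.cocomplex.d (m + 1) (m + 2)) (Φ.map (R.cocomplex.d m (m + 1)) c) = 0 := by
        rw [← ConcreteCategory.comp_apply, ← Functor.map_comp, HomologicalComplex.d_comp_d, Functor.map_zero]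
        rfl
      obtain ⟨e, -, he⟩ := exists_primitive R hf hs hsurj (m + 1) (a - dc)
        (by rw [mem_van, map_sub, Preadditive.comp_sub, ← hg, ← sectHom_comp, hc, ← Category.assoc,
          Injective.comp_factorThru, sub_self])
        (by rw [map_sub, hd2, sub_zero]; exact (sectHom_cocycle_iff R (m + 1) a).1 had)
      exact ⟨c + e, by rw [map_add, he, add_sub_cancel]⟩
  · intro γ
    obtain ⟨φ, hφ, rfl⟩ := R.extMk_surjective γ (n + 1) rfl
    haveI := R.injective n
    obtain ⟨g, hg⟩ := (sectHom (l := none) (A := (Set.univ : Set S)) _).surjective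
      (Injective.factorThru φ ((rho f).app (Set.univ : Set S)))
    have hg' : (rho f).app (Set.univ : Set S) ≫ sectHom _ g = φ := by rw [hg, Injective.comp_factorThru]
    let Φ := evalAt (lvls f) (lvlObj (lvls f) none (Set.univ : Set S))
    obtain ⟨e, hev, he⟩ := exists_primitive R hf hs hsurj (n + 1) (Φ.map (R.cocomplex.d n (n + 1)) g)
      (by rw [mem_van, ← sectHom_comp, ← Category.assoc, hg', hφ])
      (by
        rw [← ConcreteCategory.comp_apply, ← Functor.map_comp, HomologicalComplex.d_comp_d, Functor.map_zero]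
        rfl)
    have hcd : sectHom _ (g - e) ≫ R.cocomplex.d n (n + 1) = 0 := by
      rw [sectHom_cocycle_iff, map_sub, he, sub_self]
    refine ⟨cls R n (sectHom _ (g - e)) hcd, ?_⟩
    rw [pre_cls]
    exact cls_eq R (by rw [map_sub, Preadditive.comp_sub, hg', mem_van.1 hev, sub_zero]) _ hφ

end Compare

theorem exists_proper_descent_spectralSequence (hf : IsProperMap f)
    (hs : ∀ x x' : X, f x = f x' → x ≠ x' → ∃ U V : Set X, IsOpen U ∧ IsOpen V ∧ x ∈ U ∧ x' ∈ V ∧ Disjoint U V)
    (hsurj : Function.Surjective f) (F : CohTop.Ab S) :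
    ∃ (E : CohomologicalSpectralSequence AddCommGrpCat.{u} 1)
      (a : SpSeq.Abutment E (fun n : ℤ =>
        if 0 ≤ n then AddCommGrpCat.of (CohTop.H F n.toNat) else AddCommGrpCat.of PUnit.{u + 1})),
      (∀ n, a.IsFinite n) ∧ SpSeq.IsBounded E ∧
      ∀ p q : ℤ, Nonempty ((E.page 1 le_rfl).X (p, q) ≅
        (if 0 ≤ p ∧ 0 ≤ q then
          AddCommGrpCat.of (CohTop.H ((CohTop.pull (powBase f p.toNat)).obj F) q.toNat)
         else AddCommGrpCat.of PUnit.{u + 1})) := by
  let A := Sh (lvls f)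
  let G := germSheaf (lvls f) F
  let R : InjectiveResolution G := injectiveResolution G
  letI : HasDerivedCategory.{u} A := hasSmallDerivedCategory A
  letI : HasDerivedCategory.{u} Aᵒᵖ := hasDerivedCategoryOp A
  haveI : HasExt.{u} Aᵒᵖ := hasExt_of_hasDerivedCategory Aᵒᵖ
  have hres := isResolution_op _ _ _ (isResolution_nerveFree_app f (Set.univ : Set S))
  obtain ⟨E, a, ha, hb, hE⟩ := exists_spectralSequence_of_isResolution (op G) _ _ _ _ hres
    (fun n : ℤ => if 0 ≤ n then AddCommGrpCat.of (CohTop.H F n.toNat) else AddCommGrpCat.of PUnit.{u + 1})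
    (fun n => by
      by_cases hn : 0 ≤ n
      · rw [if_pos hn, if_pos hn]
        obtain ⟨e₁⟩ := nonempty_extOp_equiv ((pointFree f).obj (Set.univ : Set S)) n.toNat G
        let e₂ : Ext ((lvlFree f none).obj (Set.univ : Set S)) G n.toNat ≃+
            Ext ((pointFree f).obj (Set.univ : Set S)) G n.toNat :=
          AddEquiv.ofBijective _ (bijective_pre_univ R hf hs hsurj n.toNat)
        obtain ⟨e₃⟩ := nonempty_ext_level (str := lvls f) none G n.toNat
        obtain ⟨e₄⟩ := nonempty_iso_res_of_id (str := lvls f) (F := F) none (𝟙 _)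
          Topology.IsEmbedding.id (Category.id_comp _)
        exact ⟨AddEquiv.toAddCommGrpIso
          (((e₁.trans e₂.symm).trans e₃).trans (extIsoRight e₄.symm _ n.toNat))⟩
      · rw [if_neg hn, if_neg hn]
        exact ⟨Iso.refl _⟩)
  refine ⟨E, a, ha, hb, fun p q => ?_⟩
  obtain ⟨i⟩ := hE p q
  by_cases h : 0 ≤ p ∧ 0 ≤ q
  · rw [if_pos h] at i ⊢
    let K := ((nerveFree f).left.obj (op ⦋p.toNat⦌)).obj (Set.univ : Set S)
    obtain ⟨e₁⟩ := nonempty_extOp_equiv K q.toNat G
    let e₂ : (lvlFree f (some p.toNat)).obj (Set.univ : Set S) ≅ K :=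
      (Functor.isoWhiskerRight (levelIso f p.toNat) (freeSh (topology (lvls f)))).app (Set.univ : Set S)
    obtain ⟨e₃⟩ := nonempty_ext_level (str := lvls f) (some p.toNat) G q.toNat
    obtain ⟨e₄⟩ := nonempty_pullIso (str := lvls f) (l := some p.toNat) F
      (i := 𝟙 (lvls f (some p.toNat)).left) Topology.IsEmbedding.id
    rw [Category.id_comp] at e₄
    exact ⟨i ≪≫ AddEquiv.toAddCommGrpIso
      (((e₁.trans (extIsoLeft e₂ G q.toNat)).trans e₃).trans (extIsoRight e₄.symm _ q.toNat))⟩
  · rw [if_neg h] at i ⊢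
    exact ⟨i⟩

end Groth.Agent.CohTopBC.DescentSite
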