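import Mathlib
import Groth.Agent.CohTopBC.DescentMain

/-!
Cocycles and classes near a fibre of a proper morphism of the site of subspaces.
-/

set_option autoImplicit false
universe u

open CategoryTheory CategoryTheory.Limits Opposite TopologicalSpace
open CategoryTheory.Abelian
open Groth.SiteCohomology
open Groth.Agent.CohDescent (gm gm_res gm_eq gm_map gm_surjective sect_ext res_res tau tau_gm bijective_tau pb nonempty_ext_equiv_of_natIso_zero)

namespace Groth.Agent.CohTopBC.DescentSite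

variable {S : TopCat.{u}} {ι : Type} {str : ι → Over S}

/-- The underlying space of an object. -/
abbrev Obj.space (a : Obj str) : TopCat.{u} := TopCat.of a.carrier

/-- The inclusion of an object into its level. -/
abbrev Obj.emb (a : Obj str) : a.space ⟶ (str a.lvl.down).left := TopCat.ofHom ⟨Subtype.val, continuous_subtype_val⟩

lemma Obj.isEmbedding_emb (a : Obj str) : Topology.IsEmbedding a.emb := Topology.IsEmbedding.subtypeVal

/-- The underlying continuous map of a morphism. -/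
abbrev mapTop {a b : Obj str} (φ : a ⟶ b) : a.space ⟶ b.space := TopCat.ofHom φ.1

/-- Points with separated fibres. -/
def SepFibres {a b : Obj str} (φ : a ⟶ b) : Prop :=
  ∀ z z' : a.carrier, φ.1 z = φ.1 z' → z ≠ z' →
    ∃ U V : Set a.carrier, IsOpen U ∧ IsOpen V ∧ z ∈ U ∧ z' ∈ V ∧ Disjoint U V

variable {a b : Obj str} (φ : a ⟶ b)

/-- The part of an object over a subset of the target. -/
abbrev preObj (A : Set (str b.lvl.down).left) : Obj str :=
  ⟨a.lvl, {v | ∃ h : v ∈ a.carrier, (φ.1 ⟨v, h⟩).1 ∈ A}⟩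

/-- The parts of an object over subsets of the target. -/
@[reducible] noncomputable def preFun : Set (str b.lvl.down).left ⥤ Obj str where
  obj A := preObj φ A
  map h := incl fun _ hv => ⟨hv.1, h.le hv.2⟩

/-- The free sheaves on the parts of an object. -/
noncomputable abbrev preFree : Set (str b.lvl.down).left ⥤ Sh str :=
  (preFun φ ⋙ yoneda) ⋙ freeSh (topology str)

/-- The inclusion of the fibre. -/
def preFibSub {A : Set (str b.lvl.down).left} {x : (str b.lvl.down).left} (hx : x ∈ A) :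
    preObj φ {x} ⟶ preObj φ A :=
  incl fun v (hv : ∃ h : v ∈ a.carrier, (φ.1 ⟨v, h⟩).1 ∈ ({x} : Set (str b.lvl.down).left)) => by
    obtain ⟨h, e⟩ := hv
    refine ⟨h, ?_⟩
    rw [show (φ.1 ⟨v, h⟩).1 = x from e]
    exact hx

/-- The trace of an open set on an object. -/
def cut (b : Obj str) {A : Set (str b.lvl.down).left} (hA : IsOpen A) : Opens b.space :=
  ⟨Subtype.val ⁻¹' A, hA.preimage continuous_subtype_val⟩

lemma exists_cut (V : Opens b.space) : ∃ (B : Set (str b.lvl.down).left) (hB : IsOpen B), cut b hB = V := by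
  obtain ⟨B, hB, e⟩ := isOpen_induced_iff.1 V.2
  exact ⟨B, hB, Opens.ext e⟩

lemma pre_sub {A : Set (str b.lvl.down).left} (V : Opens b.space) (hV : Subtype.val ⁻¹' A ⊆ (V : Set b.space)) :
    (preObj φ A).carrier ⊆ a.emb '' ((Opens.map (mapTop φ)).obj V : Set a.space) :=
  fun v ⟨h, hv⟩ => ⟨⟨v, h⟩, hV hv, rfl⟩

lemma sub_pre {A : Set (str b.lvl.down).left} (V : Opens b.space) (hV : (V : Set b.space) ⊆ Subtype.val ⁻¹' A) :
    a.emb '' ((Opens.map (mapTop φ)).obj V : Set a.space) ⊆ (preObj φ A).carrier := by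
  rintro _ ⟨z, hz, rfl⟩
  exact ⟨z.2, hV hz⟩

section Near

variable (F : CohTop.Ab S) (R : InjectiveResolution (germSheaf str F))
  (hp : IsProperMap φ.1) (hsep : SepFibres φ) (x : b.space)
include hp hsep

/-- Cocycles along a fibre extend to a neighbourhood up to coboundaries, uniquely up to coboundaries. -/
theorem near_fibre_obj (n : ℕ) :
    (∀ c : (evalAt str (preObj φ {x.1})).obj (R.cocomplex.X n),
      (evalAt str (preObj φ {x.1})).map (R.cocomplex.d n (n + 1)) c = 0 →
      ∃ (A : Set (str b.lvl.down).left) (_ : IsOpen A) (hx : x.1 ∈ A) (d : (evalAt str (preObj φ A)).obj (R.cocomplex.X n)),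
        (evalAt str (preObj φ A)).map (R.cocomplex.d n (n + 1)) d = 0 ∧
        IsCob R (evalAt str (preObj φ {x.1})) n ((evalRes (preFibSub φ hx)).app _ d - c)) ∧
    ∀ (A : Set (str b.lvl.down).left) (_ : IsOpen A) (hx : x.1 ∈ A) (d : (evalAt str (preObj φ A)).obj (R.cocomplex.X n)),
      (evalAt str (preObj φ A)).map (R.cocomplex.d n (n + 1)) d = 0 →
      IsCob R (evalAt str (preObj φ {x.1})) n ((evalRes (preFibSub φ hx)).app _ d) →
      ∃ (B : Set (str b.lvl.down).left) (h : B ≤ A), IsOpen B ∧ x.1 ∈ B ∧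
        IsCob R (evalAt str (preObj φ B)) n ((evalRes ((preFun φ).map (homOfLE h))).app _ d) := by
  let g : a.space ⟶ b.space := mapTop φ
  let j : TopCat.of (g ⁻¹' {x}) ⟶ a.space := fibIncl g x
  have hi : Topology.IsEmbedding a.emb := a.isEmbedding_emb
  have hj : Topology.IsEmbedding (j ≫ a.emb) := a.isEmbedding_emb.comp Topology.IsEmbedding.subtypeVal
  have hc : IsClosedMap g := hp.isClosedMap
  have hK : IsCompact (g ⁻¹' {x}) := hp.isCompact_preimage isCompact_singleton
  haveI : CompactSpace (TopCat.of (g ⁻¹' {x})) := isCompact_iff_compactSpace.1 hK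
  have hsep' : ∀ z z' : TopCat.of (g ⁻¹' {x}), z ≠ z' →
      ∃ U V : Set a.space, IsOpen U ∧ IsOpen V ∧ j z ∈ U ∧ j z' ∈ V ∧ Disjoint U V := fun z z' h =>
    hsep z.1 z'.1 (Eq.trans z.2 (Eq.symm z'.2)) fun e => h (Subtype.ext e)
  haveI : T2Space (TopCat.of (g ⁻¹' {x})) := ⟨fun z z' h => by
    obtain ⟨U, V, hU, hV, hzU, hzV, hd⟩ := hsep' z z' h
    exact ⟨_, _, hU.preimage continuous_subtype_val, hV.preimage continuous_subtype_val, hzU, hzV, hd.preimage _⟩⟩
  haveI := quasiIso_theta F R hi j hj hsep' Topology.IsEmbedding.subtypeVal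
  let τ := Functor.whiskerRight (theta hi j hj) (secTop (TopCat.of (g ⁻¹' {x})))
  haveI : (CohTop.pull j).Additive := additive_inverseImage _
  haveI hadd₁ : ((res hi ⋙ CohTop.pull j) ⋙ secTop (TopCat.of (g ⁻¹' {x}))).Additive :=
    haveI : (res hi).Additive := { map_add := rfl }
    haveI : (res hi ⋙ CohTop.pull j).Additive := inferInstance
    inferInstance
  haveI hadd₂ : (res hj ⋙ secTop (TopCat.of (g ⁻¹' {x}))).Additive := { map_add := rfl }
  let J := R.cocomplex
  let lift : ∀ V : Opens b.space, Obj str := fun V => mk str a.lvl.down (a.emb '' ((Opens.map g).obj V : Set a.space))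
  let sect : ∀ (V : Opens b.space), x ∈ V → ∀ G : Sh str, G.obj.obj (op (lift V)) →
      (secTop _).obj ((res hi ⋙ CohTop.pull j).obj G) := fun V hV G s =>
    kappa g x ((res hi).obj G) (gm ((CohTop.push g).obj ((res hi).obj G)) x V hV s)
  have sect_nat : ∀ (V : Opens b.space) (hV : x ∈ V) (G G' : Sh str) (ψ : G ⟶ G') (s : G.obj.obj (op (lift V))),
      ((res hi ⋙ CohTop.pull j) ⋙ secTop _).map ψ (sect V hV G s) = sect V hV G' (ψ.hom.app _ s) := by
    intro V hV G G' ψ s
    dsimp only [sect]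
    rw [kappa_gm, kappa_gm]
    refine (NatTrans.naturality_apply ((CohTop.pull j).map ((res hi).map ψ)).hom (homOfLE (fib_le g x V hV)).op _).trans
      (congrArg _ ?_)
    exact ConcreteCategory.congr_hom (congrArg (fun k => k.hom.app (op ((Opens.map g).obj V)))
      ((pullPushAdj j).unit.naturality ((res hi).map ψ))).symm s
  have subj : (j ≫ a.emb) '' ((⊤ : Opens (TopCat.of (g ⁻¹' {x}))) : Set (TopCat.of (g ⁻¹' {x}))) ⊆
      (preObj φ {x.1}).carrier := by
    rintro _ ⟨z, -, rfl⟩
    exact ⟨z.1.2, congrArg Subtype.val z.2⟩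
  have jsub : (preObj φ {x.1}).carrier ⊆
      (j ≫ a.emb) '' ((⊤ : Opens (TopCat.of (g ⁻¹' {x}))) : Set (TopCat.of (g ⁻¹' {x}))) :=
    fun v ⟨h, hv⟩ => ⟨⟨⟨v, h⟩, Subtype.ext hv⟩, trivial, rfl⟩
  let e₁ : res hj ⋙ secTop _ ⟶ evalAt str (preObj φ {x.1}) :=
    { app := fun G => G.obj.map (incl jsub).op
      naturality := fun G G' ψ => (ψ.hom.naturality (incl jsub).op).symm }
  let e₂ : evalAt str (preObj φ {x.1}) ⟶ res hj ⋙ secTop _ :=
    { app := fun G => G.obj.map (incl subj).op
      naturality := fun G G' ψ => (ψ.hom.naturality (incl subj).op).symm }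
  have e_e : ∀ G (c : G.obj.obj (op (preObj φ {x.1}))), e₁.app G (e₂.app G c) = c := fun G c => by
    refine (map_map G (incl subj) (incl jsub) c).trans ?_
    change G.obj.map (𝟙 _) c = c
    rw [G.obj.map_id]
    rfl
  have sect_val : ∀ (V : Opens b.space) (hV : x ∈ V) (G : Sh str) (s : G.obj.obj (op (lift V)))
      (h : (preObj φ {x.1}).carrier ⊆ (lift V).carrier),
      e₁.app G (τ.app G (sect V hV G s)) = G.obj.map (incl (l := a.lvl) h).op s := by
    intro V hV G s h
    dsimp only [sect]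
    rw [kappa_gm]
    refine (congrArg (e₁.app G) ((NatTrans.naturality_apply ((theta hi j hj).app G).hom
      (homOfLE (fib_le g x V hV)).op _).trans (congrArg _ (theta_pb hi j hj G ((Opens.map g).obj V) s)))).trans ?_
    exact (congrArg (G.obj.map (incl jsub).op) (map_map G (incl (image_sub (i := a.emb) j ((Opens.map g).obj V)))
      ((openFun (j ≫ a.emb)).map (homOfLE (fib_le g x V hV))) s)).trans (map_map G _ _ s)
  refine ⟨fun c hc' => ?_, fun A hA hx d hd hcob => ?_⟩
  · obtain ⟨a₀, ha₀, hcob⟩ := resolution_surj R τ n (e₂.app _ c)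
      ((NatTrans.naturality_apply e₂ (J.d n (n + 1)) c).symm.trans ((congrArg _ hc').trans (map_zero _)))
    obtain ⟨α, rfl⟩ := (bijective_kappa g hc x hK hsep ((res hi).obj (J.X n))).2 a₀
    obtain ⟨V, hV, s, rfl⟩ := gm_surjective _ x α
    have h0 : gm ((CohTop.push g).obj ((res hi).obj (J.X (n + 1)))) x V hV ((J.d n (n + 1)).hom.app _ s) =
        gm ((CohTop.push g).obj ((res hi).obj (J.X (n + 1)))) x V hV 0 := by
      refine ((bijective_kappa g hc x hK hsep ((res hi).obj (J.X (n + 1)))).1 ?_).trans (map_zero _).symm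
      exact ((sect_nat V hV _ _ (J.d n (n + 1)) s).symm.trans ha₀).trans
        (map_zero (kappa g x ((res hi).obj (J.X (n + 1)))).hom).symm
    obtain ⟨W, hW, hxW, e⟩ := gm_eq _ _ _ _ _ h0
    obtain ⟨B, hB, hBW⟩ := exists_cut W
    have hBsub : Subtype.val ⁻¹' B ⊆ (W : Set b.space) := fun z hz => hBW ▸ hz
    have hxB : x.1 ∈ B := by rw [← hBW] at hxW; exact hxW
    let k : preObj φ B ⟶ lift V := incl ((pre_sub φ W hBsub).trans (Set.image_mono fun z hz => hW hz))
    refine ⟨B, hB, hxB, (J.X n).obj.map k.op s, ?_, ?_⟩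
    · refine (NatTrans.naturality_apply (J.d n (n + 1)).hom k.op s).trans ?_
      have e' := congrArg ((J.X (n + 1)).obj.map (incl (pre_sub φ W hBsub)).op) e
      refine (map_map (J.X (n + 1)) ((openFun a.emb).map ((Opens.map g).map (homOfLE hW)))
        (incl (pre_sub φ W hBsub)) _).symm.trans (e'.trans ?_)
      exact (congrArg ((J.X (n + 1)).obj.map (incl (pre_sub φ W hBsub)).op)
        (map_zero (((CohTop.push g).obj ((res hi).obj (J.X (n + 1)))).obj.map (homOfLE hW).op).hom)).trans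
          (map_zero ((J.X (n + 1)).obj.map (incl (pre_sub φ W hBsub)).op).hom)
    · have hb' := IsCob.map e₁ hcob
      rw [map_sub, e_e] at hb'
      convert hb' using 2
      refine Eq.trans ?_ (sect_val V hV _ s ((pre_sub φ V (A := {x.1}) ?_))).symm
      · exact map_map _ _ _ s
      · rintro z (hz : z.1 = x.1)
        rw [Subtype.ext hz]
        exact hV
  · have hxV : x ∈ cut b hA := hx
    let s : (J.X n).obj.obj (op (lift (cut b hA))) :=
      (J.X n).obj.map (incl (sub_pre φ (cut b hA) (A := A) subset_rfl)).op d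
    have hs : (J.d n (n + 1)).hom.app _ s = 0 := by
      refine (NatTrans.naturality_apply (J.d n (n + 1)).hom (incl (sub_pre φ (cut b hA) (A := A) subset_rfl)).op d).trans ?_
      exact (congrArg _ hd).trans (map_zero _)
    have hd' : ((res hi ⋙ CohTop.pull j) ⋙ secTop _).map (J.d n (n + 1)) (sect (cut b hA) hxV _ s) = 0 := by
      rw [sect_nat, hs]
      exact (congrArg _ (map_zero _)).trans (map_zero (kappa g x ((res hi).obj (J.X (n + 1)))).hom)
    have hτ : τ.app _ (sect (cut b hA) hxV _ s) = e₂.app _ ((evalRes (preFibSub φ hx)).app _ d) := by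
      dsimp only [sect]
      rw [kappa_gm]
      refine ((NatTrans.naturality_apply ((theta hi j hj).app _).hom (homOfLE (fib_le g x (cut b hA) hxV)).op _).trans
        (congrArg _ (theta_pb hi j hj _ ((Opens.map g).obj (cut b hA)) s))).trans ?_
      exact ((congrArg _ (map_map _ _ _ d)).trans (map_map _ _ _ d)).trans
        (map_map _ (preFibSub φ hx) (incl subj) d).symm
    have hA' : IsCob R ((res hi ⋙ CohTop.pull j) ⋙ secTop _) n (sect (cut b hA) hxV _ s) :=
      resolution_inj R τ n _ hd' (hτ.symm ▸ IsCob.map e₂ hcob)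
    cases n with
    | zero =>
      have h0 : gm ((CohTop.push g).obj ((res hi).obj (J.X 0))) x (cut b hA) hxV s =
          gm ((CohTop.push g).obj ((res hi).obj (J.X 0))) x (cut b hA) hxV 0 := by
        refine ((bijective_kappa g hc x hK hsep ((res hi).obj (J.X 0))).1 ?_).trans (map_zero _).symm
        exact hA'.trans (map_zero _).symm
      obtain ⟨W, hW, hxW, e⟩ := gm_eq _ _ _ _ _ h0
      obtain ⟨B, hB, hBW⟩ := exists_cut W
      have hBsub : Subtype.val ⁻¹' (A ∩ B) ⊆ (W : Set b.space) := fun z hz => hBW ▸ hz.2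
      have hxB : x.1 ∈ B := by rw [← hBW] at hxW; exact hxW
      refine ⟨A ∩ B, Set.inter_subset_left, hA.inter hB, ⟨hx, hxB⟩, ?_⟩
      have e' := congrArg ((J.X 0).obj.map (incl (pre_sub φ W hBsub)).op) e
      replace e' := e'.trans ((congrArg ((J.X 0).obj.map (incl (pre_sub φ W hBsub)).op)
        (map_zero (((CohTop.push g).obj ((res hi).obj (J.X 0))).obj.map (homOfLE hW).op).hom)).trans
          (map_zero ((J.X 0).obj.map (incl (pre_sub φ W hBsub)).op).hom))
      refine Eq.trans ?_ e'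
      refine Eq.symm ((congrArg ((J.X 0).obj.map (incl (pre_sub φ W hBsub)).op)
        (map_map (J.X 0) (incl (sub_pre φ (cut b hA) (A := A) subset_rfl))
          ((openFun a.emb).map ((Opens.map g).map (homOfLE hW))) d)).trans
        (map_map (J.X 0) _ (incl (pre_sub φ W hBsub)) d))
    | succ m =>
      obtain ⟨c₀, hc₀⟩ := hA'
      obtain ⟨γ, rfl⟩ := (bijective_kappa g hc x hK hsep ((res hi).obj (J.X m))).2 c₀
      obtain ⟨V', hV', c, rfl⟩ := gm_surjective _ x γ
      let I := cut b hA ⊓ V'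
      have hxI : x ∈ I := ⟨hxV, hV'⟩
      have h0 : gm ((CohTop.push g).obj ((res hi).obj (J.X (m + 1)))) x I hxI
            (((CohTop.push g).obj ((res hi).obj (J.X (m + 1)))).obj.map (homOfLE (inf_le_right : I ≤ V')).op
              ((J.d m (m + 1)).hom.app _ c)) =
          gm ((CohTop.push g).obj ((res hi).obj (J.X (m + 1)))) x I hxI
            (((CohTop.push g).obj ((res hi).obj (J.X (m + 1)))).obj.map (homOfLE (inf_le_left : I ≤ cut b hA)).op s) := by
        refine (gm_res _ _ inf_le_right hxI _).trans (Eq.trans ?_ (gm_res _ _ inf_le_left hxI _).symm)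
        exact (bijective_kappa g hc x hK hsep ((res hi).obj (J.X (m + 1)))).1
          ((sect_nat V' hV' _ _ (J.d m (m + 1)) c).symm.trans hc₀)
      obtain ⟨W, hW, hxW, e⟩ := gm_eq _ _ _ _ _ h0
      obtain ⟨B, hB, hBW⟩ := exists_cut W
      have hBsub : Subtype.val ⁻¹' (A ∩ B) ⊆ (W : Set b.space) := fun z hz => hBW ▸ hz.2
      have hxB : x.1 ∈ B := by rw [← hBW] at hxW; exact hxW
      refine ⟨A ∩ B, Set.inter_subset_left, hA.inter hB, ⟨hx, hxB⟩,
        (J.X m).obj.map (incl ((pre_sub φ W hBsub).trans (Set.image_mono fun z hz => (hW hz).2))).op c, ?_⟩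
      have e' := congrArg ((J.X (m + 1)).obj.map (incl (pre_sub φ W hBsub)).op) e
      refine (NatTrans.naturality_apply (J.d m (m + 1)).hom _ c).trans (Eq.trans ?_ (e'.trans ?_))
      · exact ((congrArg ((J.X (m + 1)).obj.map (incl (pre_sub φ W hBsub)).op)
          (map_map (J.X (m + 1)) ((openFun a.emb).map ((Opens.map g).map (homOfLE (inf_le_right : I ≤ V'))))
            ((openFun a.emb).map ((Opens.map g).map (homOfLE hW))) _)).trans
          (map_map (J.X (m + 1)) _ (incl (pre_sub φ W hBsub)) _)).symm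
      · refine (congrArg ((J.X (m + 1)).obj.map (incl (pre_sub φ W hBsub)).op)
          ((congrArg ((J.X (m + 1)).obj.map ((openFun a.emb).map ((Opens.map g).map (homOfLE hW))).op)
            (map_map (J.X (m + 1)) (incl (sub_pre φ (cut b hA) (A := A) subset_rfl))
              ((openFun a.emb).map ((Opens.map g).map (homOfLE (inf_le_left : I ≤ cut b hA)))) d)).trans
            (map_map (J.X (m + 1)) _ ((openFun a.emb).map ((Opens.map g).map (homOfLE hW))) d))).trans ?_
        exact map_map (J.X (m + 1)) _ (incl (pre_sub φ W hBsub)) d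

end Near

section Classes

variable {F : CohTop.Ab S} (R : InjectiveResolution (germSheaf str F))

lemma extMk_zero_iff' {X' : Sh str} (ψ : X' ⟶ R.cocomplex.X 0) (hψ : ψ ≫ R.cocomplex.d 0 1 = 0) :
    R.extMk ψ 1 rfl hψ = 0 ↔ ψ = 0 := by
  refine ⟨fun h => ?_, fun h => by subst h; exact R.extMk_zero 1 rfl⟩
  rw [← R.extEquivCohomologyClass.apply_eq_iff_eq, InjectiveResolution.extEquivCohomologyClass_extMk,
    InjectiveResolution.extEquivCohomologyClass_zero, CochainComplex.HomComplex.CohomologyClass.mk_eq_zero_iff,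
    CochainComplex.HomComplex.Cocycle.fromSingleMk_mem_coboundaries_iff _ _ _ _ _ (-1 : ℤ) (by simp)] at h
  obtain ⟨g, hg⟩ := h
  rw [(R.cochainComplex.isZero_of_isStrictlyGE 0 (-1) (by simp)).eq_of_tgt g 0, zero_comp] at hg
  rw [← cancel_mono (R.cochainComplexXIso 0 0 rfl).inv, zero_comp]
  exact hg.symm

lemma extMk_congr {X' : Sh str} {n : ℕ} {ψ ψ' : X' ⟶ R.cocomplex.X n} (e : ψ = ψ')
    (h : ψ ≫ R.cocomplex.d n (n + 1) = 0) (h' : ψ' ≫ R.cocomplex.d n (n + 1) = 0) :
    R.extMk ψ (n + 1) rfl h = R.extMk ψ' (n + 1) rfl h' := by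
  subst e
  rfl

lemma extMk_sect_eq_zero (c : Obj str) (n : ℕ) (s : (R.cocomplex.X n).obj.obj (op c))
    (hs : CohFree.ofSect (topology str) c _ s ≫ R.cocomplex.d n (n + 1) = 0) :
    R.extMk _ (n + 1) rfl hs = 0 ↔ IsCob R (evalAt str c) n s := by
  cases n with
  | zero =>
    rw [extMk_zero_iff']
    exact ⟨fun h => (CohFree.evalGen_ofSect _ c _ s).symm.trans ((congrArg (CohFree.evalGen _ c _) h).trans (map_zero _)),
      fun (h : s = 0) => by subst h; exact map_zero (CohFree.homEquivSect (topology str) c _).symm⟩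
  | succ n =>
    rw [R.extMk_eq_zero_iff _ _ rfl hs n rfl]
    constructor
    · rintro ⟨g, hg⟩
      refine ⟨CohFree.evalGen (topology str) c _ g, ?_⟩
      exact (evalGen_comp g _).symm.trans ((congrArg _ hg).trans (CohFree.evalGen_ofSect _ c _ s))
    · rintro ⟨d, hd⟩
      exact ⟨CohFree.ofSect _ c _ d, (ofSect_comp d _).trans (congrArg _ hd)⟩

lemma sect_cocycle_iff (c : Obj str) (n : ℕ) (s : (R.cocomplex.X n).obj.obj (op c)) :
    CohFree.ofSect (topology str) c _ s ≫ R.cocomplex.d n (n + 1) = 0 ↔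
      (evalAt str c).map (R.cocomplex.d n (n + 1)) s = 0 := by
  rw [ofSect_comp]
  constructor
  · intro h
    exact (CohFree.evalGen_ofSect _ c _ _).symm.trans ((congrArg (CohFree.evalGen (topology str) c _) h).trans (map_zero _))
  · intro h
    rw [show ((R.cocomplex.d n (n + 1)).hom.app (op c)) s = 0 from h]
    exact map_zero (CohFree.homEquivSect (topology str) c _).symm

end Classes

/-- Neighbourhoods of a point in a space. -/
def nbhdsSet {T : Type u} [TopologicalSpace T] (w : T) : Set (Set T) := {A | IsOpen A ∧ w ∈ A}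

lemma nbhdsSet_le {T : Type u} [TopologicalSpace T] {w : T} : ∀ A ∈ nbhdsSet w, ({w} : Set T) ≤ A :=
  fun _ hA => Set.singleton_subset_iff.2 hA.2

lemma nbhdsSet_dir {T : Type u} [TopologicalSpace T] {w : T} :
    ∀ A ∈ nbhdsSet w, ∀ B ∈ nbhdsSet w, ∃ C ∈ nbhdsSet w, C ≤ A ∧ C ≤ B :=
  fun A hA B hB => ⟨A ∩ B, ⟨hA.1.inter hB.1, hA.2, hB.2⟩, Set.inter_subset_left, Set.inter_subset_right⟩

theorem near_preFree {F : CohTop.Ab S} (R : InjectiveResolution (germSheaf str F)) (hp : IsProperMap φ.1)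
    (hsep : SepFibres φ) (x : b.space) (n : ℕ) :
    NearExt.Inj (germSheaf str F) {x.1} (nbhdsSet x.1) (preFree φ) n ∧
      NearExt.Surj (germSheaf str F) {x.1} (nbhdsSet x.1) (preFree φ) n := by
  obtain ⟨hsurj, hinj⟩ := near_fibre_obj φ F R hp hsep x n
  let E := fun (A : Set (str b.lvl.down).left) (G : Sh str) (s : G.obj.obj (op (preObj φ A))) =>
    (CohFree.ofSect (topology str) (preObj φ A) G s : (preFree φ).obj A ⟶ G)
  have key : ∀ (A : Set (str b.lvl.down).left) (β : Ext ((preFree φ).obj A) (germSheaf str F) n),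
      ∃ (s : (R.cocomplex.X n).obj.obj (op (preObj φ A))) (hs : E A _ s ≫ R.cocomplex.d n (n + 1) = 0),
        R.extMk (E A _ s) (n + 1) rfl hs = β := fun A β => by
    obtain ⟨ψ, hψ, rfl⟩ := R.extMk_surjective β (n + 1) rfl
    have e : E A _ (CohFree.evalGen _ (preObj φ A) _ ψ) = ψ :=
      CohFree.ofSect_evalGen (topology str) (preObj φ A) _ ψ
    exact ⟨CohFree.evalGen _ (preObj φ A) _ ψ, by rw [e]; exact hψ, by simp only [e]⟩
  have hres : ∀ (A B : Set (str b.lvl.down).left) (h : A ≤ B) (s : (R.cocomplex.X n).obj.obj (op (preObj φ B)))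
      (hs : E B _ s ≫ R.cocomplex.d n (n + 1) = 0),
      ∃ hs' : E A _ ((R.cocomplex.X n).obj.map ((preFun φ).map (homOfLE h)).op s) ≫ R.cocomplex.d n (n + 1) = 0,
        NearExt.res (germSheaf str F) (preFree φ) h n (R.extMk (E B _ s) (n + 1) rfl hs) =
          R.extMk (E A _ ((R.cocomplex.X n).obj.map ((preFun φ).map (homOfLE h)).op s)) (n + 1) rfl hs' := by
    intro A B h s hs
    have e : (preFree φ).map (homOfLE h) ≫ E B _ s = E A _ ((R.cocomplex.X n).obj.map ((preFun φ).map (homOfLE h)).op s) :=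
      freeSheafMap_comp_ofSect ((preFun φ).map (homOfLE h)) s
    refine ⟨by rw [← e, Category.assoc, hs, comp_zero], ?_⟩
    refine (R.mk₀_comp_extMk (E B _ s) (n + 1) rfl hs ((preFree φ).map (homOfLE h))).trans ?_
    simp only [e]
  refine ⟨fun k hk h β hβ => ?_, fun α => ?_⟩
  · obtain ⟨s, hs, rfl⟩ := key k β
    obtain ⟨hs', e⟩ := hres _ _ h s hs
    rw [e] at hβ
    obtain ⟨B, hB, hBo, hxB, hc⟩ := hinj k hk.1 hk.2 s ((sect_cocycle_iff R _ n s).1 hs)
      ((extMk_sect_eq_zero R _ n _ hs').1 hβ)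
    obtain ⟨hs'', e'⟩ := hres _ _ hB s hs
    exact ⟨B, ⟨hBo, hxB⟩, hB, e'.trans ((extMk_sect_eq_zero R _ n _ hs'').2 hc)⟩
  · obtain ⟨c, hc, rfl⟩ := key {x.1} α
    obtain ⟨A, hA, hxA, d, hd, hcob⟩ := hsurj c ((sect_cocycle_iff R _ n c).1 hc)
    have hd' : E A _ d ≫ R.cocomplex.d n (n + 1) = 0 := (sect_cocycle_iff R _ n d).2 hd
    obtain ⟨hs', e⟩ := hres _ _ (Set.singleton_subset_iff.2 hxA : ({x.1} : Set _) ⊆ A) d hd'
    refine ⟨A, ⟨hA, hxA⟩, Set.singleton_subset_iff.2 hxA, R.extMk (E A _ d) (n + 1) rfl hd', sub_eq_zero.1 ?_⟩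
    rw [e, InjectiveResolution.sub_extMk]
    let d' : (R.cocomplex.X n).obj.obj (op (preObj φ {x.1})) := (evalRes (preFibSub φ hxA)).app _ d
    have e2 : E {x.1} _ d' - E {x.1} _ c = E {x.1} _ (d' - c) :=
      (map_sub (CohFree.homEquivSect (topology str) (preObj φ {x.1}) _).symm d' c).symm
    have hd'' : E {x.1} _ (d' - c) ≫ R.cocomplex.d n (n + 1) = 0 := by
      rw [← e2, Preadditive.sub_comp, show E {x.1} _ d' ≫ R.cocomplex.d n (n + 1) = 0 from hs', hc, sub_zero]
    refine Eq.trans ?_ ((extMk_sect_eq_zero R _ n _ hd'').2 hcob)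
    exact extMk_congr R e2 _ _

/-- Ext groups out of the image of an embedded space. -/
theorem nonempty_ext_emb {l : ι} {T : TopCat.{u}} {i : T ⟶ (str l).left} (hi : Topology.IsEmbedding i) (G : Sh str)
    (n : ℕ) :
    Nonempty (Ext (CohCx.freeSheaf (topology str) ((openFun (str := str) i).obj ⊤)) G n ≃+
      CohTop.H ((res hi).obj G) n) := by
  let Tt := Opens.grothendieckTopology T
  let c := (openFun (str := str) i).obj ⊤
  let e : ∀ G : Sh str, (CohCx.freeSheaf (topology str) c ⟶ G) ≃+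
      (CohCx.freeSheaf Tt (⊤ : Opens T) ⟶ (res hi).obj G) := fun G =>
    (CohFree.homEquivSect (topology str) c G).trans (CohFree.homEquivSect Tt ⊤ ((res hi).obj G)).symm
  have he : ∀ {G G' : Sh str} (ψ : CohCx.freeSheaf (topology str) c ⟶ G) (χ : G ⟶ G'),
      e G' (ψ ≫ χ) = e G ψ ≫ (res hi).map χ := fun {G G'} ψ χ => by
    simp only [e, AddEquiv.trans_apply]
    refine (congrArg _ ?_).trans (ofSect_comp (J := Tt) _ _).symm
    rw [CohFree.homEquivSect_apply, CohFree.homEquivSect_apply, evalGen_comp]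
    rfl
  have hac : ∀ (I : Sh str) [Injective I] (m : ℕ),
      Subsingleton (Ext (CohCx.freeSheaf Tt (⊤ : Opens T)) ((res hi).obj I) (m + 1)) := fun I _ m =>
    subsingleton_HU_succ_of_flasque _ ⊤ m
  obtain ⟨ε⟩ := nonempty_ext_equiv_of_natIso_zero (res hi) (CohCx.freeSheaf (topology str) c)
    (CohCx.freeSheaf Tt (⊤ : Opens T)) e he hac n G
  exact ⟨ε.trans (HUTopEquiv _ n)⟩

lemma isFlasque_of_subsingleton {T : TopCat.{u}} [Subsingleton T] (G : CohTop.Ab T) : TopCat.Sheaf.IsFlasque G := by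
  refine (isFlasque_iff_surjective _).2 fun U V k s => ?_
  by_cases hV : ∃ z, z ∈ V
  · obtain ⟨z, hz⟩ := hV
    have hUV : U ≤ V := fun z' _ => Subsingleton.elim z z' ▸ hz
    refine ⟨G.obj.map (homOfLE hUV).op s, ?_⟩
    rw [res_res G _ k.op (𝟙 _), G.obj.map_id]
    rfl
  · have hb : V ≤ ⊥ := fun z hz => absurd ⟨z, hz⟩ hV
    exact ⟨0, @Subsingleton.elim _ (subsingleton_sections_of_le_bot G V hb) _ _⟩

/-- Points have no higher Ext groups. -/
theorem subsingleton_ext_point (c : Obj str) [Subsingleton c.carrier] (G : Sh str) (n : ℕ) :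
    Subsingleton (Ext (CohCx.freeSheaf (topology str) c) G (n + 1)) := by
  haveI : Subsingleton c.space := ‹_›
  haveI := isFlasque_of_subsingleton ((res c.isEmbedding_emb).obj G)
  haveI : Subsingleton (CohTop.H ((res c.isEmbedding_emb).obj G) (n + 1)) := subsingleton_H_succ_of_flasque _ n
  obtain ⟨e⟩ := nonempty_ext_emb c.isEmbedding_emb G (n + 1)
  let κ : c ≅ (openFun (str := str) c.emb).obj ⊤ :=
    { hom := incl fun w hw => ⟨⟨w, hw⟩, trivial, rfl⟩
      inv := incl (by rintro _ ⟨z, -, rfl⟩; exact z.2)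
      hom_inv_id := rfl
      inv_hom_id := rfl }
  exact ((extIsoLeft ((yoneda ⋙ freeSh (topology str)).mapIso κ) G (n + 1)).symm.trans e).subsingleton

end Groth.Agent.CohTopBC.DescentSite
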