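import Mathlib
import Groth.Agent.CohTopBC.HyperBC

/-!
A space over a base containing given spaces and stable under fibre products and finite sums of subspaces.
-/

set_option autoImplicit false
universe u

open CategoryTheory CategoryTheory.Limits Opposite TopologicalSpace

namespace Groth.Agent.CohTopBC.DescentSite

variable {S : TopCat.{u}}

lemma SepFibres.comp {ι : Type} {str : ι → Over S} {a b c : Obj str} {φ : a ⟶ b} {ψ : b ⟶ c} (hφ : SepFibres φ)
    (hψ : SepFibres ψ) : SepFibres (φ ≫ ψ) := fun z z' e hne => by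
  by_cases h : φ.1 z = φ.1 z'
  · exact hφ z z' h hne
  · obtain ⟨U, V, hU, hV, hz, hz', hd⟩ := hψ _ _ e h
    exact ⟨_, _, hU.preimage φ.1.continuous, hV.preimage φ.1.continuous, hz, hz', hd.preimage _⟩

lemma sepFibres_of_injective {ι : Type} {str : ι → Over S} {a b : Obj str} {φ : a ⟶ b} (h : Function.Injective φ.1) :
    SepFibres φ := fun _ _ e hne => absurd (h e) hne

lemma Obj.continuous_base {ι : Type} {str : ι → Over S} (a : Obj str) : Continuous a.base :=
  (str a.lvl.down).hom.hom.continuous.comp continuous_subtype_val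

variable (L : ℕ → Over S)

/-- The sum of the base and the given spaces. -/
abbrev Pool : Type u := S ⊕ Σ n, (L n).left

/-- The structure map of the sum. -/
def poolBase : Pool L → S := Sum.elim id fun z => (L z.1).hom z.2

/-- Numbered sequences in the sum over one point of the base. -/
abbrev UnivSp : Type u := ℕ × {p : S × (ℕ → Pool L) // ∀ i, poolBase L (p.2 i) = p.1}

/-- The structure map. -/
def univBase : TopCat.of (UnivSp L) ⟶ S := TopCat.ofHom ⟨fun t => t.2.1.1, by fun_prop⟩

/-- The family with one member. -/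
abbrev ust : Unit → Over S := fun _ => Over.mk (univBase L)

/-- The subspaces of the universal space. -/
abbrev UObj : Type u := Obj (ust L)

variable {L}

/-- The base of a point. -/
abbrev ubase (t : UnivSp L) : S := t.2.1.1

section OfEmb

variable {Z : Type u} [TopologicalSpace Z] {e : Z → UnivSp L} (he : Topology.IsEmbedding e)

/-- The object of an embedded space. -/
abbrev ofEmb (e : Z → UnivSp L) : UObj L := mk (ust L) () (Set.range e)

/-- An embedded space is its object. -/
noncomputable def embHomeo : Z ≃ₜ (ofEmb e).carrier := he.toHomeomorph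

lemma ofEmb_base (z : Z) : (ofEmb e).base (embHomeo he z) = ubase (e z) := rfl

/-- Maps into an embedded space. -/
noncomputable def homTo {a : UObj L} (f : C(a.carrier, Z)) (hf : ∀ w, ubase (e (f w)) = a.base w) : a ⟶ ofEmb e :=
  ⟨(embHomeo he : C(Z, (ofEmb e).carrier)).comp f, hf⟩

/-- Maps out of an embedded space. -/
noncomputable def homFrom {a : UObj L} (f : C(Z, a.carrier)) (hf : ∀ z, a.base (f z) = ubase (e z)) : ofEmb e ⟶ a :=
  ⟨f.comp ((embHomeo he).symm : C((ofEmb e).carrier, Z)), fun w => (hf _).trans (congrArg (fun v : (ofEmb e).carrier => ubase v.1)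
    ((embHomeo he).apply_symm_apply w))⟩

lemma homFrom_apply {a : UObj L} (f : C(Z, a.carrier)) (hf : ∀ z, a.base (f z) = ubase (e z)) (z : Z) :
    (homFrom he f hf).1 (embHomeo he z) = f z := congrArg f ((embHomeo he).symm_apply_apply z)

lemma homTo_symm {a : UObj L} (f : C(a.carrier, Z)) (hf : ∀ w, ubase (e (f w)) = a.base w) (w : a.carrier) :
    (embHomeo he).symm ((homTo he f hf).1 w) = f w := (embHomeo he).symm_apply_apply _

end OfEmb

theorem exists_level (n : ℕ) : ∃ (O : UObj L) (h : O.carrier ≃ₜ (L n).left), ∀ w, (L n).hom (h w) = O.base w := by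
  let e : (L n).left → UnivSp L := fun z => (0, ⟨((L n).hom z, fun _ => .inr ⟨n, z⟩), fun _ => rfl⟩)
  have hc : Continuous e := continuous_const.prodMk (((L n).hom.hom.continuous.prodMk
    (continuous_pi fun _ => continuous_inr.comp (continuous_sigmaMk (σ := fun m => (L m).left) (i := n)))).subtype_mk _)
  have h' : Topology.IsEmbedding ((fun t : UnivSp L => t.2.1.2 0) ∘ e) :=
    Topology.IsEmbedding.inr.comp Topology.IsEmbedding.sigmaMk
  have he : Topology.IsEmbedding e :=
    Topology.IsEmbedding.of_comp hc (by fun_prop) h'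
  refine ⟨ofEmb e, (embHomeo he).symm, fun w => ?_⟩
  obtain ⟨z, rfl⟩ := (embHomeo he).surjective w
  rw [Homeomorph.symm_apply_apply]
  rfl

theorem exists_baseObj : ∃ (O : UObj L) (h : O.carrier ≃ₜ S), ∀ w, h w = O.base w := by
  let e : S → UnivSp L := fun s => (0, ⟨(s, fun _ => .inl s), fun _ => rfl⟩)
  have hc : Continuous e := continuous_const.prodMk ((continuous_id.prodMk
    (continuous_pi fun _ => continuous_inl)).subtype_mk _)
  have h' : Topology.IsEmbedding ((fun t : UnivSp L => ubase t) ∘ e) := Topology.IsEmbedding.id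
  have he : Topology.IsEmbedding e := Topology.IsEmbedding.of_comp hc (by fun_prop) h'
  refine ⟨ofEmb e, (embHomeo he).symm, fun w => ?_⟩
  obtain ⟨z, rfl⟩ := (embHomeo he).surjective w
  rw [Homeomorph.symm_apply_apply]
  rfl

/-- Pairs over one point of the base. -/
abbrev PairSp (L : ℕ → Over S) : Type u := {q : UnivSp L × UnivSp L // ubase q.1 = ubase q.2}

/-- Interleaving. -/
def interleave (q : PairSp L) : UnivSp L :=
  (Nat.pair q.1.1.1 q.1.2.1,
    ⟨(ubase q.1.1, fun i => (Equiv.natSumNatEquivNat.symm i).elim q.1.1.2.1.2 q.1.2.2.1.2), fun i => by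
      dsimp only
      rcases Equiv.natSumNatEquivNat.symm i with j | j
      · exact q.1.1.2.2 j
      · exact (q.1.2.2.2 j).trans q.2.symm⟩)

/-- Separating. -/
def separate (t : UnivSp L) : PairSp L :=
  ⟨((t.1.unpair.1, ⟨(ubase t, fun j => t.2.1.2 (Equiv.natSumNatEquivNat (.inl j))), fun _ => t.2.2 _⟩),
    (t.1.unpair.2, ⟨(ubase t, fun j => t.2.1.2 (Equiv.natSumNatEquivNat (.inr j))), fun _ => t.2.2 _⟩)), rfl⟩

lemma separate_interleave (q : PairSp L) : separate (interleave q) = q := by
  refine Subtype.ext (Prod.ext (Prod.ext ?_ (Subtype.ext (Prod.ext rfl ?_))) (Prod.ext ?_ (Subtype.ext (Prod.ext q.2 ?_))))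
  · simp [separate, interleave]
  · funext j; simp [separate, interleave]
  · simp [separate, interleave]
  · funext j; simp [separate, interleave]

lemma isEmbedding_interleave : Topology.IsEmbedding (interleave : PairSp L → UnivSp L) := by
  refine Function.LeftInverse.isEmbedding separate_interleave ?_ ?_
  · have hl : ∀ f : ℕ → ℕ, Continuous fun t : UnivSp L => f t.1 := fun f =>
      (continuous_of_discreteTopology (f := f)).comp continuous_fst
    have hs : ∀ f : ℕ → ℕ, Continuous fun t : UnivSp L => (ubase t, fun j => t.2.1.2 (f j)) := fun f => by fun_prop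
    refine (Continuous.prodMk ?_ ?_).subtype_mk _
    · exact (hl fun n => n.unpair.1).prodMk ((hs fun j => Equiv.natSumNatEquivNat (.inl j)).subtype_mk _)
    · exact (hl fun n => n.unpair.2).prodMk ((hs fun j => Equiv.natSumNatEquivNat (.inr j)).subtype_mk _)
  · refine Continuous.prodMk ((continuous_of_discreteTopology (f := fun p : ℕ × ℕ => Nat.pair p.1 p.2)).comp
      (Continuous.prodMk (by fun_prop) (by fun_prop))) ((Continuous.prodMk (by fun_prop) ?_).subtype_mk _)
    refine continuous_pi fun i => ?_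
    rcases Equiv.natSumNatEquivNat.symm i with j | j
    · simp only [Sum.elim_inl]; fun_prop
    · simp only [Sum.elim_inr]; fun_prop

/-- Fibre products of objects over a space over the base. -/
theorem exists_pullback {a b : UObj L} {C : Type u} [TopologicalSpace C] (g : C(a.carrier, C)) (h : C(b.carrier, C))
    (bC : C → S) (hg : ∀ x, bC (g x) = a.base x) (hh : ∀ y, bC (h y) = b.base y) :
    ∃ (P : UObj L) (p₁ : P ⟶ a) (p₂ : P ⟶ b), (∀ z, g (p₁.1 z) = h (p₂.1 z)) ∧
      (∀ z z', p₁.1 z = p₁.1 z' → p₂.1 z = p₂.1 z' → z = z') ∧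
      (∀ x y, g x = h y → ∃ z, p₁.1 z = x ∧ p₂.1 z = y) ∧
      (∀ (U : UObj L) (k₁ : U ⟶ a) (k₂ : U ⟶ b), (∀ w, g (k₁.1 w) = h (k₂.1 w)) →
        ∃ k : U ⟶ P, k ≫ p₁ = k₁ ∧ k ≫ p₂ = k₂) ∧
      (IsProperMap g → IsProperMap p₂.1) := by
  let Z := {q : a.carrier × b.carrier // g q.1 = h q.2}
  have hb : ∀ q : Z, ubase q.1.1.1 = ubase q.1.2.1 := fun q =>
    (hg q.1.1).symm.trans ((congrArg bC q.2).trans (hh q.1.2))
  let toPair : Z → PairSp L := fun q => ⟨(q.1.1.1, q.1.2.1), hb q⟩
  have htp : Topology.IsEmbedding toPair :=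
    ((Topology.IsEmbedding.subtypeVal.prodMap Topology.IsEmbedding.subtypeVal).comp
      Topology.IsEmbedding.subtypeVal).codRestrict {q : UnivSp L × UnivSp L | ubase q.1 = ubase q.2} hb
  have he : Topology.IsEmbedding (interleave ∘ toPair) := isEmbedding_interleave.comp htp
  let f₁ : C(Z, a.carrier) := ⟨fun q => q.1.1, by fun_prop⟩
  let f₂ : C(Z, b.carrier) := ⟨fun q => q.1.2, by fun_prop⟩
  let p₁ := homFrom he f₁ fun _ => rfl
  let p₂ := homFrom he f₂ fun q => (hb q).symm
  refine ⟨ofEmb _, p₁, p₂, fun z => ?_, fun z z' e₁ e₂ => ?_, fun x y e => ?_, fun U k₁ k₂ e => ?_, fun hp => ?_⟩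
  · exact ((embHomeo he).symm z).2
  · exact (embHomeo he).symm.injective (Subtype.ext (Prod.ext e₁ e₂))
  · exact ⟨embHomeo he ⟨(x, y), e⟩, homFrom_apply he f₁ _ _, homFrom_apply he f₂ _ _⟩
  · let k : C(U.carrier, Z) := ⟨fun w => ⟨(k₁.1 w, k₂.1 w), e w⟩, by fun_prop⟩
    refine ⟨homTo he k fun w => k₁.2 w, hom_ext fun w => ?_, hom_ext fun w => ?_⟩
    · exact congrArg (fun q : Z => q.1.1.1) (homTo_symm he k _ w)
    · exact congrArg (fun q : Z => q.1.2.1) (homTo_symm he k _ w)
  · let Γ : Set (C × b.carrier) := {p | p.1 = h p.2}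
    let σ : Γ ≃ₜ b.carrier :=
      { toFun := fun p => p.1.2
        invFun := fun y => ⟨(h y, y), rfl⟩
        left_inv := fun p => Subtype.ext (Prod.ext p.2.symm rfl)
        right_inv := fun _ => rfl
        continuous_toFun := by fun_prop
        continuous_invFun := by fun_prop }
    exact (σ.isProperMap.comp ((hp.prodMap isProperMap_id).restrictPreimage Γ)).comp (embHomeo he).symm.isProperMap

/-- Sums of finitely many objects. -/
theorem exists_sigma {k : ℕ} (d : Fin k → UObj L) :
    ∃ (D : UObj L) (inj : ∀ i, d i ⟶ D), (∀ i, Topology.IsOpenEmbedding (inj i).1) ∧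
      (∀ z, ∃ i w, (inj i).1 w = z) ∧ (∀ i j w w', (inj i).1 w = (inj j).1 w' → i = j) ∧
      ∀ (b : UObj L) (m : ∀ i, d i ⟶ b), ∃ M : D ⟶ b, ∀ i, inj i ≫ M = m i := by
  let Z := Σ i, (d i).carrier
  let mv : (Σ _ : Fin k, UnivSp L) → UnivSp L := fun x => (Nat.pair x.1 x.2.1, x.2.2)
  have hmv : Topology.IsOpenEmbedding mv := by
    refine Topology.IsOpenEmbedding.of_continuous_injective_isOpenMap (continuous_sigma fun i => ?_) ?_
      (isOpenMap_sigma.2 fun i => ?_)
    · exact (continuous_of_discreteTopology (f := fun n : ℕ => Nat.pair (i : ℕ) n)).prodMap continuous_id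
    · rintro ⟨i, n, p⟩ ⟨i', n', p'⟩ e
      obtain ⟨e₁, e₂⟩ := Prod.mk.inj e
      obtain ⟨e₃, e₄⟩ := Nat.pair_eq_pair.1 e₁
      obtain rfl : i = i' := Fin.ext e₃
      subst e₄ e₂
      rfl
    · have ho : IsOpenMap (Nat.pair (i : ℕ)) := fun s _ => isOpen_discrete _
      exact ho.prodMap IsOpenMap.id
  have he : Topology.IsEmbedding (mv ∘ Sigma.map id fun i => (Subtype.val : (d i).carrier → UnivSp L)) :=
    hmv.isEmbedding.comp ((Topology.isEmbedding_sigmaMap Function.injective_id).2 fun i => Topology.IsEmbedding.subtypeVal)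
  let si : ∀ i, C((d i).carrier, Z) := fun i => ContinuousMap.sigmaMk (X := fun i => ((d i).carrier : Type u)) i
  let inj : ∀ i, d i ⟶ ofEmb _ := fun i => homTo he (si i) fun w => rfl
  refine ⟨ofEmb _, inj, fun i => (embHomeo he).isOpenEmbedding.comp Topology.IsOpenEmbedding.sigmaMk,
    fun z => ?_, fun i j w w' e => congrArg Sigma.fst ((embHomeo he).injective e), fun b m => ?_⟩
  · obtain ⟨⟨i, w⟩, rfl⟩ := (embHomeo he).surjective z
    exact ⟨i, w, rfl⟩
  · let f : C(Z, b.carrier) := ⟨fun x => (m x.1).1 x.2, continuous_sigma fun i => (m i).1.continuous⟩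
    exact ⟨homFrom he f fun x => (m x.1).2 x.2, fun i => hom_ext fun w =>
      congrArg Subtype.val (homFrom_apply he f (fun x => (m x.1).2 x.2) ⟨i, w⟩)⟩

end Groth.Agent.CohTopBC.DescentSite
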