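import Mathlib
import Groth.Agent.CohTopBC.HyperSpace

/-!
The topology of subspaces generated by open coverings and proper surjections, and germ families on it.
-/

set_option autoImplicit false
universe u

open CategoryTheory CategoryTheory.Limits Opposite TopologicalSpace
open Groth.Agent.CohDescent (gm gm_res gm_eq)

namespace Groth.Agent.CohTopBC.DescentSite

section General

variable {S : TopCat.{u}} {ι : Type} {str : ι → Over S}

/-- The trace of a set on an object. -/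
abbrev inter (a : Obj str) (A : Set (str a.lvl.down).left) : Obj str := ⟨a.lvl, a.carrier ∩ A⟩

/-- The inclusion of a trace. -/
def interIncl (a : Obj str) (A : Set (str a.lvl.down).left) : inter a A ⟶ a := incl Set.inter_subset_left

variable {a b : Obj str} (φ : a ⟶ b)

/-- The inclusion of the part over a subset. -/
def preIncl (A : Set (str b.lvl.down).left) : preObj φ A ⟶ a := incl fun _ hv => hv.1

/-- The restriction over a subset. -/
def preTo (A : Set (str b.lvl.down).left) : preObj φ A ⟶ inter b A :=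
  ⟨⟨fun v => ⟨(φ.1 ⟨v.1, v.2.1⟩).1, (φ.1 ⟨v.1, v.2.1⟩).2, v.2.2⟩, by fun_prop⟩, fun v => φ.2 ⟨v.1, v.2.1⟩⟩

lemma preTo_comp (A : Set (str b.lvl.down).left) : preTo φ A ≫ interIncl b A = preIncl φ A ≫ φ := rfl

lemma isProperMap_preTo (hp : IsProperMap φ.1) (A : Set (str b.lvl.down).left) : IsProperMap (preTo φ A).1 := by
  let B : Set b.carrier := Subtype.val ⁻¹' A
  let e₁ : (preObj φ A).carrier ≃ₜ φ.1 ⁻¹' B :=
    { toFun := fun v => ⟨⟨v.1, v.2.1⟩, v.2.2⟩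
      invFun := fun v => ⟨v.1.1, v.1.2, v.2⟩
      continuous_toFun := by fun_prop
      continuous_invFun := by fun_prop }
  let e₂ : B ≃ₜ (inter b A).carrier :=
    { toFun := fun v => ⟨v.1.1, v.1.2, v.2⟩
      invFun := fun v => ⟨⟨v.1, v.2.1⟩, v.2.2⟩
      continuous_toFun := by fun_prop
      continuous_invFun := by fun_prop }
  exact (e₂.isProperMap.comp (hp.restrictPreimage B)).comp e₁.isProperMap

lemma sepFibres_preTo (hs : SepFibres φ) (A : Set (str b.lvl.down).left) : SepFibres (preTo φ A) := fun z z' e hne => by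
  obtain ⟨U, V, hU, hV, hz, hz', hd⟩ := hs ⟨z.1, z.2.1⟩ ⟨z'.1, z'.2.1⟩
    (Subtype.ext (congrArg (fun v : (inter b A).carrier => v.1) e)) fun h => hne (Subtype.ext (congrArg (fun v : a.carrier => v.1) h))
  exact ⟨_, _, hU.preimage (preIncl φ A).1.continuous, hV.preimage (preIncl φ A).1.continuous, hz, hz', hd.preimage _⟩

lemma surjective_preTo (hj : Function.Surjective φ.1) (A : Set (str b.lvl.down).left) : Function.Surjective (preTo φ A).1 :=
  fun v => by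
    obtain ⟨z, hz⟩ := hj ⟨v.1, v.2.1⟩
    have h : z.1 ∈ (preObj φ A).carrier := ⟨z.2, (congrArg Subtype.val hz).symm ▸ v.2.2⟩
    exact ⟨⟨z.1, h⟩, Subtype.ext (congrArg (fun v : b.carrier => v.1) hz)⟩

/-- Equal parts are isomorphic. -/
def inclIso {l : ULift.{u} ι} {A B : Set (str l.down).left} (h : A ⊆ B) (h' : B ⊆ A) : (⟨l, A⟩ : Obj str) ≅ ⟨l, B⟩ :=
  ⟨incl h, incl h', rfl, rfl⟩

lemma isProperMap_of_iso (e : a ≅ b) : IsProperMap e.hom.1 :=
  ({ toFun := e.hom.1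
     invFun := e.inv.1
     left_inv := fun z => congrArg (fun f : a ⟶ a => f.1 z) e.hom_inv_id
     right_inv := fun z => congrArg (fun f : b ⟶ b => f.1 z) e.inv_hom_id
     continuous_toFun := e.hom.1.continuous
     continuous_invFun := e.inv.1.continuous } : a.carrier ≃ₜ b.carrier).isProperMap

lemma bijective_of_iso (e : a ≅ b) : Function.Bijective e.hom.1 :=
  ⟨Function.LeftInverse.injective fun z => congrArg (fun f : a ⟶ a => f.1 z) e.hom_inv_id,
    Function.RightInverse.surjective fun z => congrArg (fun f : b ⟶ b => f.1 z) e.inv_hom_id⟩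

/-- Covering is local along open embeddings. -/
theorem mem_topology_of_openEmbeddings {D : Obj str} {k : Type*} {d : k → Obj str} (inj : ∀ i, d i ⟶ D)
    (ho : ∀ i, Topology.IsOpenEmbedding (inj i).1) (hc : ∀ z, ∃ i w, (inj i).1 w = z) (R : Sieve D)
    (hR : ∀ i, Sieve.pullback (inj i) R ∈ topology str (d i)) : R ∈ topology str D := fun z => by
  obtain ⟨i, w, rfl⟩ := hc z
  obtain ⟨O₁, hO₁, hw, h⟩ := hR i w
  obtain ⟨O, hO, e⟩ := isOpen_induced_iff.1
    ((ho i).isOpenMap _ (hO₁.preimage (continuous_subtype_val : Continuous (Subtype.val : (d i).carrier → _))))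
  refine ⟨O, hO, (Set.ext_iff.1 e ((inj i).1 w)).2 ⟨w, hw, rfl⟩, ?_⟩
  have hm : ∀ v : (inter D O).carrier, ∃ x : (inter (d i) O₁).carrier, (inj i).1 ⟨x.1, x.2.1⟩ = ⟨v.1, v.2.1⟩ := fun v => by
    obtain ⟨x, hx, hxv⟩ := (Set.ext_iff.1 e ⟨v.1, v.2.1⟩).1 v.2.2
    exact ⟨⟨x.1, x.2, hx⟩, hxv⟩
  choose x hx using hm
  have hcx : Continuous x := by
    refine (Topology.IsInducing.subtypeVal.continuous_iff).2 (continuous_subtype_val.comp
      (f := fun v => (⟨(x v).1, (x v).2.1⟩ : (d i).carrier)) ((ho i).isInducing.continuous_iff.2 ?_))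
    exact (interIncl D O).1.continuous.congr fun v => (hx v).symm
  let j : inter D O ⟶ inter (d i) O₁ := ⟨⟨x, hcx⟩, fun v => ((inj i).2 ⟨(x v).1, (x v).2.1⟩).symm.trans
    (congrArg D.base (hx v))⟩
  have hj : j ≫ interIncl (d i) O₁ ≫ inj i = interIncl D O := hom_ext fun v => congrArg Subtype.val (hx v)
  have := R.downward_closed h j
  rwa [show j ≫ incl _ ≫ inj i = interIncl D O from hj] at this

lemma isProperMap_of_cover {D : Obj str} {k : Type*} [Finite k] {d : k → Obj str} (inj : ∀ i, d i ⟶ D)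
    (hc : ∀ z, ∃ i w, (inj i).1 w = z) (M : D ⟶ b) (hM : ∀ i, IsProperMap (inj i ≫ M).1) : IsProperMap M.1 := by
  refine isProperMap_iff_isClosedMap_and_compact_fibers.2 ⟨M.1.continuous, fun F hF => ?_, fun y => ?_⟩
  · have e : M.1 '' F = ⋃ i, (inj i ≫ M).1 '' ((inj i).1 ⁻¹' F) := by
      ext y
      simp only [Set.mem_image, Set.mem_iUnion, Set.mem_preimage]
      refine ⟨?_, fun ⟨i, w, hw, e⟩ => ⟨_, hw, e⟩⟩
      rintro ⟨z, hz, rfl⟩
      obtain ⟨i, w, rfl⟩ := hc z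
      exact ⟨i, w, hz, rfl⟩
    rw [e]
    exact isClosed_iUnion_of_finite fun i => (hM i).isClosedMap _ (hF.preimage (inj i).1.continuous)
  · have e : M.1 ⁻¹' {y} = ⋃ i, (inj i).1 '' ((inj i ≫ M).1 ⁻¹' {y}) := by
      ext z
      simp only [Set.mem_image, Set.mem_iUnion, Set.mem_preimage, Set.mem_singleton_iff]
      constructor
      · intro hz
        obtain ⟨i, w, rfl⟩ := hc z
        exact ⟨i, w, hz, rfl⟩
      · rintro ⟨i, w, hw, rfl⟩
        exact hw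
    rw [e]
    exact isCompact_iUnion fun i => ((hM i).isCompact_preimage isCompact_singleton).image (inj i).1.continuous

end General

/-- Compact sets whose points are separated have disjoint neighbourhoods. -/
lemma exists_disjoint_nhds {X : Type u} [TopologicalSpace X] {s t : Set X} (hs : IsCompact s) (ht : IsCompact t)
    (h : ∀ x ∈ s, ∀ y ∈ t, ∃ U V : Set X, IsOpen U ∧ IsOpen V ∧ x ∈ U ∧ y ∈ V ∧ Disjoint U V) :
    ∃ U V : Set X, IsOpen U ∧ IsOpen V ∧ s ⊆ U ∧ t ⊆ V ∧ Disjoint U V := by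
  let W : Set (X × X) := {p | ∃ U V : Set X, IsOpen U ∧ IsOpen V ∧ p.1 ∈ U ∧ p.2 ∈ V ∧ Disjoint U V}
  have hW : IsOpen W := isOpen_iff_mem_nhds.2 fun p ⟨U, V, hU, hV, h₁, h₂, hd⟩ =>
    Filter.mem_of_superset ((hU.prod hV).mem_nhds ⟨h₁, h₂⟩) fun q hq => ⟨U, V, hU, hV, hq.1, hq.2, hd⟩
  obtain ⟨U, V, hU, hV, hsU, htV, hUV⟩ := generalized_tube_lemma hs ht hW fun p hp => h p.1 hp.1 p.2 hp.2
  refine ⟨U, V, hU, hV, hsU, htV, Set.disjoint_left.2 fun x hx hx' => ?_⟩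
  obtain ⟨U', V', -, -, h₁, h₂, hd⟩ := hUV (show (x, x) ∈ U ×ˢ V from ⟨hx, hx'⟩)
  exact Set.disjoint_left.1 hd h₁ h₂

/-- Open coverings of a fibre shrink to closed coverings near the fibre. -/
theorem exists_closed_shrinking {X Y : Type u} [TopologicalSpace X] [TopologicalSpace Y] {f : X → Y} (hf : IsProperMap f)
    (y : Y) (hsep : ∀ z z', f z = f z' → z ≠ z' → ∃ U V : Set X, IsOpen U ∧ IsOpen V ∧ z ∈ U ∧ z' ∈ V ∧ Disjoint U V)
    {k : ℕ} (N : Fin k → Set X) (hN : ∀ i, IsOpen (N i)) (hcov : f ⁻¹' {y} ⊆ ⋃ i, N i) :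
    ∃ (O : Set Y) (C : Fin k → Set X), IsOpen O ∧ y ∈ O ∧ (∀ i, IsClosed (C i)) ∧ (∀ i, C i ∩ f ⁻¹' O ⊆ N i) ∧
      f ⁻¹' O ⊆ ⋃ i, C i := by
  have hK : IsCompact (f ⁻¹' {y}) := hf.isCompact_preimage isCompact_singleton
  haveI : CompactSpace (f ⁻¹' {y}) := isCompact_iff_compactSpace.1 hK
  haveI : T2Space (f ⁻¹' {y}) := ⟨fun z z' h => by
    obtain ⟨U, V, hU, hV, hz, hz', hd⟩ := hsep z.1 z'.1 (Eq.trans z.2 (Eq.symm z'.2)) fun e => h (Subtype.ext e)
    exact ⟨_, _, hU.preimage continuous_subtype_val, hV.preimage continuous_subtype_val, hz, hz', hd.preimage _⟩⟩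
  obtain ⟨K, hKc, hKN, hKu⟩ := (isCompact_univ (X := f ⁻¹' {y})).finite_compact_cover Finset.univ
    (fun i => Subtype.val ⁻¹' N i) (fun i _ => (hN i).preimage continuous_subtype_val) fun z _ => by
      simpa using Set.mem_iUnion.1 (hcov z.2)
  have hsp : ∀ i, ∃ U V : Set X, IsOpen U ∧ IsOpen V ∧ Subtype.val '' K i ⊆ U ∧ f ⁻¹' {y} \ N i ⊆ V ∧ Disjoint U V :=
    fun i => exists_disjoint_nhds ((hKc i).image continuous_subtype_val) (hK.diff (hN i)) fun x hx x' hx' => by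
      obtain ⟨z, hz, rfl⟩ := hx
      exact hsep _ _ (Eq.trans z.2 (Eq.symm hx'.1)) fun e => hx'.2 (e ▸ hKN i hz)
  choose U V hU hV hKU hV' hUV using hsp
  let P := fun i => U i ∩ N i
  let Ω : Set X := (⋃ i, P i) ∩ ⋂ i, (closure (P i) ∩ (N i)ᶜ)ᶜ
  have hΩ : IsOpen Ω := (isOpen_iUnion fun i => (hU i).inter (hN i)).inter
    (isOpen_iInter_of_finite fun i => (isClosed_closure.inter (hN i).isClosed_compl).isOpen_compl)
  have hfib : f ⁻¹' {y} ⊆ Ω := fun z hz => by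
    refine ⟨?_, Set.mem_iInter.2 fun i hi => ?_⟩
    · have := (Set.ext_iff.1 hKu ⟨z, hz⟩).1 trivial
      simp only [Finset.mem_univ, Set.iUnion_true, Set.mem_iUnion] at this
      obtain ⟨i, hi⟩ := this
      exact Set.mem_iUnion.2 ⟨i, hKU i ⟨_, hi, rfl⟩, hKN i hi⟩
    · obtain ⟨x, hxV, hxP⟩ := mem_closure_iff.1 hi.1 (V i) (hV i) (hV' i ⟨hz, hi.2⟩)
      exact Set.disjoint_left.1 (hUV i) hxP.1 hxV
  refine ⟨(f '' Ωᶜ)ᶜ, fun i => closure (P i), (hf.isClosedMap _ hΩ.isClosed_compl).isOpen_compl, ?_,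
    fun i => isClosed_closure, fun i z hz => ?_, fun z hz => ?_⟩
  · rintro ⟨z, hz, e⟩
    exact hz (hfib e)
  · by_contra hn
    exact hz.2 ⟨z, fun h => Set.mem_iInter.1 h.2 i ⟨hz.1, hn⟩, rfl⟩
  · obtain ⟨i, hi⟩ := Set.mem_iUnion.1 (by_contra fun hn => hz ⟨z, fun h => hn h.1, rfl⟩ : z ∈ ⋃ i, P i)
    exact Set.mem_iUnion.2 ⟨i, subset_closure hi⟩

variable {S : TopCat.{u}} {L : ℕ → Over S}

variable (L) in
/-- Locally covered by proper surjections. -/
def IsPropCover (a : UObj L) (R : Sieve a) : Prop :=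
  ∀ w : a.carrier, ∃ O : Set (UnivSp L), IsOpen O ∧ w.1 ∈ O ∧ ∃ (c : UObj L) (g : c ⟶ inter a O),
    IsProperMap g.1 ∧ SepFibres g ∧ Function.Surjective g.1 ∧
      Sieve.pullback (g ≫ interIncl a O) R ∈ topology (ust L) c

variable (L) in
/-- Open coverings and proper surjections. -/
def ptop : GrothendieckTopology (UObj L) where
  sieves a := {R | IsPropCover L a R}
  top_mem' a w := ⟨Set.univ, isOpen_univ, trivial, inter a Set.univ, 𝟙 _, isProperMap_id,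
    sepFibres_of_injective fun _ _ h => h, fun z => ⟨z, rfl⟩, by
      rw [Sieve.pullback_top]; exact (topology (ust L)).top_mem _⟩
  pullback_stable' {a b R} h hR w := by
    obtain ⟨O, hO, hwO, c, g, hp, hs, hj, hc⟩ := hR (h.1 w)
    obtain ⟨O', hO', hpre⟩ := isOpen_induced_iff.1 (hO.preimage (continuous_subtype_val.comp h.1.continuous))
    obtain ⟨h', hh'⟩ := exists_factor (interIncl b O' ≫ h) (Set.inter_subset_left : a.carrier ∩ O ⊆ a.carrier)
      (fun v => ⟨(h.1 ⟨v.1, v.2.1⟩).2, (Set.ext_iff.1 hpre ⟨v.1, v.2.1⟩).1 v.2.2⟩)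
    obtain ⟨P, p₁, p₂, hsq, hinj, hex, -, hprop⟩ := exists_pullback g.1 h'.1 (inter a O).base g.2 h'.2
    refine ⟨O', hO', (Set.ext_iff.1 hpre w).2 hwO, P, p₂, hprop hp, fun z z' e hne => ?_, fun y => ?_, ?_⟩
    · obtain ⟨U, V, hU, hV, hz, hz', hd⟩ := hs (p₁.1 z) (p₁.1 z') (((hsq z).trans (congrArg h'.1 e)).trans (hsq z').symm)
        fun e' => hne (hinj z z' e' e)
      exact ⟨_, _, hU.preimage p₁.1.continuous, hV.preimage p₁.1.continuous, hz, hz', hd.preimage _⟩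
    · obtain ⟨x, hx⟩ := hj (h'.1 y)
      obtain ⟨z, -, hz⟩ := hex x y hx
      exact ⟨z, hz⟩
    · rw [← Sieve.pullback_comp]
      have e : (p₂ ≫ interIncl b O') ≫ h = p₁ ≫ g ≫ interIncl a O := by
        rw [Category.assoc, ← hh', ← Category.assoc, ← Category.assoc]
        refine congrArg (· ≫ interIncl a O) (hom_ext fun z => congrArg Subtype.val (hsq z).symm)
      rw [e, Sieve.pullback_comp]
      exact (topology (ust L)).pullback_stable p₁ hc
  transitive' {a R} hR R' h w := by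
    classical
    obtain ⟨O, hO, hwO, c, g, hp, hs, hj, hc⟩ := hR w
    have hloc : ∀ z : c.carrier, ∃ O₂ : Set (UnivSp L), IsOpen O₂ ∧ z.1 ∈ O₂ ∧ ∃ (cz : UObj L) (gz : cz ⟶ inter c O₂),
        IsProperMap gz.1 ∧ SepFibres gz ∧ Function.Surjective gz.1 ∧
          Sieve.pullback (gz ≫ interIncl c O₂ ≫ g ≫ interIncl a O) R' ∈ topology (ust L) cz := fun z => by
      obtain ⟨O₁, hO₁, hz₁, hR₁⟩ := hc z
      obtain ⟨O₂, hO₂, hz₂, cz, gz, hpz, hsz, hjz, hcz⟩ := h hR₁ ⟨z.1, z.2, hz₁⟩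
      let e : inter (inter c O₁) O₂ ≅ inter c (O₁ ∩ O₂) :=
        inclIso (fun v hv => ⟨hv.1.1, hv.1.2, hv.2⟩) fun v hv => ⟨⟨hv.1, hv.2.1⟩, hv.2.2⟩
      refine ⟨O₁ ∩ O₂, hO₁.inter hO₂, ⟨hz₁, hz₂⟩, cz, gz ≫ e.hom, (isProperMap_of_iso e).comp hpz,
        hsz.comp (sepFibres_of_injective (bijective_of_iso e).1), (bijective_of_iso e).2.comp hjz, ?_⟩
      rw [← Sieve.pullback_comp] at hcz
      exact hcz
    choose O₂ hO₂ hz₂ cz gz hpz hsz hjz hcz using hloc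
    let w' : (inter a O).carrier := ⟨w.1, w.2, hwO⟩
    obtain ⟨t, ht⟩ := (hp.isCompact_preimage (isCompact_singleton (x := w'))).elim_finite_subcover
      (fun z : c.carrier => Subtype.val ⁻¹' O₂ z) (fun z => (hO₂ z).preimage continuous_subtype_val)
      (fun z _ => Set.mem_iUnion.2 ⟨z, hz₂ z⟩)
    let idx : Fin t.toList.length → c.carrier := fun i => t.toList.get i
    obtain ⟨O₃, C, hO₃, hw₃, hC, hCN, hCcov⟩ := exists_closed_shrinking hp w' hs
      (fun i => (Subtype.val ⁻¹' O₂ (idx i) : Set c.carrier)) (fun i => (hO₂ _).preimage continuous_subtype_val)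
      fun z hz => by
        obtain ⟨y, hy, hzy⟩ := Set.mem_iUnion₂.1 (ht hz)
        obtain ⟨i, hi⟩ := List.mem_iff_get.1 (Finset.mem_toList.2 hy)
        exact Set.mem_iUnion.2 ⟨i, show z.1 ∈ O₂ (idx i) by rw [show idx i = y from hi]; exact hzy⟩
    obtain ⟨O₄, hO₄, hO₄e⟩ := isOpen_induced_iff.1 hO₃
    let c' := preObj g O₄
    let A : Fin t.toList.length → Set (UnivSp L) := fun i => {v | ∃ hv : v ∈ c.carrier, ⟨v, hv⟩ ∈ C i ∧ (g.1 ⟨v, hv⟩).1 ∈ O₄}
    have hA : ∀ i, c.carrier ∩ A i ⊆ (inter c (O₂ (idx i))).carrier ∩ A i := fun i v hv => by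
      obtain ⟨-, hv', hvC, hvO⟩ := hv
      exact ⟨⟨hv', hCN i ⟨hvC, (Set.ext_iff.1 hO₄e _).1 hvO⟩⟩, hv', hvC, hvO⟩
    let d := fun i => preObj (gz (idx i)) (A i)
    let e : ∀ i, inter (inter c (O₂ (idx i))) (A i) ≅ inter c (A i) := fun i =>
      inclIso (fun v hv => ⟨hv.1.1, hv.2⟩) (hA i)
    have hsub : ∀ i, (inter c (A i)).carrier ⊆ c'.carrier := fun i v hv => by
      obtain ⟨-, hv', -, hvO⟩ := hv
      exact ⟨hv', hvO⟩
    let cl : ∀ i, inter c (A i) ⟶ c' := fun i => incl (hsub i)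
    have hcl : ∀ i, IsProperMap (cl i).1 := fun i => by
      refine Topology.IsClosedEmbedding.isProperMap ⟨Topology.IsEmbedding.inclusion (hsub i), ?_⟩
      rw [show Set.range (cl i).1 = (preIncl g O₄).1 ⁻¹' C i from ?_]
      · exact (hC i).preimage (preIncl g O₄).1.continuous
      · ext v
        refine ⟨?_, fun hv => ⟨⟨v.1, v.2.1, v.2.1, hv, v.2.2⟩, rfl⟩⟩
        rintro ⟨⟨u, hu, hu', huC, huO⟩, rfl⟩
        exact huC
    let e' : inter (inter a O) O₄ ≅ inter a (O ∩ O₄) :=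
      inclIso (fun v hv => ⟨hv.1.1, hv.1.2, hv.2⟩) fun v hv => ⟨⟨hv.1, hv.2.1⟩, hv.2.2⟩
    let q : ∀ i, d i ⟶ inter a (O ∩ O₄) := fun i =>
      preTo (gz (idx i)) (A i) ≫ (e i).hom ≫ cl i ≫ preTo g O₄ ≫ e'.hom
    obtain ⟨D, inj, ho, hcD, hdj, hdesc⟩ := exists_sigma d
    obtain ⟨M, hM⟩ := hdesc _ q
    refine ⟨O ∩ O₄, hO.inter hO₄, ⟨hwO, (Set.ext_iff.1 hO₄e w').2 hw₃⟩, D, M, ?_, fun z z' ez hne => ?_, fun v => ?_, ?_⟩
    · refine isProperMap_of_cover inj hcD M fun i => ?_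
      rw [hM i]
      exact ((((isProperMap_of_iso e').comp (isProperMap_preTo g hp O₄)).comp (hcl i)).comp
        (isProperMap_of_iso (e i))).comp (isProperMap_preTo _ (hpz _) (A i))
    · obtain ⟨i, x, rfl⟩ := hcD z
      obtain ⟨i', x', rfl⟩ := hcD z'
      by_cases hii : i = i'
      · subst hii
        have hq : SepFibres (q i) := (sepFibres_preTo _ (hsz _) (A i)).comp
          ((sepFibres_of_injective (bijective_of_iso (e i)).1).comp
            ((sepFibres_of_injective (φ := cl i) (Set.inclusion_injective (hsub i))).comp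
              ((sepFibres_preTo g hs O₄).comp (sepFibres_of_injective (bijective_of_iso e').1))))
        obtain ⟨U, V, hU, hV, hx, hx', hd⟩ := hq x x' (by rw [← hM i]; exact ez) fun h => hne (congrArg _ h)
        exact ⟨_, _, (ho i).isOpenMap _ hU, (ho i).isOpenMap _ hV, ⟨x, hx, rfl⟩, ⟨x', hx', rfl⟩,
          Set.disjoint_image_of_injective (ho i).injective hd⟩
      · exact ⟨_, _, (ho i).isOpen_range, (ho i').isOpen_range, ⟨x, rfl⟩, ⟨x', rfl⟩, Set.disjoint_left.2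
          fun v ⟨y, hy⟩ ⟨y', hy'⟩ => hii (hdj i i' y y' (hy.trans hy'.symm))⟩
    · obtain ⟨x, hx⟩ := hj ⟨v.1, v.2.1, v.2.2.1⟩
      have hxO : (g.1 x).1 ∈ O₄ := (congrArg (fun t : (inter a O).carrier => t.1) hx).symm ▸ v.2.2.2
      obtain ⟨i, hi⟩ := Set.mem_iUnion.1 (hCcov ((Set.ext_iff.1 hO₄e _).1 hxO))
      obtain ⟨y, hy⟩ := surjective_preTo _ (hjz (idx i)) (A i)
        ⟨x.1, ⟨x.2, hCN i ⟨hi, (Set.ext_iff.1 hO₄e _).1 hxO⟩⟩, x.2, hi, hxO⟩
      refine ⟨(inj i).1 y, (congrArg (fun f : d i ⟶ _ => f.1 y) (hM i)).trans (Subtype.ext ?_)⟩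
      refine Eq.trans ?_ (congrArg (fun t : (inter a O).carrier => t.1) hx)
      exact congrArg (fun z : c.carrier => (g.1 z).1) (Subtype.ext (congrArg
        (fun z : (inter (inter c (O₂ (idx i))) (A i)).carrier => z.1) hy))
    · refine mem_topology_of_openEmbeddings inj ho hcD _ fun i => ?_
      rw [← Sieve.pullback_comp, ← Category.assoc, hM i]
      have : q i ≫ interIncl a (O ∩ O₄) =
          preIncl (gz (idx i)) (A i) ≫ gz (idx i) ≫ interIncl c (O₂ (idx i)) ≫ g ≫ interIncl a O := rfl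
      rw [this, Sieve.pullback_comp]
      exact (topology (ust L)).pullback_stable _ (hcz (idx i))

lemma mem_ptop_of_mem {a : UObj L} {R : Sieve a} (hR : R ∈ topology (ust L) a) : R ∈ ptop L a := fun w => by
  obtain ⟨O, hO, hwO, h⟩ := hR w
  refine ⟨O, hO, hwO, inter a O, 𝟙 _, isProperMap_id, sepFibres_of_injective fun _ _ h => h, fun z => ⟨z, rfl⟩, ?_⟩
  rw [Category.id_comp, show Sieve.pullback (interIncl a O) R = ⊤ from (Sieve.mem_iff_pullback_eq_top _).1 h]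
  exact (topology (ust L)).top_mem _

/-- A proper surjection covers. -/
lemma mem_ptop_of_cover {a c : UObj L} (g : c ⟶ a) (hp : IsProperMap g.1) (hs : SepFibres g)
    (hj : Function.Surjective g.1) {R : Sieve a} (hR : R g) : R ∈ ptop L a := fun w => by
  let e : a ≅ inter a Set.univ := inclIso (fun v hv => ⟨hv, trivial⟩) fun v hv => hv.1
  refine ⟨Set.univ, isOpen_univ, trivial, c, g ≫ e.hom, (isProperMap_of_iso e).comp hp,
    hs.comp (sepFibres_of_injective (bijective_of_iso e).1), (bijective_of_iso e).2.comp hj, ?_⟩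
  rw [show (g ≫ e.hom) ≫ interIncl a Set.univ = g from rfl, (Sieve.mem_iff_pullback_eq_top _).1 hR]
  exact (topology (ust L)).top_mem _

/-- The point of an object. -/
abbrev ptObj (a : UObj L) (w : a.carrier) : UObj L := ⟨a.lvl, {w.1}⟩

/-- The inclusion of a point. -/
def ptIncl (a : UObj L) (w : a.carrier) : ptObj a w ⟶ a := incl (Set.singleton_subset_iff.2 w.2)

lemma exists_ptHom {a b : UObj L} (w : a.carrier) (z : b.carrier) (h : b.base z = a.base w) :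
    ∃ k : ptObj a w ⟶ b, ∀ v, k.1 v = z :=
  ⟨⟨ContinuousMap.const _ z, fun v => h.trans (congrArg (fun t => ubase t) (v.2 : v.1 = w.1).symm)⟩, fun _ => rfl⟩

lemma ptIncl_mem {a : UObj L} {R : Sieve a} (hR : R ∈ ptop L a) (w : a.carrier) : R (ptIncl a w) := by
  obtain ⟨O, hO, hwO, c, g, hp, hs, hj, hc⟩ := hR w
  obtain ⟨z, hz⟩ := hj ⟨w.1, w.2, hwO⟩
  obtain ⟨O₁, hO₁, hz₁, h⟩ := hc z
  have hb : (inter c O₁).base ⟨z.1, z.2, hz₁⟩ = a.base w := (g.2 z).symm.trans (congrArg (inter a O).base hz)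
  obtain ⟨k, hk⟩ := exists_ptHom w (⟨z.1, z.2, hz₁⟩ : (inter c O₁).carrier) hb
  have e : k ≫ incl (Set.inter_subset_left : c.carrier ∩ O₁ ⊆ c.carrier) ≫ g ≫ interIncl a O = ptIncl a w :=
    hom_ext fun v => by
      change (g.1 ⟨(k.1 v).1, _⟩).1 = v.1
      have e' : (⟨(k.1 v).1, (k.1 v).2.1⟩ : c.carrier) = z :=
        Subtype.ext (congrArg (fun t : (inter c O₁).carrier => t.1) (hk v))
      rw [e', hz]
      exact (v.2 : v.1 = w.1).symm
  rw [← e]
  exact R.downward_closed h k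

section Germs

variable (F : CohTop.Ab S)

lemma congr_fam' {F : CohTop.Ab S} {a : UObj L} (c : Fam F a) {v w : a.carrier} (e : v = w) {y : S}
    (h : a.base v = y) (h' : a.base w = y) : c v ⟨y, h⟩ = c w ⟨y, h'⟩ := by
  subst e; rfl

lemma res_res' {F : CohTop.Ab S} {U V W : Opens S} (h : W ≤ V) (h' : V ≤ U) (s : F.obj.obj (op U)) :
    F.obj.map (homOfLE h).op (F.obj.map (homOfLE h').op s) = F.obj.map (homOfLE (h.trans h')).op s :=
  (ConcreteCategory.congr_hom (F.obj.map_comp (homOfLE h').op (homOfLE h).op) s).symm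

theorem isSheaf_ptop_famPresheaf : Presheaf.IsSheaf (ptop L) (famPresheaf (str := ust L) F) := by
  refine (Presheaf.isSheaf_iff_isSheaf_forget (ptop L) _ (forget AddCommGrpCat.{u})).2
    ((isSheaf_iff_isSheaf_of_type _ _).2 fun a R hR x hx => ?_)
  let c : Fam F a := fun w y => (x _ (ptIncl_mem hR w)).1 ⟨w.1, rfl⟩ ⟨y.1, y.2⟩
  have key : ∀ {b : UObj L} (h : b ⟶ a) (hh : R h) (v : b.carrier) (y : S) (e : a.base (h.1 v) = y),
      c (h.1 v) ⟨y, e⟩ = (x h hh).1 v ⟨y, (h.2 v).symm.trans e⟩ := fun {b} h hh v y e => by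
    obtain ⟨k, hk⟩ := exists_ptHom v (⟨(h.1 v).1, rfl⟩ : (ptObj a (h.1 v)).carrier) (h.2 v)
    have e₁ : k ≫ ptIncl a (h.1 v) = ptIncl b v ≫ h := hom_ext fun t => by
      change (k.1 t).1 = (h.1 ⟨t.1, _⟩).1
      rw [hk t]
      exact congrArg (fun s => (h.1 s).1) (Subtype.ext (t.2 : t.1 = v.1).symm)
    have e₂ := congrFun (congrFun (congrArg Subtype.val (hx k (ptIncl b v) (ptIncl_mem hR _) hh e₁)) ⟨v.1, rfl⟩)
      ⟨y, (h.2 v).symm.trans e⟩
    refine Eq.trans ?_ e₂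
    exact congr_fam F (x _ (ptIncl_mem hR (h.1 v))) (hk ⟨v.1, rfl⟩).symm _ _
  have hc : c ∈ famSubgroup F a := fun w => by
    classical
    obtain ⟨O, hO, hwO, b, g, hp, -, hj, hb⟩ := hR w
    let w' : (inter a O).carrier := ⟨w.1, w.2, hwO⟩
    have hloc : ∀ z : b.carrier, g.1 z = w' → ∃ (N : Set b.carrier) (V : Opens S) (hy : a.base w ∈ V) (s : F.obj.obj (op V)),
        IsOpen N ∧ z ∈ N ∧ c w ⟨a.base w, rfl⟩ = gm F (a.base w) V hy s ∧
        ∀ v ∈ N, ∀ y (e : a.base ((g ≫ interIncl a O).1 v) = y), ∃ hy : y ∈ V,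
          c ((g ≫ interIncl a O).1 v) ⟨y, e⟩ = gm F y V hy s := fun z hz => by
      obtain ⟨O₁, hO₁, hz₁, h⟩ := hb z
      let f : inter b O₁ ⟶ a := interIncl b O₁ ≫ g ≫ interIncl a O
      obtain ⟨N, hN, hzN, V, s, hs⟩ := (x f h).2 ⟨z.1, z.2, hz₁⟩
      obtain ⟨B, hB, hBN⟩ := isOpen_induced_iff.1 hN
      have hfz : f.1 ⟨z.1, z.2, hz₁⟩ = w :=
        Subtype.ext (congrArg (fun t : (inter a O).carrier => t.1) (show g.1 z = w' from hz))
      obtain ⟨hy, e⟩ := hs _ hzN (a.base w) ((f.2 _).symm.trans (congrArg a.base hfz))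
      refine ⟨Subtype.val ⁻¹' (B ∩ O₁), V, hy, s, (hB.inter hO₁).preimage continuous_subtype_val,
        ⟨(Set.ext_iff.1 hBN ⟨z.1, z.2, hz₁⟩).2 hzN, hz₁⟩, ?_, fun v hv y e' => ?_⟩
      · refine Eq.trans ?_ ((key f h _ (a.base w) (congrArg a.base hfz)).trans e)
        exact congr_fam' c hfz.symm _ _
      · obtain ⟨hy', e''⟩ := hs ⟨v.1, v.2, hv.2⟩ ((Set.ext_iff.1 hBN ⟨v.1, v.2, hv.2⟩).1 hv.1) y ((f.2 _).symm.trans e')
        exact ⟨hy', (key f h ⟨v.1, v.2, hv.2⟩ y e').trans e''⟩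
    choose N V hy s hN hzN he hs using hloc
    obtain ⟨z₀, hz₀⟩ := hj w'
    obtain ⟨t, ht⟩ := (hp.isCompact_preimage (isCompact_singleton (x := w'))).elim_finite_subcover
      (fun z : g.1 ⁻¹' {w'} => N z.1 z.2) (fun z => hN z.1 z.2) fun z hz => Set.mem_iUnion.2 ⟨⟨z, hz⟩, hzN z hz⟩
    have hW : ∀ z : g.1 ⁻¹' {w'}, ∃ (W : Opens S) (h₁ : W ≤ V z₀ hz₀) (h₂ : W ≤ V z.1 z.2), a.base w ∈ W ∧
        F.obj.map (homOfLE h₁).op (s z₀ hz₀) = F.obj.map (homOfLE h₂).op (s z.1 z.2) := fun z => by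
      have e := (he z₀ hz₀).symm.trans (he z.1 z.2)
      rw [← gm_res F _ (inf_le_left : V z₀ hz₀ ⊓ V z.1 z.2 ≤ V z₀ hz₀) ⟨hy z₀ hz₀, hy z.1 z.2⟩ (s z₀ hz₀),
        ← gm_res F _ (inf_le_right : V z₀ hz₀ ⊓ V z.1 z.2 ≤ V z.1 z.2) ⟨hy z₀ hz₀, hy z.1 z.2⟩ (s z.1 z.2)] at e
      obtain ⟨W, hW, hwW, e'⟩ := gm_eq F _ _ _ _ e
      refine ⟨W, hW.trans inf_le_left, hW.trans inf_le_right, hwW, ?_⟩
      rw [res_res', res_res'] at e'
      exact e'
    choose W hW₁ hW₂ hwW hWe using hW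
    let W₀ : Opens S := ⟨⋂ z ∈ t, (W z : Set S), isOpen_biInter_finset fun z _ => (W z).2⟩
    let Ω : Set b.carrier := (⋃ z ∈ t, N z.1 z.2) ∩ (fun v => b.base v) ⁻¹' ((V z₀ hz₀ : Set S) ∩ W₀)
    have hΩ : IsOpen Ω := (isOpen_biUnion fun z _ => hN z.1 z.2).inter
      (((V z₀ hz₀).2.inter W₀.2).preimage b.continuous_base)
    have hb₀ : ∀ v, g.1 v = w' → b.base v = a.base w := fun v hv => (g.2 v).symm.trans (congrArg (inter a O).base hv)
    obtain ⟨B, hB, hBe⟩ := isOpen_induced_iff.1 (hp.isClosedMap _ hΩ.isClosed_compl).isOpen_compl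
    refine ⟨Subtype.val ⁻¹' (O ∩ B), (hO.inter hB).preimage continuous_subtype_val, ⟨hwO, ?_⟩, V z₀ hz₀, s z₀ hz₀,
      fun v hv y e => ?_⟩
    · refine (Set.ext_iff.1 hBe w').2 ?_
      rintro ⟨u, hu, hu'⟩
      refine hu ⟨ht hu', ?_⟩
      change b.base u ∈ (V z₀ hz₀ : Set S) ∩ (W₀ : Set S)
      rw [hb₀ u hu']
      exact ⟨hy z₀ hz₀, Set.mem_iInter₂.2 fun z _ => hwW z⟩
    · let v' : (inter a O).carrier := ⟨v.1, v.2, hv.1⟩
      obtain ⟨u, hu⟩ := hj v'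
      have huΩ : u ∈ Ω := by_contra fun hn => (Set.ext_iff.1 hBe v').1 hv.2 ⟨u, hn, hu⟩
      obtain ⟨z, hzt, huz⟩ := Set.mem_iUnion₂.1 huΩ.1
      have hgu : (g ≫ interIncl a O).1 u = v := Subtype.ext (congrArg (fun t : (inter a O).carrier => t.1) hu)
      obtain ⟨hyz, ez⟩ := hs z.1 z.2 u huz y ((congrArg a.base hgu).trans e)
      have hby : b.base u = y := ((g.2 u).symm.trans (congrArg (inter a O).base hu)).trans e
      have hy₀ : y ∈ V z₀ hz₀ := hby ▸ huΩ.2.1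
      have hyW : y ∈ W z := hby ▸ (Set.mem_iInter₂.1 huΩ.2.2 z hzt)
      refine ⟨hy₀, (congr_fam' c hgu.symm _ _).trans (ez.trans ?_)⟩
      rw [← gm_res F y (hW₂ z) hyW, ← hWe z, gm_res]
  refine ⟨⟨c, hc⟩, fun b h hh => ?_, fun t ht => ?_⟩
  · exact Subtype.ext (funext fun v => funext fun y => key h hh v y.1 _)
  · refine Subtype.ext (funext fun w => funext fun y => ?_)
    exact congrFun (congrFun (congrArg Subtype.val (ht _ (ptIncl_mem hR w))) ⟨w.1, rfl⟩) ⟨y.1, y.2⟩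

end Germs

end Groth.Agent.CohTopBC.DescentSite
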