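import Mathlib
import Groth.Agent.CohTopBC.HyperTop

/-!
Classes near a point on the parts of an object liftable along a proper surjection, and obstructions to exactness.
-/

set_option autoImplicit false
universe w v u

open CategoryTheory CategoryTheory.Limits Opposite TopologicalSpace Simplicial
open CategoryTheory.Abelian
open Groth.SiteCohomology

namespace Groth.Agent.CohTopBC.DescentSite

section Abstract

variable {C : Type u} [Category.{v} C] [Abelian C] [HasExt.{w} C] (A : ℕ → C) [∀ k, Injective (A k)]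
  (d : ∀ k, A k ⟶ A (k + 1)) {F : C} (ι : F ⟶ A 0) [Mono ι] (w₀ : ι ≫ d 0 = 0)
  (wd : ∀ k, d k ≫ d (k + 1) = 0)

/-- Obstruction classes of a partially exact complex of injectives. -/
theorem exists_obstruction (h₀ : (ShortComplex.mk ι (d 0) w₀).Exact) : ∀ m : ℕ,
    (∀ k < m, (ShortComplex.mk (d k) (d (k + 1)) (wd k)).Exact) →
    ∃ (B : C) (π : A m ⟶ B) (j : B ⟶ A (m + 1)) (Θ : Ext B F (m + 1)), π ≫ j = d m ∧ Mono j ∧ Epi π ∧
      (∀ (X : C) (ψ : X ⟶ B), (Ext.mk₀ ψ).comp Θ (zero_add _) = 0 → ∃ h, h ≫ π = ψ) ∧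
      (∀ (X : C) (p q : ℕ) (hq : p + 1 + (m + 1) = q) (e : Ext X B (p + 1)), e.comp Θ hq = 0 → e = 0) := by
  intro m
  induction m with
  | zero =>
    intro _
    let T := ShortComplex.mk ι (cokernel.π ι) (cokernel.condition ι)
    have hT : T.ShortExact := { exact := ShortComplex.exact_cokernel ι }
    haveI : Mono (cokernel.desc ι (d 0) w₀) := h₀.mono_cokernelDesc
    refine ⟨cokernel ι, cokernel.π ι, cokernel.desc ι (d 0) w₀, hT.extClass, cokernel.π_desc _ _ _, inferInstance,
      inferInstance, fun X ψ h => ?_, fun X p q hq e h => ?_⟩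
    · obtain ⟨x, hx⟩ := Ext.covariant_sequence_exact₃ X hT (Ext.mk₀ ψ) (rfl : 0 + 1 = 1) h
      obtain ⟨φ, rfl⟩ := Ext.addEquiv₀.symm.surjective x
      exact ⟨φ, (Ext.mk₀_bijective _ _).1 ((Ext.mk₀_comp_mk₀ φ (cokernel.π ι)).symm.trans hx)⟩
    · obtain ⟨x, hx⟩ := Ext.covariant_sequence_exact₃ X hT e hq h
      haveI : Injective T.X₂ := inferInstanceAs (Injective (A 0))
      rw [← hx, Ext.eq_zero_of_injective x, Ext.zero_comp]
  | succ m ih =>
    intro hex
    obtain ⟨B, π, j, Θ, hπj, hj, hπ, ha, hb⟩ :=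
      ih fun k hk => hex k (Nat.lt_succ_of_lt hk)
    have wj : j ≫ d (m + 1) = 0 := by rw [← cancel_epi π, reassoc_of% hπj, wd, comp_zero]
    have hjex : (ShortComplex.mk j (d (m + 1)) wj).Exact := by
      let φ : ShortComplex.mk (d m) (d (m + 1)) (wd m) ⟶ ShortComplex.mk j (d (m + 1)) wj :=
        ShortComplex.homMk π (𝟙 _) (𝟙 _) (by simpa using hπj) (by simp)
      haveI : Epi φ.τ₁ := hπ
      haveI : IsIso φ.τ₂ := inferInstanceAs (IsIso (𝟙 (A (m + 1))))
      haveI : Mono φ.τ₃ := inferInstanceAs (Mono (𝟙 (A (m + 1 + 1))))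
      exact (ShortComplex.exact_iff_of_epi_of_isIso_of_mono φ).1 (hex m (Nat.lt_succ_self m))
    let T := ShortComplex.mk j (cokernel.π j) (cokernel.condition j)
    have hT : T.ShortExact := { exact := ShortComplex.exact_cokernel j }
    haveI : Mono (cokernel.desc j (d (m + 1)) wj) := hjex.mono_cokernelDesc
    refine ⟨cokernel j, cokernel.π j, cokernel.desc j (d (m + 1)) wj, hT.extClass.comp Θ (by omega),
      cokernel.π_desc _ _ _, inferInstance, inferInstance, fun X ψ h => ?_, fun X p q hq e h => ?_⟩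
    · have h1 : (Ext.mk₀ ψ).comp hT.extClass (zero_add 1) = 0 := by
        refine hb X 0 (m + 1 + 1) (by omega) _ ?_
        exact (Ext.comp_assoc _ _ _ _ _ (by omega)).trans h
      obtain ⟨x, hx⟩ := Ext.covariant_sequence_exact₃ X hT (Ext.mk₀ ψ) (rfl : 0 + 1 = 1) h1
      obtain ⟨φ, rfl⟩ := Ext.addEquiv₀.symm.surjective x
      exact ⟨φ, (Ext.mk₀_bijective _ _).1 ((Ext.mk₀_comp_mk₀ φ (cokernel.π j)).symm.trans hx)⟩
    · have h1 : e.comp hT.extClass (rfl : p + 1 + 1 = p + 1 + 1) = 0 := by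
        refine hb X (p + 1) q (by omega) _ ?_
        exact (Ext.comp_assoc _ _ _ _ _ (by omega)).trans h
      obtain ⟨x, hx⟩ := Ext.covariant_sequence_exact₃ X hT e rfl h1
      haveI : Injective T.X₂ := inferInstanceAs (Injective (A (m + 1)))
      rw [← hx, Ext.eq_zero_of_injective x, Ext.zero_comp]

end Abstract

variable {S : TopCat.{u}} {L : ℕ → Over S} {b c : UObj L} (g : c ⟶ b)

/-- Morphisms into subsets which lift. -/
@[reducible] def pntFun : Set (UnivSp L) ⥤ ((UObj L)ᵒᵖ ⥤ Type u) where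
  obj A :=
    { obj := fun U => {h : U.unop ⟶ b // (∀ w, (h.1 w).1 ∈ A) ∧ ∃ k, k ≫ g = h}
      map := fun f => ↾fun h => ⟨f.unop ≫ h.1, fun w => h.2.1 _, by
        obtain ⟨k, hk⟩ := h.2.2
        exact ⟨f.unop ≫ k, by rw [Category.assoc, hk]⟩⟩
      map_id := fun U => ConcreteCategory.hom_ext _ _ fun h => Subtype.ext (Category.id_comp _)
      map_comp := fun f f' => ConcreteCategory.hom_ext _ _ fun h => Subtype.ext (Category.assoc _ _ _) }
  map hAB :=
    { app := fun U => ↾fun h => ⟨h.1, fun w => hAB.le (h.2.1 w), h.2.2⟩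
      naturality := fun _ _ _ => rfl }
  map_id _ := rfl
  map_comp _ _ := rfl

/-- The inclusion of liftable morphisms. -/
def pntIncl (A : Set (UnivSp L)) : (pntFun g).obj A ⟶ yoneda.obj b where
  app U := ↾fun h => h.1

instance mono_pntIncl (A : Set (UnivSp L)) : Mono (pntIncl g A) :=
  have : ∀ U, Mono ((pntIncl g A).app U) := fun U => by
    rw [mono_iff_injective]
    intro h h' e
    exact Subtype.ext e
  NatTrans.mono_of_mono_app _

section Tup

variable (A : Set (UnivSp L))

/-- Tuples of lifts over a subset. -/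
@[reducible] def tupFun (n : SimplexCategory) : (UObj L)ᵒᵖ ⥤ Type u where
  obj U := {t : Fin (n.len + 1) → (U.unop ⟶ c) //
    (∀ i, t i ≫ g = t 0 ≫ g) ∧ ∀ w, (g.1 ((t 0).1 w)).1 ∈ A}
  map f := ↾fun t => ⟨fun i => f.unop ≫ t.1 i,
    fun i => by rw [Category.assoc, Category.assoc, t.2.1 i], fun w => t.2.2 _⟩
  map_id U := ConcreteCategory.hom_ext _ _ fun t => Subtype.ext (funext fun i => Category.id_comp _)
  map_comp f f' := ConcreteCategory.hom_ext _ _ fun t => Subtype.ext (funext fun i => Category.assoc _ _ _)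

lemma tup_mem {n : SimplexCategory} {U : (UObj L)ᵒᵖ} (t : (tupFun g A n).obj U) (i : Fin (n.len + 1))
    (w : U.unop.carrier) : (g.1 ((t.1 i).1 w)).1 ∈ A :=
  (congrArg (fun f : U.unop ⟶ b => (f.1 w).1) (t.2.1 i) :
    (g.1 ((t.1 i).1 w)).1 = (g.1 ((t.1 0).1 w)).1).symm ▸ t.2.2 w

/-- The simplicial structure on tuples. -/
def tupMap {n m : SimplexCategory} (θ : m ⟶ n) : tupFun g A n ⟶ tupFun g A m where
  app U := ↾fun t => ⟨fun i => t.1 (θ.toOrderHom i), fun i => (t.2.1 _).trans (t.2.1 _).symm,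
    fun w => tup_mem g A t _ w⟩
  naturality _ _ _ := rfl

/-- The first lift. -/
def tupBase (n : SimplexCategory) : tupFun g A n ⟶ (pntFun g).obj A where
  app U := ↾fun t => ⟨t.1 0 ≫ g, t.2.2, t.1 0, rfl⟩
  naturality U U' k := ConcreteCategory.hom_ext _ _ fun t => Subtype.ext (Category.assoc _ _ _)

end Tup

/-- Tuples of lifts, as a functor of the subset. -/
@[reducible] def tupFunctor (n : SimplexCategory) : Set (UnivSp L) ⥤ ((UObj L)ᵒᵖ ⥤ Type u) where
  obj A := tupFun g A n
  map hAB :=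
    { app := fun U => ↾fun t => ⟨t.1, t.2.1, fun w => hAB.le (t.2.2 w)⟩
      naturality := fun _ _ _ => rfl }
  map_id _ := rfl
  map_comp _ _ := rfl

/-- Tuples of lifts. -/
def pntNerve : SimplicialObject.Augmented (Set (UnivSp L) ⥤ ((UObj L)ᵒᵖ ⥤ Type u)) where
  left :=
    { obj := fun n => tupFunctor g n.unop
      map := fun θ => { app := fun A => tupMap g A θ.unop, naturality := fun _ _ _ => rfl }
      map_id := fun _ => rfl
      map_comp := fun _ _ => rfl }
  right := pntFun g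
  hom :=
    { app := fun n => { app := fun A => tupBase g A n.unop, naturality := fun _ _ _ => rfl }
      naturality := fun n m θ => NatTrans.ext (funext fun A => NatTrans.ext (funext fun U =>
        ConcreteCategory.hom_ext _ _ fun t => Subtype.ext (t.2.1 _))) }

/-- The nerve at a subset. -/
noncomputable abbrev pntNerveAt (A : Set (UnivSp L)) : SimplicialObject.Augmented ((UObj L)ᵒᵖ ⥤ Type u) :=
  ((SimplicialObject.Augmented.whiskering _ _).obj ((evaluation (Set (UnivSp L)) _).obj A)).obj (pntNerve g)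

lemma isCechTypePresheaf_pntNerveAt (A : Set (UnivSp L)) : IsCechTypePresheaf (pntNerveAt g A) := fun U =>
  { ext := fun n x y h => Subtype.ext (funext fun i => congrFun (congrArg Subtype.val (h i)) 0)
    lift := fun n t ht => ⟨⟨fun i => (t i).1 0, fun i => congrArg Subtype.val (ht i 0), (t 0).2.2⟩, fun i =>
      Subtype.ext (funext fun k => by
        obtain rfl : k = 0 := Subsingleton.elim (α := Fin 1) _ _
        rfl)⟩ }

instance isLocallySurjective_pntNerveAt (A : Set (UnivSp L)) :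
    Presheaf.IsLocallySurjective (topology (ust L)) ((pntNerveAt g A).hom.app (op ⦋0⦌)) where
  imageSieve_mem {U} a w := by
    obtain ⟨h, hA, k, hk⟩ := a
    subst hk
    refine ⟨Set.univ, isOpen_univ, trivial, ⟨fun _ => incl Set.inter_subset_left ≫ k, fun _ => rfl, fun v => hA _⟩, ?_⟩
    exact Subtype.ext (Category.assoc _ _ _)

/-- The free sheaves on liftable morphisms. -/
noncomputable abbrev pntFree : Set (UnivSp L) ⥤ Sh (ust L) := pntFun g ⋙ freeSh (topology (ust L))

/-- The free simplicial object on tuples of lifts. -/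
noncomputable abbrev pntNerveFree : SimplicialObject.Augmented (Set (UnivSp L) ⥤ Sh (ust L)) :=
  ((SimplicialObject.Augmented.whiskering _ _).obj
    ((Functor.whiskeringRight (Set (UnivSp L)) _ _).obj (freeSh (topology (ust L))))).obj (pntNerve g)

theorem isResolution_pntNerveFree :
    AcyclicRes.IsResolution' (fun n => (pntNerveFree g).left.obj (op ⦋n⦌))
      (AlgebraicTopology.AlternatingFaceMapComplex.objD (pntNerveFree g).left) ((pntNerveFree g).hom.app (op ⦋0⦌)) :=
  NearExt.isResolution'_eval _ _ _ fun A => by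
    refine isResolution'_congr (isAugResolution_freeSh (topology (ust L)) (pntNerveAt g A)
      (isCechTypePresheaf_pntNerveAt g A)) (fun n => ?_) ?_
    · exact (map_objD ((evaluation (Set (UnivSp L)) (Sh (ust L))).obj A) (pntNerveFree g).left n).symm
    · refine (Category.comp_id _).trans ?_
      refine Eq.trans ?_ (NatTrans.congr_app (Category.comp_id
        (((Functor.whiskeringRight (Set (UnivSp L)) _ _).obj (freeSh (topology (ust L)))).map
          ((pntNerve g).hom.app (op ⦋0⦌)))) A).symm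
      exact congrArg (fun k => (freeSh (topology (ust L))).map k) (Category.comp_id _)

variable (hp : IsProperMap g.1) (hs : SepFibres g)
include hp hs

theorem exists_pow : ∀ p : ℕ, ∃ (P : UObj L) (φ : P ⟶ b) (π : Fin (p + 1) → (P ⟶ c)), IsProperMap φ.1 ∧ SepFibres φ ∧
    (∀ i, π i ≫ g = φ) ∧
    (∀ (U : UObj L) (t : Fin (p + 1) → (U ⟶ c)), (∀ i, t i ≫ g = t 0 ≫ g) → ∃! k : U ⟶ P, ∀ i, k ≫ π i = t i) := by
  intro p
  induction p with
  | zero =>
    exact ⟨c, g, fun _ => 𝟙 c, hp, hs, fun _ => Category.id_comp _, fun U t _ =>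
      ⟨t 0, fun i => by rw [Category.comp_id, Subsingleton.elim (α := Fin 1) i 0], fun k hk => by
        rw [← hk 0, Category.comp_id]⟩⟩
  | succ p ih =>
    obtain ⟨P, φ, π, hφ, hsφ, hπ, huniv⟩ := ih
    obtain ⟨P', p₁, p₂, hsq, hinj, -, hlift, hprop⟩ := exists_pullback g.1 φ.1 b.base g.2 φ.2
    have h₁ : p₁ ≫ g = p₂ ≫ φ := hom_ext fun z => congrArg Subtype.val (hsq z)
    refine ⟨P', p₂ ≫ φ, Fin.cons p₁ fun i => p₂ ≫ π i, hφ.comp (hprop hp), ?_, fun i => ?_, fun U t ht => ?_⟩
    · refine SepFibres.comp (fun z z' e hne => ?_) hsφ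
      obtain ⟨U, V, hU, hV, hz, hz', hd⟩ := hs (p₁.1 z) (p₁.1 z') ((hsq z).trans ((congrArg φ.1 e).trans (hsq z').symm))
        fun e' => hne (hinj z z' e' e)
      exact ⟨_, _, hU.preimage p₁.1.continuous, hV.preimage p₁.1.continuous, hz, hz', hd.preimage _⟩
    · refine Fin.cases ?_ (fun i => ?_) i
      · rw [Fin.cons_zero, h₁]
      · rw [Fin.cons_succ, Category.assoc, hπ]
    · obtain ⟨k, hk, huk⟩ := huniv U (fun i => t i.succ) fun i => (ht _).trans (ht _).symm
      have hk' : t 0 ≫ g = k ≫ φ := by rw [← hπ 0, reassoc_of% (hk 0), ht (Fin.succ 0)]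
      obtain ⟨l, hl₁, hl₂⟩ := hlift U (t 0) k fun w => congrArg (fun f : U ⟶ b => f.1 w) hk'
      refine ⟨l, fun i => ?_, fun l' hl' => ?_⟩
      · refine Fin.cases ?_ (fun i => ?_) i
        · rw [Fin.cons_zero, hl₁]
        · rw [Fin.cons_succ, reassoc_of% hl₂, hk]
      · have e₁ : l' ≫ p₁ = t 0 := by
          have := hl' 0
          rwa [Fin.cons_zero] at this
        have e₂ : l' ≫ p₂ = k := huk _ fun i => by
          have := hl' i.succ
          rwa [Fin.cons_succ, ← Category.assoc] at this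
        refine hom_ext fun w => congrArg Subtype.val (hinj _ _ ?_ ?_)
        · exact congrArg (fun f : U ⟶ c => f.1 w) (e₁.trans hl₁.symm)
        · exact congrArg (fun f : U ⟶ P => f.1 w) (e₂.trans hl₂.symm)

theorem near_pntFree {F : CohTop.Ab S} (R : InjectiveResolution (germSheaf (ust L) F)) (x : b.space) (n : ℕ) :
    NearExt.Inj (germSheaf (ust L) F) ({x.1} : Set (UnivSp L)) (nbhdsSet (T := UnivSp L) x.1) (pntFree g) n ∧
      NearExt.Surj (germSheaf (ust L) F) ({x.1} : Set (UnivSp L)) (nbhdsSet (T := UnivSp L) x.1) (pntFree g) n := by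
  haveI : HasExt.{u + 1} (Set (UnivSp L) ⥤ Sh (ust L)) := HasExt.standard _
  refine NearExt.near_of_resolution (germSheaf (ust L) F) ({x.1} : Set (UnivSp L)) (nbhdsSet_le (T := UnivSp L)) nbhdsSet_dir n _ _ (pntFree g) _
    (isResolution_pntNerveFree g) fun p m => ?_
  obtain ⟨P, φ, π, hφ, hsφ, hπ, huniv⟩ := exists_pow g hp hs p
  let f : ∀ (A : Set (UnivSp L)) (U : UObj L) (k : U ⟶ preObj φ A),
      {t : Fin (p + 1) → (U ⟶ c) // (∀ i, t i ≫ g = t 0 ≫ g) ∧ ∀ w, (g.1 ((t 0).1 w)).1 ∈ A} := fun A U k =>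
    ⟨fun i => k ≫ preIncl φ A ≫ π i, fun i => by simp only [Category.assoc, hπ], fun w => by
      obtain ⟨hv, hA⟩ := (k.1 w).2
      have e := congrArg (fun q : P ⟶ b => (q.1 ⟨(k.1 w).1, hv⟩).1) (hπ 0)
      exact Eq.mpr (congrArg (· ∈ A) e) hA⟩
  have hf : ∀ A U, Function.Bijective (f A U) := fun A U => by
    refine ⟨fun k k' e => ?_, fun t => ?_⟩
    · obtain ⟨l, -, hl⟩ := huniv U (f A U k).1 (f A U k).2.1
      have e' : k ≫ preIncl φ A = k' ≫ preIncl φ A := (hl _ fun i => Category.assoc _ _ _).trans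
        (hl _ fun i => (Category.assoc _ _ _).trans (congrFun (congrArg Subtype.val e.symm) i)).symm
      exact hom_ext fun w => congrArg (fun q : U ⟶ P => (q.1 w).1) e'
    · obtain ⟨l, hl, -⟩ := huniv U t.1 t.2.1
      have hlA : ∀ w, (l.1 w).1 ∈ (preObj φ A).carrier := fun w => by
        refine ⟨(l.1 w).2, ?_⟩
        have e := congrArg (fun q : U ⟶ b => (q.1 w).1) (show l ≫ φ = t.1 0 ≫ g by rw [← hπ 0, reassoc_of% (hl 0)])
        exact Eq.mpr (congrArg (· ∈ A) e) (t.2.2 w)
      obtain ⟨k, hk⟩ := exists_factor l (fun v (hv : v ∈ (preObj φ A).carrier) => hv.1) hlA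
      refine ⟨k, Subtype.ext (funext fun i => ?_)⟩
      change k ≫ preIncl φ A ≫ π i = t.1 i
      rw [← Category.assoc, ← hl i]
      exact congrArg (· ≫ π i) hk
  let e : preFree φ ≅ (pntNerveFree g).left.obj (op ⦋p⦌) :=
    Functor.isoWhiskerRight (NatIso.ofComponents (fun A => NatIso.ofComponents
      (fun U => Equiv.toIso (Equiv.ofBijective _ (hf A U.unop)))
      fun {U U'} k => ConcreteCategory.hom_ext _ _ fun v => Subtype.ext (funext fun i => Category.assoc _ _ _))
      fun {A A'} h => NatTrans.ext (funext fun U => ConcreteCategory.hom_ext _ _ fun v => Subtype.ext (funext fun i => Category.assoc _ _ _)))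
      (freeSh (topology (ust L)))
  exact ⟨(near_preFree φ R hφ hsφ x m).1.of_iso e, (near_preFree φ R hφ hsφ x m).2.of_iso e⟩

omit hp hs in
/-- At a point every morphism lifts. -/
theorem subsingleton_ext_pnt_singleton (hj : Function.Surjective g.1) (x : b.carrier) (G : Sh (ust L)) (n : ℕ) :
    Subsingleton (Ext ((pntFree g).obj {x.1}) G (n + 1)) := by
  haveI : Subsingleton (ptObj b x).carrier := ⟨fun v v' => Subtype.ext ((v.2 : v.1 = x.1).trans (v'.2 : v'.1 = x.1).symm)⟩
  obtain ⟨z, hz⟩ := hj x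
  obtain ⟨k, hk⟩ := exists_ptHom x z ((g.2 z).symm.trans (congrArg b.base hz))
  have hkg : k ≫ g = ptIncl b x := hom_ext fun v => by
    change (g.1 (k.1 v)).1 = v.1
    rw [hk v, hz]
    exact (v.2 : v.1 = x.1).symm
  let f : ∀ U : UObj L, (U ⟶ ptObj b x) → ((pntFun g).obj {x.1}).obj (op U) := fun U h =>
    ⟨h ≫ ptIncl b x, fun w => (h.1 w).2, h ≫ k, by rw [Category.assoc, hkg]⟩
  have hf : ∀ U, Function.Bijective (f U) := fun U => ⟨fun h h' _ => hom_ext fun w =>
    congrArg Subtype.val (Subsingleton.elim (α := (ptObj b x).carrier) _ _), fun h => by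
      obtain ⟨l, hl⟩ := exists_factor h.1 (Set.singleton_subset_iff.2 x.2) h.2.1
      exact ⟨l, Subtype.ext hl⟩⟩
  let e : yoneda.obj (ptObj b x) ≅ (pntFun g).obj {x.1} :=
    NatIso.ofComponents (fun U => Equiv.toIso (Equiv.ofBijective _ (hf U.unop)))
      fun {U U'} m => ConcreteCategory.hom_ext _ _ fun v => Subtype.ext (Category.assoc m.unop v (ptIncl b x))
  haveI : Subsingleton (Ext ((freeSh (topology (ust L))).obj (yoneda.obj (ptObj b x))) G (n + 1)) :=
    subsingleton_ext_point (ptObj b x) G n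
  exact (extIsoLeft ((freeSh (topology (ust L))).mapIso e) G (n + 1)).toEquiv.subsingleton

end Groth.Agent.CohTopBC.DescentSite
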