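import Mathlib
import Groth.Agent.CohTopBC.HyperNear

/-!
Cohomology for the topology of proper surjections agrees with cohomology for open coverings.
-/

set_option autoImplicit false
universe u

open CategoryTheory CategoryTheory.Limits Opposite TopologicalSpace Simplicial
open CategoryTheory.Abelian
open Groth.SiteCohomology

namespace Groth.Agent.CohTopBC.DescentSite

section Site

variable {C : Type u} [SmallCategory C] {J : GrothendieckTopology C}

lemma sect_eq_zero_of_local (G : Sheaf J AddCommGrpCat.{u}) {a : C} (e : G.obj.obj (op a)) (R : Sieve a) (hR : R ∈ J a)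
    (h : ∀ ⦃V : C⦄ (f : V ⟶ a), R f → G.obj.map f.op e = 0) : e = 0 := by
  have hsh : Presieve.IsSheaf J (G.obj ⋙ forget AddCommGrpCat.{u}) :=
    (isSheaf_iff_isSheaf_of_type _ _).1 (GrothendieckTopology.HasSheafCompose.isSheaf G.obj G.2)
  exact (hsh R hR).isSeparatedFor.ext fun V f hf => (h f hf).trans (map_zero (G.obj.map f.op).hom).symm

/-- Cycles of an exact complex of sheaves are locally boundaries. -/
theorem exists_cover_of_exact {T : ShortComplex (Sheaf J AddCommGrpCat.{u})} (hT : T.Exact) {a : C}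
    (s : T.X₂.obj.obj (op a)) (hs : T.g.hom.app _ s = 0) :
    ∃ R ∈ J a, ∀ ⦃V : C⦄ (f : V ⟶ a), R f → ∃ t : T.X₁.obj.obj (op V), T.f.hom.app _ t = T.X₂.obj.map f.op s := by
  have hz : CohFree.ofSect J a _ s ≫ T.g = 0 :=
    (ofSect_comp s T.g).trans ((congrArg (CohFree.ofSect J a _) hs).trans (map_zero (CohFree.homEquivSect J a _).symm))
  let k : (kernel T.g).obj.obj (op a) := CohFree.evalGen J a _ (kernel.lift T.g _ hz)
  have hk : (kernel.ι T.g).hom.app _ k = s :=
    (evalGen_comp (kernel.lift T.g _ hz) (kernel.ι T.g)).symm.trans (by rw [kernel.lift_ι]; exact CohFree.evalGen_ofSect J a _ s)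
  haveI := T.exact_iff_epi_kernel_lift.1 hT
  haveI hloc : Sheaf.IsLocallySurjective (kernel.lift T.g T.f T.zero) :=
    (Sheaf.isLocallySurjective_iff_epi' AddCommGrpCat.{u} _).2 inferInstance
  refine ⟨_, Presheaf.imageSieve_mem J (kernel.lift T.g T.f T.zero).hom k, fun V f hf => ?_⟩
  obtain ⟨t, ht⟩ := hf
  refine ⟨t, ?_⟩
  rw [← hk]
  refine Eq.trans ?_ (NatTrans.naturality_apply (kernel.ι T.g).hom f.op k)
  refine Eq.trans ?_ (congrArg ((kernel.ι T.g).hom.app (op V)) ht)
  exact (congrArg (fun q : T.X₁ ⟶ T.X₂ => q.hom.app (op V) t) (kernel.lift_ι T.g T.f T.zero)).symm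

/-- A complex of sheaves whose cycles are locally boundaries is exact. -/
theorem exact_of_locally_boundary (T : ShortComplex (Sheaf J AddCommGrpCat.{u}))
    (h : ∀ (a : C) (s : T.X₂.obj.obj (op a)), T.g.hom.app _ s = 0 →
      ∃ R ∈ J a, ∀ ⦃V : C⦄ (f : V ⟶ a), R f → ∃ t : T.X₁.obj.obj (op V), T.f.hom.app _ t = T.X₂.obj.map f.op s) :
    T.Exact := by
  rw [T.exact_iff_kernel_ι_comp_cokernel_π_zero]
  refine Sheaf.hom_ext (NatTrans.ext (funext fun a => ConcreteCategory.hom_ext _ _ fun k => ?_))
  have hk : T.g.hom.app a ((kernel.ι T.g).hom.app a k) = 0 :=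
    congrArg (fun q : kernel T.g ⟶ T.X₃ => q.hom.app a k) (kernel.condition T.g)
  obtain ⟨R, hR, hR'⟩ := h a.unop _ hk
  refine sect_eq_zero_of_local (cokernel T.f) ((cokernel.π T.f).hom.app a ((kernel.ι T.g).hom.app a k)) R hR
    fun V f hf => ?_
  obtain ⟨t, ht⟩ := hR' f hf
  rw [← NatTrans.naturality_apply (cokernel.π T.f).hom f.op, ← ht]
  exact congrArg (fun q : T.X₁ ⟶ cokernel T.f => q.hom.app (op V) t) (cokernel.condition T.f)

lemma freeSh_map_comp_eq_zero_iff {a : C} {P : Cᵒᵖ ⥤ Type u} (i : P ⟶ yoneda.obj a) (G : Sheaf J AddCommGrpCat.{u})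
    (e : G.obj.obj (op a)) :
    (freeSh J).map i ≫ CohFree.ofSect J a G e = 0 ↔ ∀ (U : Cᵒᵖ) (h : P.obj U), G.obj.map (i.app U h).op e = 0 := by
  let E := (freeShAdj J).homEquiv P G
  have key : ∀ (U : Cᵒᵖ) (h : P.obj U),
      (E ((freeSh J).map i ≫ CohFree.ofSect J a G e)).app U h = G.obj.map (i.app U h).op e := fun U h => by
    rw [show E ((freeSh J).map i ≫ CohFree.ofSect J a G e) =
      i ≫ (freeShAdj J).homEquiv (yoneda.obj a) G (CohFree.ofSect J a G e) from
        Adjunction.homEquiv_naturality_left _ _ _]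
    exact homEquiv_ofSect_app J a G e U.unop (i.app U h)
  have h0 : ∀ (U : Cᵒᵖ) (h : P.obj U), (E 0).app U h = (0 : G.obj.obj U) := fun U h => by
    simp only [E, Adjunction.homEquiv_unit]
    rfl
  refine ⟨fun hz U h => ?_, fun hz => E.injective (NatTrans.ext (funext fun U => ConcreteCategory.hom_ext _ _ fun h => ?_))⟩
  · exact ((key U h).symm.trans (congrArg (fun q => (E q).app U h) hz)).trans (h0 U h)
  · exact (key U h).trans ((hz U h).trans (h0 U h).symm)

end Site

variable {S : TopCat.{u}} (L : ℕ → Over S)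

/-- Abelian sheaves for the topology of proper surjections. -/
abbrev PSh : Type (u + 1) := Sheaf (ptop L) AddCommGrpCat.{u}

/-- Sheaves for proper surjections are sheaves for open coverings. -/
noncomputable def toOpen : PSh L ⥤ Sh (ust L) where
  obj G := ⟨G.obj, (Presheaf.isSheaf_iff_isSheaf_forget (topology (ust L)) _ (forget AddCommGrpCat.{u})).2
    ((isSheaf_iff_isSheaf_of_type _ _).2 (Presieve.isSheaf_of_le _ (fun _ _ h => mem_ptop_of_mem h)
      ((isSheaf_iff_isSheaf_of_type _ _).1 (GrothendieckTopology.HasSheafCompose.isSheaf G.obj G.2))))⟩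
  map φ := ⟨φ.hom⟩

instance : (toOpen L).Additive where
  map_add {_ _ _ _} := rfl

/-- Sheafification for proper surjections. -/
noncomputable abbrev toProper : Sh (ust L) ⥤ PSh L :=
  sheafToPresheaf (topology (ust L)) AddCommGrpCat.{u} ⋙ presheafToSheaf (ptop L) AddCommGrpCat.{u}

/-- The adjunction. -/
noncomputable def toProperAdj : toProper L ⊣ toOpen L :=
  (sheafificationAdjunction (ptop L) AddCommGrpCat.{u}).restrictFullyFaithful
    (fullyFaithfulSheafToPresheaf (topology (ust L)) AddCommGrpCat.{u}) (Functor.FullyFaithful.id _)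
    (Functor.rightUnitor _).symm (Iso.refl _)

instance preservesFiniteLimits_toOpen : PreservesFiniteLimits (toOpen L) :=
  haveI := (toProperAdj L).rightAdjoint_preservesLimits.{0, 0}
  ⟨fun _ => inferInstance⟩

instance preservesMono_toProper : (toProper L).PreservesMonomorphisms := by
  haveI : PreservesFiniteLimits (sheafToPresheaf (topology (ust L)) AddCommGrpCat.{u}) :=
    haveI := (sheafificationAdjunction (topology (ust L)) AddCommGrpCat.{u}).rightAdjoint_preservesLimits.{0, 0}
    ⟨fun _ => inferInstance⟩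
  haveI : PreservesFiniteLimits (toProper L) := comp_preservesFiniteLimits _ _
  exact preservesMonomorphisms_of_preservesLimitsOfShape _

instance injective_toOpen (I : PSh L) [Injective I] : Injective ((toOpen L).obj I) :=
  (toProperAdj L).map_injective I ‹_›

variable (F : CohTop.Ab S)

/-- The sheaf of germ families for proper surjections. -/
noncomputable def germP : PSh L := ⟨famPresheaf F, isSheaf_ptop_famPresheaf F⟩

variable {L F} (R : InjectiveResolution (germP L F))

/-- The resolution in open coverings. -/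
noncomputable abbrev openCx : CochainComplex (Sh (ust L)) ℕ :=
  ((toOpen L).mapHomologicalComplex (ComplexShape.up ℕ)).obj R.cocomplex

/-- The augmentation. -/
noncomputable abbrev openAug : germSheaf (ust L) F ⟶ (openCx R).X 0 := (toOpen L).map (R.ι.f 0)

lemma openAug_d : openAug R ≫ (openCx R).d 0 1 = 0 := by
  refine ((toOpen L).map_comp (R.ι.f 0) (R.cocomplex.d 0 1)).symm.trans ?_
  exact ((congrArg (toOpen L).map R.ι_f_zero_comp_complex_d).trans ((toOpen L).map_zero _ _) : _)

lemma openCx_exact₀ : (ShortComplex.mk (openAug R) ((openCx R).d 0 1) (openAug_d R)).Exact := by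
  let T := ShortComplex.mk (R.ι.f 0) (R.cocomplex.d 0 1) R.ι_f_zero_comp_complex_d
  haveI : Mono T.f := inferInstanceAs (Mono (R.ι.f 0))
  have hT : T.Exact := T.exact_of_f_is_kernel R.isLimitKernelFork
  exact hT.map_of_mono_of_preservesKernel (toOpen L) inferInstance inferInstance

lemma openCx_zero (k : ℕ) : (openCx R).d k (k + 1) ≫ (openCx R).d (k + 1) (k + 1 + 1) = 0 :=
  (openCx R).d_comp_d _ _ _

lemma injective_openCx (k : ℕ) : Injective ((openCx R).X k) :=
  haveI := R.injective k
  injective_toOpen L (R.cocomplex.X k)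

/-- Cycles are locally boundaries for open coverings once they are so for proper surjections. -/
theorem exists_nhd_boundary {m : ℕ}
    (hex : ∀ k < m, (ShortComplex.mk _ _ (openCx_zero R k)).Exact) {a : UObj L}
    (s : ((openCx R).X (m + 1)).obj.obj (op a)) (hs : ((openCx R).d (m + 1) (m + 1 + 1)).hom.app _ s = 0)
    (w : a.carrier) :
    ∃ O : Set (UnivSp L), IsOpen O ∧ w.1 ∈ O ∧ ∃ t : ((openCx R).X m).obj.obj (op (inter a O)),
      ((openCx R).d m (m + 1)).hom.app _ t = ((openCx R).X (m + 1)).obj.map (interIncl a O).op s := by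
  haveI hinj := injective_openCx R
  haveI : Mono (openAug R) := inferInstanceAs (Mono ((toOpen L).map (R.ι.f 0)))
  obtain ⟨B, π, j, Θ, hπj, hj, hπ, hlift, -⟩ := exists_obstruction (fun k => (openCx R).X k)
    (fun k => (openCx R).d k (k + 1)) (openAug R) (openAug_d R) (openCx_zero R) (openCx_exact₀ R) m hex
  obtain ⟨T, hT, hT'⟩ := exists_cover_of_exact (R.exact_succ m) (T := ShortComplex.mk _ _ _) s hs
  obtain ⟨O, hO, hwO, c, g, hp, hsep, hsurj, hc⟩ := hT w
  let b := inter a O
  let x : b.carrier := ⟨w.1, w.2, hwO⟩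
  let sb : ((openCx R).X (m + 1)).obj.obj (op b) := ((openCx R).X (m + 1)).obj.map (interIncl a O).op s
  let q := cokernel.π j
  have hdq : (openCx R).d m (m + 1) ≫ q = 0 := by
    rw [← hπj, Category.assoc, cokernel.condition, comp_zero]
  have hgc : (cokernel j).obj.map g.op (q.hom.app (op b) sb) = 0 := by
    refine sect_eq_zero_of_local (cokernel j) _ _ hc fun V f hf => ?_
    obtain ⟨t, ht⟩ := hT' _ hf
    rw [map_map]
    refine (NatTrans.naturality_apply q.hom (f ≫ g).op sb).symm.trans ?_
    rw [map_map, Category.assoc, ← show _ = ((openCx R).X (m + 1)).obj.map (f ≫ g ≫ interIncl a O).op s from ht]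
    exact congrArg (fun r : (openCx R).X m ⟶ cokernel j => r.hom.app (op V) t) hdq
  let σ : CohCx.freeSheaf (topology (ust L)) b ⟶ (openCx R).X (m + 1) := CohFree.ofSect _ b _ sb
  let ρ : ∀ W, (pntFree g).obj W ⟶ CohCx.freeSheaf (topology (ust L)) b := fun W => (freeSh _).map (pntIncl g W)
  have hσ : ∀ W, (ρ W ≫ σ) ≫ q = 0 := fun W => by
    rw [Category.assoc, show σ ≫ q = CohFree.ofSect (topology (ust L)) b (cokernel j) (q.hom.app (op b) sb) from
      ofSect_comp sb q]
    refine (freeSh_map_comp_eq_zero_iff (pntIncl g W) (cokernel j) _).2 fun U h => ?_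
    obtain ⟨k, hk⟩ := h.2.2
    change (cokernel j).obj.map h.1.op _ = 0
    rw [← hk, ← map_map (cokernel j) g k, hgc, map_zero]
  let ψ : ∀ W, (pntFree g).obj W ⟶ B := fun W => Abelian.monoLift j (ρ W ≫ σ) (hσ W)
  have hψ : ∀ W, ψ W ≫ j = ρ W ≫ σ := fun W => Abelian.monoLift_comp j _ (hσ W)
  have hψres : ∀ {W W' : Set (UnivSp L)} (h : W ≤ W'), (pntFree g).map (homOfLE h) ≫ ψ W' = ψ W := fun {W W'} h => by
    rw [← cancel_mono j, Category.assoc, hψ, hψ, ← Category.assoc]
    refine congrArg (· ≫ σ) ?_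
    exact ((freeSh (topology (ust L))).map_comp _ _).symm.trans (congrArg (freeSh (topology (ust L))).map rfl)
  let γ := fun W => (Ext.mk₀ (ψ W)).comp Θ (zero_add _)
  have hγ : ∀ {W W' : Set (UnivSp L)} (h : W ≤ W'),
      NearExt.res (germSheaf (ust L) F) (pntFree g) h (m + 1) (γ W') = γ W := fun {W W'} h => by
    change (Ext.mk₀ ((pntFree g).map (homOfLE h))).comp ((Ext.mk₀ (ψ W')).comp Θ (zero_add _)) (zero_add _) = _
    rw [Ext.mk₀_comp_mk₀_assoc, hψres h]
  haveI := subsingleton_ext_pnt_singleton g hsurj x (germSheaf (ust L) F) m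
  have hx : ({x.1} : Set (UnivSp L)) ≤ Set.univ := Set.subset_univ _
  obtain ⟨W, ⟨hW, hxW⟩, hWu, hW0⟩ := (near_pntFree g hp hsep (injectiveResolution (germSheaf (ust L) F)) x (m + 1)).1
    Set.univ ⟨isOpen_univ, trivial⟩ hx (γ Set.univ) (Subsingleton.elim _ _)
  obtain ⟨h, hh⟩ := hlift _ (ψ W) (by rw [hγ hWu] at hW0; exact hW0)
  haveI : Mono (ρ W) := mono_freeSh_map (topology (ust L)) (pntIncl g W)
  let t : ((openCx R).X m).obj.obj (op b) :=
    CohFree.evalGen (topology (ust L)) b _ (Injective.factorThru h (ρ W))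
  let dt : ((openCx R).X (m + 1)).obj.obj (op b) := ((openCx R).d m (m + 1)).hom.app (op b) t
  have hdt : CohFree.ofSect (topology (ust L)) b ((openCx R).X (m + 1)) dt =
      Injective.factorThru h (ρ W) ≫ (openCx R).d m (m + 1) :=
    (ofSect_comp t _).symm.trans (congrArg (· ≫ (openCx R).d m (m + 1)) (CohFree.ofSect_evalGen (topology (ust L)) b _ _))
  have hz : ρ W ≫ CohFree.ofSect (topology (ust L)) b ((openCx R).X (m + 1)) (sb - dt) = 0 := by
    rw [show CohFree.ofSect (topology (ust L)) b ((openCx R).X (m + 1)) (sb - dt) =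
      σ - CohFree.ofSect (topology (ust L)) b ((openCx R).X (m + 1)) dt from
        map_sub (CohFree.homEquivSect (topology (ust L)) b _).symm sb dt, hdt, Preadditive.comp_sub,
      ← Category.assoc, Injective.comp_factorThru, ← hπj, reassoc_of% hh, hψ, sub_self]
  let e : ((openCx R).X (m + 1)).obj.obj (op (inter b W)) :=
    ((openCx R).X (m + 1)).obj.map (interIncl b W).op (sb - dt)
  have he : e = 0 := by
    let Z : Sieve (inter b W) :=
      { arrows := fun V f => (R.cocomplex.X (m + 1)).obj.map f.op e = 0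
        downward_closed := fun {V V' f} hf k => by
          change (R.cocomplex.X (m + 1)).obj.map (k ≫ f).op e = 0
          rw [op_comp, Functor.map_comp, ConcreteCategory.comp_apply, hf, map_zero] }
    refine sect_eq_zero_of_local (R.cocomplex.X (m + 1)) (a := inter b W) e Z
      (mem_ptop_of_cover (preTo g W) (isProperMap_preTo g hp W) (sepFibres_preTo g hsep W) (surjective_preTo g hsurj W) ?_)
      fun V f hf => hf
    change ((openCx R).X (m + 1)).obj.map (preTo g W).op e = 0
    rw [map_map, preTo_comp]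
    exact (freeSh_map_comp_eq_zero_iff (pntIncl g W) ((openCx R).X (m + 1)) (sb - dt)).1 hz
      (op (preObj g W)) ⟨preIncl g W ≫ g, fun v => v.2.2, preIncl g W, rfl⟩
  let u : inter a (O ∩ W) ⟶ inter b W := incl fun v hv => ⟨⟨hv.1, hv.2.1⟩, hv.2.2⟩
  refine ⟨O ∩ W, hO.inter hW, ⟨hwO, hxW⟩, ((openCx R).X m).obj.map (u ≫ interIncl b W).op t, ?_⟩
  refine (NatTrans.naturality_apply ((openCx R).d m (m + 1)).hom (u ≫ interIncl b W).op t).trans ?_
  have he' := congrArg (((openCx R).X (m + 1)).obj.map u.op) he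
  rw [map_zero, map_map, map_sub, sub_eq_zero, map_map] at he'
  exact he'.symm

theorem exact_openCx : ∀ m, (ShortComplex.mk _ _ (openCx_zero R m)).Exact := fun m => by
  induction m using Nat.strong_induction_on with
  | _ m ih =>
    refine exact_of_locally_boundary _ fun a s hs => ?_
    let Z : Sieve a :=
      { arrows := fun V f => ∃ t, ((openCx R).d m (m + 1)).hom.app (op V) t = ((openCx R).X (m + 1)).obj.map f.op s
        downward_closed := fun {V V' f} hf k => by
          obtain ⟨t, ht⟩ := hf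
          refine ⟨((openCx R).X m).obj.map k.op t, ?_⟩
          rw [NatTrans.naturality_apply, ht, map_map] }
    refine ⟨Z, fun w => ?_, fun V f hf => hf⟩
    obtain ⟨O, hO, hwO, t, ht⟩ := exists_nhd_boundary R ih s hs w
    exact ⟨O, hO, hwO, t, ht⟩

theorem isResolution_openCx :
    AcyclicRes.IsResolution (openCx R).X (fun k => (openCx R).d k (k + 1)) (openAug R) where
  mono := inferInstanceAs (Mono ((toOpen L).map (R.ι.f 0)))
  zero₀ := openAug_d R
  exact₀ := openCx_exact₀ R
  zero := openCx_zero R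
  exact := exact_openCx R

lemma isResolution_cocomplex :
    AcyclicRes.IsResolution R.cocomplex.X (fun k => R.cocomplex.d k (k + 1)) (R.ι.f 0) where
  mono := inferInstance
  zero₀ := R.ι_f_zero_comp_complex_d
  exact₀ := ShortComplex.exact_of_f_is_kernel _ R.isLimitKernelFork
  zero n := R.complex_d_comp n
  exact n := R.exact_succ n

variable (L F) in
/-- Ext groups out of objects do not depend on the topology. -/
theorem nonempty_ext_ptop_equiv (a : UObj L) (n : ℕ) :
    Nonempty (Ext (CohCx.freeSheaf (ptop L) a) (germP L F) n ≃+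
      Ext (CohCx.freeSheaf (topology (ust L)) a) (germSheaf (ust L) F) n) := by
  let R := injectiveResolution (germP L F)
  obtain ⟨e₁⟩ := AcyclicRes.nonempty_homology_equiv_ext (X := CohCx.freeSheaf (ptop L) a) R.cocomplex _
    (isResolution_cocomplex R) n fun k q _ => haveI := R.injective k; subsingleton_of_forall_eq 0 fun e => Ext.eq_zero_of_injective e
  obtain ⟨e₂⟩ := AcyclicRes.nonempty_homology_equiv_ext (X := CohCx.freeSheaf (topology (ust L)) a) (openCx R) _
    (isResolution_openCx R) n fun k q _ => haveI := injective_openCx R k; subsingleton_of_forall_eq 0 fun e => Ext.eq_zero_of_injective e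
  let ε : ∀ k, (CohCx.freeSheaf (ptop L) a ⟶ R.cocomplex.X k) ≃+
      (CohCx.freeSheaf (topology (ust L)) a ⟶ (openCx R).X k) := fun k =>
    (CohFree.homEquivSect (ptop L) a (R.cocomplex.X k)).trans (CohFree.homEquivSect (topology (ust L)) a ((openCx R).X k)).symm
  let i : ((preadditiveCoyoneda.obj (op (CohCx.freeSheaf (ptop L) a))).mapHomologicalComplex (ComplexShape.up ℕ)).obj R.cocomplex ≅
      ((preadditiveCoyoneda.obj (op (CohCx.freeSheaf (topology (ust L)) a))).mapHomologicalComplex (ComplexShape.up ℕ)).obj (openCx R) :=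
    HomologicalComplex.Hom.isoOfComponents (fun k => AddEquiv.toAddCommGrpIso (ε k)) fun k l _ =>
      ConcreteCategory.hom_ext _ _ fun f => by
        change CohFree.ofSect (topology (ust L)) a _ (CohFree.evalGen (ptop L) a _ f) ≫ (openCx R).d k l =
          CohFree.ofSect (topology (ust L)) a _ (CohFree.evalGen (ptop L) a _ (f ≫ R.cocomplex.d k l))
        rw [evalGen_comp, ofSect_comp]
        rfl
  exact ⟨(e₁.symm.trans ((HomologicalComplex.homologyMapIso i n).addCommGroupIsoToAddEquiv)).trans e₂⟩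

end Groth.Agent.CohTopBC.DescentSite
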