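import Mathlib
import Groth.Agent.CohTopBC.HyperCompare
import Groth.Agent.HTopHyper.Hyper.CechAcyclic
import Groth.Agent.HTopHyper.Hyper.Cosk

/-!
Descent along proper hypercoverings of topological spaces.
-/

set_option autoImplicit false
universe u

open CategoryTheory CategoryTheory.Limits Opposite TopologicalSpace Simplicial
open CategoryTheory.Abelian
open Groth.SiteCohomology
open Groth.HyperLib (IsTrivFib Loc augOf)
open Groth.Agent.CohDescent (hasSmallDerivedCategory hasDerivedCategoryOp exists_spectralSequence_of_isResolution isResolution_op nonempty_extOp_equiv)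

namespace Groth.Agent.CohTopBC.DescentSite

variable {S : TopCat.{u}} {L : ℕ → Over S}

/-- An object as a space over the base. -/
abbrev ovr (U : UObj L) : Over S := Over.mk (TopCat.ofHom ⟨U.base, U.continuous_base⟩ : U.space ⟶ S)

variable (L) in
/-- Objects are spaces over the base. -/
def ovrFun : UObj L ⥤ Over S where
  obj := ovr
  map f := Over.homMk (mapTop f) (TopCat.hom_ext (ContinuousMap.ext f.2))
  map_id _ := rfl
  map_comp _ _ := rfl

lemma bijective_ovr_comp {O : UObj L} {X : Over S} (φ : ovr O ≅ X) (U : UObj L) :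
    Function.Bijective fun k : U ⟶ O => (ovrFun L).map k ≫ φ.hom := by
  refine ⟨fun k k' e => ?_, fun q => ?_⟩
  · have e' : (ovrFun L).map k = (ovrFun L).map k' := (cancel_mono φ.hom).1 e
    exact hom_ext fun w => congrArg (fun r : ovr U ⟶ ovr O => (r.left w).1) e'
  · let k : U ⟶ O := ⟨(q ≫ φ.inv).left.hom, fun w => ConcreteCategory.congr_hom (Over.w (q ≫ φ.inv)) w⟩
    refine ⟨k, ?_⟩
    change (ovrFun L).map k ≫ φ.hom = q
    exact (Category.assoc q φ.inv φ.hom).trans ((congrArg (q ≫ ·) φ.inv_hom_id).trans (Category.comp_id q))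

theorem nonempty_ext_level_equiv {F : CohTop.Ab S} (O : UObj L) {T : TopCat.{u}} (e : O.carrier ≃ₜ T) (n : ℕ) :
    ∃ i : T ⟶ (ust L ()).left, (∀ z, (i ≫ (ust L ()).hom) z = O.base (e.symm z)) ∧
      ∃ hi : Topology.IsEmbedding i,
      Nonempty (Ext (CohCx.freeSheaf (ptop L) O) (germP L F) n ≃+
        CohTop.H ((res (str := ust L) (l := ()) hi).obj (germSheaf (ust L) F)) n) := by
  let i : T ⟶ (ust L ()).left := TopCat.ofHom ⟨fun z => (e.symm z).1, continuous_subtype_val.comp e.symm.continuous⟩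
  have hi : Topology.IsEmbedding i := Topology.IsEmbedding.subtypeVal.comp e.symm.isEmbedding
  refine ⟨i, fun z => rfl, hi, ?_⟩
  let κ : O ≅ (openFun (str := ust L) (l := ()) i).obj ⊤ :=
    { hom := incl fun v hv => ⟨e ⟨v, hv⟩, trivial, by
        change (e.symm (e ⟨v, hv⟩)).1 = v
        rw [e.symm_apply_apply]⟩
      inv := incl (by rintro _ ⟨z, -, rfl⟩; exact (e.symm z).2)
      hom_inv_id := rfl
      inv_hom_id := rfl }
  obtain ⟨e₁⟩ := nonempty_ext_ptop_equiv L F O n
  obtain ⟨e₂⟩ := nonempty_ext_emb (str := ust L) (l := ()) hi (germSheaf (ust L) F) n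
  exact ⟨(e₁.trans (extIsoLeft ((yoneda ⋙ freeSh (topology (ust L))).mapIso κ) (germSheaf (ust L) F) n).symm).trans e₂⟩

section Main

variable (K : SimplicialObject (Over S))

/-- The levels. -/
abbrev levels (n : ℕ) : Over S := K.obj (op ⦋n⦌)

/-- Maps into the levels. -/
noncomputable def hyperPsh : SimplicialObject ((UObj (levels K))ᵒᵖ ⥤ Type u) :=
  K ⋙ yoneda ⋙ (Functor.whiskeringLeft _ _ _).obj (ovrFun (levels K)).op

variable {K} {aS : UObj (levels K)} (hS : aS.carrier ≃ₜ S) (hhS : ∀ w, hS w = aS.base w)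

/-- The unique morphism to the base. -/
noncomputable def toBaseObj (U : UObj (levels K)) : U ⟶ aS :=
  ⟨(hS.symm : C(S, aS.carrier)).comp ⟨U.base, U.continuous_base⟩, fun w =>
    (hhS _).symm.trans (hS.apply_symm_apply _)⟩

include hhS in
lemma subsingleton_to_base (U : UObj (levels K)) : Subsingleton (U ⟶ aS) := ⟨fun k k' => hom_ext fun w =>
  congrArg Subtype.val (hS.injective (((hhS _).trans (k.2 w)).trans ((hhS _).trans (k'.2 w)).symm))⟩

/-- The augmentation. -/
noncomputable def hyperAug : hyperPsh K ⟶ (SimplicialObject.const _).obj (yoneda.obj aS) where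
  app n :=
    { app := fun U => ↾fun _ => toBaseObj hS hhS U.unop
      naturality := fun U V f => ConcreteCategory.hom_ext _ _ fun _ =>
        @Subsingleton.elim (V.unop ⟶ aS) (subsingleton_to_base hS hhS V.unop) _ _ }
  naturality n m θ := NatTrans.ext (funext fun U => ConcreteCategory.hom_ext _ _ fun _ =>
    @Subsingleton.elim (U.unop ⟶ aS) (subsingleton_to_base hS hhS U.unop) _ _)

variable
    [∀ (n : ℕ) (G : (SimplexCategory.Truncated n)ᵒᵖ ⥤ Over S),
      (SimplexCategory.Truncated.inclusion n).op.HasRightKanExtension G]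
    (h0c : IsProperMap (K.obj (op (SimplexCategory.mk 0))).hom)
    (h0s : ∀ x x' : (K.obj (op (SimplexCategory.mk 0))).left, (K.obj (op (SimplexCategory.mk 0))).hom x =
      (K.obj (op (SimplexCategory.mk 0))).hom x' → x ≠ x' →
      ∃ U V : Set (K.obj (op (SimplexCategory.mk 0))).left, IsOpen U ∧ IsOpen V ∧ x ∈ U ∧ x' ∈ V ∧ Disjoint U V)
    (h0j : Function.Surjective (K.obj (op (SimplexCategory.mk 0))).hom)
    (hc : ∀ n : ℕ, IsProperMap (((SimplicialObject.coskAdj n).unit.app K).app (op (SimplexCategory.mk (n + 1)))).left)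
    (hs : ∀ (n : ℕ) (x x' : (K.obj (op (SimplexCategory.mk (n + 1)))).left),
      (((SimplicialObject.coskAdj n).unit.app K).app (op (SimplexCategory.mk (n + 1)))).left x =
        (((SimplicialObject.coskAdj n).unit.app K).app (op (SimplexCategory.mk (n + 1)))).left x' → x ≠ x' →
      ∃ U V : Set (K.obj (op (SimplexCategory.mk (n + 1)))).left, IsOpen U ∧ IsOpen V ∧ x ∈ U ∧ x' ∈ V ∧ Disjoint U V)
    (hj : ∀ n : ℕ, Function.Surjective (((SimplicialObject.coskAdj n).unit.app K).app (op (SimplexCategory.mk (n + 1)))).left)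
include h0c h0s h0j hc hs hj

theorem isTrivFib_hyperAug : IsTrivFib (ptop (levels K)) (hyperAug hS hhS) := by
  have lv : ∀ n, ∃ O : UObj (levels K), Nonempty (ovr O ≅ K.obj (op ⦋n⦌)) := fun n => by
    obtain ⟨O, h, hh⟩ := exists_level (L := levels K) n
    exact ⟨O, ⟨Over.isoMk (TopCat.isoOfHomeo h) (TopCat.hom_ext (ContinuousMap.ext hh))⟩⟩
  refine ⟨fun W ℓ => ?_, fun W k ℓ x hx _ => ?_⟩
  · obtain ⟨O, ⟨φ⟩⟩ := lv 0
    let g : C(O.carrier, S) := (φ.hom.left ≫ (K.obj (op ⦋0⦌)).hom).hom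
    let h' : C(W.carrier, S) := ⟨W.base, W.continuous_base⟩
    have hg : ∀ z, id (g z) = O.base z := fun z => ConcreteCategory.congr_hom (Over.w φ.hom) z
    have hφ : Function.Bijective φ.hom.left := ConcreteCategory.bijective_of_isIso _
    obtain ⟨c, p₁, p₂, hsq, hinj, hex, -, hprop⟩ := exists_pullback g h' id hg fun _ => rfl
    have hgp : IsProperMap g := h0c.comp (TopCat.homeoOfIso ((Over.forget S).mapIso φ)).isProperMap
    refine ⟨Sieve.generate (Presieve.singleton p₂), mem_ptop_of_cover p₂ (hprop hgp) ?_ ?_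
      ⟨_, 𝟙 _, p₂, Presieve.singleton.mk, Category.id_comp _⟩, ?_⟩
    · intro z z' e hne
      have e₁ : (g (p₁.1 z)) = g (p₁.1 z') := ((hsq z).trans (congrArg h' e)).trans (hsq z').symm
      obtain ⟨U, V, hU, hV, hz, hz', hd⟩ := h0s _ _ e₁ fun e' => hne (hinj z z' (hφ.1 e') e)
      exact ⟨_, _, hU.preimage ((φ.hom.left.hom.continuous).comp p₁.1.continuous),
        hV.preimage ((φ.hom.left.hom.continuous).comp p₁.1.continuous), hz, hz', hd.preimage _⟩
    · intro y
      obtain ⟨z₀, hz₀⟩ := h0j (h' y)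
      obtain ⟨z, rfl⟩ := hφ.2 z₀
      obtain ⟨v, -, hv⟩ := hex z y hz₀
      exact ⟨v, hv⟩
    · rintro V g' ⟨_, m, _, ⟨⟩, rfl⟩
      exact ⟨(ovrFun _).map (m ≫ p₁) ≫ φ.hom, @Subsingleton.elim (V ⟶ aS) (subsingleton_to_base hS hhS V) _ _⟩
  · obtain ⟨fam, hfam, hδ⟩ := Groth.HyperLib.exists_fam x hx
    obtain ⟨a, ha, -⟩ := Groth.HyperLib.existsUnique_lift (n := k) K ⦋k + 1⦌ (W := ovr W)
      (fun l hl θ => fam l hl θ) (fun l l' hl hl' f θ => hfam l l' hl hl' f θ)
    obtain ⟨O, ⟨φ⟩⟩ := lv (k + 1)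
    let η := ((SimplicialObject.coskAdj k).unit.app K).app (op ⦋k + 1⦌)
    let Cx := ((SimplicialObject.truncation k ⋙ SimplicialObject.Truncated.cosk k).obj K).obj (op ⦋k + 1⦌)
    let g : C(O.carrier, Cx.left) := (φ.hom ≫ η).left.hom
    let h' : C(W.carrier, Cx.left) := a.left.hom
    obtain ⟨c, p₁, p₂, hsq, hinj, hex, -, hprop⟩ := exists_pullback g h' (fun z => Cx.hom z)
      (fun z => ConcreteCategory.congr_hom (Over.w (φ.hom ≫ η)) z) fun z => ConcreteCategory.congr_hom (Over.w a) z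
    have hφ : Function.Bijective φ.hom.left := ConcreteCategory.bijective_of_isIso _
    have hgp : IsProperMap g := (hc k).comp (TopCat.homeoOfIso ((Over.forget S).mapIso φ)).isProperMap
    refine ⟨Sieve.generate (Presieve.singleton p₂), mem_ptop_of_cover p₂ (hprop hgp) ?_ ?_
      ⟨_, 𝟙 _, p₂, Presieve.singleton.mk, Category.id_comp _⟩, ?_⟩
    · intro z z' e hne
      have e₁ : (g (p₁.1 z)) = g (p₁.1 z') := ((hsq z).trans (congrArg h' e)).trans (hsq z').symm
      obtain ⟨U, V, hU, hV, hz, hz', hd⟩ := hs k _ _ e₁ fun e' => hne (hinj z z' (hφ.1 e') e)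
      exact ⟨_, _, hU.preimage ((φ.hom.left.hom.continuous).comp p₁.1.continuous),
        hV.preimage ((φ.hom.left.hom.continuous).comp p₁.1.continuous), hz, hz', hd.preimage _⟩
    · intro y
      obtain ⟨z₀, hz₀⟩ := hj k (h' y)
      obtain ⟨z, rfl⟩ := hφ.2 z₀
      obtain ⟨v, -, hv⟩ := hex z y hz₀
      exact ⟨v, hv⟩
    · rintro V g' ⟨_, m, _, ⟨⟩, rfl⟩
      refine ⟨(ovrFun _).map (m ≫ p₁) ≫ φ.hom, @Subsingleton.elim (V ⟶ aS) (subsingleton_to_base hS hhS V) _ _, fun i => ?_⟩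
      have hsq' : (ovrFun (levels K)).map p₁ ≫ φ.hom ≫ η = (ovrFun (levels K)).map p₂ ≫ a :=
        Over.OverMorphism.ext (TopCat.hom_ext (ContinuousMap.ext hsq))
      change ((ovrFun (levels K)).map (m ≫ p₁) ≫ φ.hom) ≫ K.map (SimplexCategory.δ i).op =
        (ovrFun (levels K)).map (m ≫ p₂) ≫ x i
      rw [← hδ i, ← ha ⦋k⦌ le_rfl (SimplexCategory.δ i), ← Groth.HyperLib.unit_leg (n := k) K le_rfl (SimplexCategory.δ i),
        Functor.map_comp, Functor.map_comp, Category.assoc, Category.assoc, Category.assoc]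
      refine congrArg ((ovrFun (levels K)).map m ≫ ·) ?_
      exact (reassoc_of% hsq') (Groth.HyperLib.leg (n := k) K le_rfl (SimplexCategory.δ i))

theorem exists_proper_hypercovering_spectralSequence (F : CohTop.Ab S) :
    ∃ (E : CohomologicalSpectralSequence AddCommGrpCat.{u} 1)
      (a : SpSeq.Abutment E (fun n : ℤ =>
        if 0 ≤ n then AddCommGrpCat.of (CohTop.H F n.toNat) else AddCommGrpCat.of PUnit.{u + 1})),
      (∀ n, a.IsFinite n) ∧ SpSeq.IsBounded E ∧
      ∀ p q : ℤ, Nonempty ((E.page 1 le_rfl).X (p, q) ≅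
        (if 0 ≤ p ∧ 0 ≤ q then
          AddCommGrpCat.of (CohTop.H ((CohTop.pull (K.obj (op (SimplexCategory.mk p.toNat))).hom).obj F) q.toNat)
         else AddCommGrpCat.of PUnit.{u + 1})) := by
  obtain ⟨aS, hS, hhS⟩ := exists_baseObj (L := levels K)
  let A := PSh (levels K)
  let G := germP (levels K) F
  letI : HasDerivedCategory.{u} A := hasSmallDerivedCategory A
  letI : HasDerivedCategory.{u} Aᵒᵖ := hasDerivedCategoryOp A
  haveI : HasExt.{u} Aᵒᵖ := hasExt_of_hasDerivedCategory Aᵒᵖ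
  have haug : IsAugResolution (((SimplicialObject.Augmented.whiskering _ _).obj (freeSh (ptop (levels K)))).obj
      (augOf (hyperAug hS hhS))) :=
    Groth.HyperLib.isAugResolution_of_isTrivFib (isTrivFib_hyperAug hS hhS h0c h0s h0j hc hs hj)
  have hres := isResolution_op _ _ _ haug
  obtain ⟨E, a, ha, hb, hE⟩ := exists_spectralSequence_of_isResolution (op G) _ _ _ _ hres
    (fun n : ℤ => if 0 ≤ n then AddCommGrpCat.of (CohTop.H F n.toNat) else AddCommGrpCat.of PUnit.{u + 1})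
    (fun n => by
      by_cases hn : 0 ≤ n
      · rw [if_pos hn, if_pos hn]
        obtain ⟨e₁⟩ := nonempty_extOp_equiv ((freeSh (ptop (levels K))).obj (yoneda.obj aS)) n.toNat G
        obtain ⟨i, hi', hi, ⟨e₂⟩⟩ := nonempty_ext_level_equiv (F := F) aS hS n.toNat
        obtain ⟨e₃⟩ := nonempty_iso_res_of_id (str := ust (levels K)) (F := F) () i hi
          (TopCat.hom_ext (ContinuousMap.ext fun z => (hi' z).trans ((hhS _).symm.trans (hS.apply_symm_apply z))))
        exact ⟨AddEquiv.toAddCommGrpIso ((e₁.trans e₂).trans (extIsoRight e₃.symm _ n.toNat))⟩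
      · rw [if_neg hn, if_neg hn]
        exact ⟨Iso.refl _⟩)
  refine ⟨E, a, ha, hb, fun p q => ?_⟩
  obtain ⟨e₀⟩ := hE p q
  by_cases h : 0 ≤ p ∧ 0 ≤ q
  · rw [if_pos h] at e₀ ⊢
    obtain ⟨O, h', hh'⟩ := exists_level (L := levels K) p.toNat
    let φ : ovr O ≅ K.obj (op ⦋p.toNat⦌) := Over.isoMk (TopCat.isoOfHomeo h') (TopCat.hom_ext (ContinuousMap.ext hh'))
    let κ : yoneda.obj O ≅ (hyperPsh K).obj (op ⦋p.toNat⦌) :=
      NatIso.ofComponents (fun U => Equiv.toIso (Equiv.ofBijective _ (bijective_ovr_comp φ U.unop)))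
        fun {U V} f => ConcreteCategory.hom_ext _ _ fun k =>
          (congrArg (· ≫ φ.hom) ((ovrFun (levels K)).map_comp f.unop k)).trans
            (Category.assoc ((ovrFun (levels K)).map f.unop) ((ovrFun (levels K)).map k) φ.hom)
    obtain ⟨e₁⟩ := nonempty_extOp_equiv ((freeSh (ptop (levels K))).obj ((hyperPsh K).obj (op ⦋p.toNat⦌))) q.toNat G
    obtain ⟨i, hi', hi, ⟨e₂⟩⟩ := nonempty_ext_level_equiv (F := F) O h' q.toNat
    obtain ⟨e₃⟩ := nonempty_pullIso (str := ust (levels K)) (l := ()) F (i := i) hi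
    have e : i ≫ (ust (levels K) ()).hom = (K.obj (op ⦋p.toNat⦌)).hom := TopCat.hom_ext (ContinuousMap.ext fun z =>
      (hi' z).trans ((hh' _).symm.trans (congrArg (K.obj (op ⦋p.toNat⦌)).hom (h'.apply_symm_apply z))))
    rw [e] at e₃
    exact ⟨e₀ ≪≫ AddEquiv.toAddCommGrpIso
      (((e₁.trans (extIsoLeft ((freeSh (ptop (levels K))).mapIso κ) G q.toNat)).trans e₂).trans
        (extIsoRight e₃.symm _ q.toNat))⟩
  · rw [if_neg h] at e₀ ⊢
    exact ⟨e₀⟩

end Main

end Groth.Agent.CohTopBC.DescentSite
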