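import Mathlib
import Groth.Agent.CohTopBC.Fibre
import Groth.Agent.SpectralTopology.Spectral

/-!
Germ families along intersections of quasi-compact opens in spectral spaces, and acyclicity of
sheaves whose sections extend from quasi-compact opens.
-/

set_option autoImplicit false
universe u

open CategoryTheory CategoryTheory.Limits Opposite TopologicalSpace
open CategoryTheory.Abelian
open scoped Topology
open Groth.SiteCohomology
open Groth.Agent.CohDescent (gm gm_res gm_eq gm_map gm_surjective sect_ext tau tau_gm bijective_tau pb)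

namespace Groth.Agent.CohTopBC

variable {X T : TopCat.{u}}

/-- The subset is an intersection of quasi-compact opens. -/
def IsQcInter (K : Set X) : Prop := ∀ x ∉ K, ∃ N : Set X, IsOpen N ∧ IsCompact N ∧ K ⊆ N ∧ x ∉ N

lemma isOpen_gm_eq (G : CohTop.Ab X) {U V : Opens X} (s : G.obj.obj (op U)) (t : G.obj.obj (op V)) :
    IsOpen {z | ∃ (hU : z ∈ U) (hV : z ∈ V), gm G z U hU s = gm G z V hV t} :=
  isOpen_iff_forall_mem_open.2 fun z ⟨hU, hV, e⟩ => by
    rw [← gm_res G z (inf_le_left : U ⊓ V ≤ U) ⟨hU, hV⟩, ← gm_res G z (inf_le_right : U ⊓ V ≤ V) ⟨hU, hV⟩] at e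
    obtain ⟨N, hN, hzN, e'⟩ := gm_eq G z _ _ _ e
    refine ⟨N, fun w hw => ⟨(hN hw).1, (hN hw).2, ?_⟩, N.2, hzN⟩
    rw [← gm_res G w (inf_le_left : U ⊓ V ≤ U) (hN hw), ← gm_res G w (inf_le_right : U ⊓ V ≤ V) (hN hw),
      ← gm_res G w hN hw, ← gm_res G w hN hw]
    exact congrArg _ e'

section QcInter

variable [SpectralSpace X] {K : Set X} (hK : IsQcInter K)
include hK

/-- A constructibly closed set missing the subset misses a quasi-compact open neighbourhood. -/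
theorem exists_nhd_disjoint {C : Set X} (hC : IsClosed[constructibleTopology X] C) (h : K ∩ C = ∅) :
    ∃ N : Set X, IsOpen N ∧ IsCompact N ∧ K ⊆ N ∧ N ∩ C = ∅ := by
  classical
  by_contra hne
  push_neg at hne
  let ι := {N : Set X // IsOpen N ∧ IsCompact N ∧ K ⊆ N}
  have hfin : ∀ u : Finset ι, ∃ N : ι, ∀ M ∈ u, N.1 ⊆ M.1 := fun u => by
    induction u using Finset.induction with
    | empty => exact ⟨⟨Set.univ, isOpen_univ, isCompact_univ, Set.subset_univ _⟩, by simp⟩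
    | insert a u _ ih =>
      obtain ⟨N, hN⟩ := ih
      refine ⟨⟨a.1 ∩ N.1, a.2.1.inter N.2.1,
        QuasiSeparatedSpace.inter_isCompact _ _ a.2.1 a.2.2.1 N.2.1 N.2.2.1,
        Set.subset_inter a.2.2.2 N.2.2.2⟩, fun M hM => ?_⟩
      rcases Finset.mem_insert.1 hM with rfl | hM
      · exact Set.inter_subset_left
      · exact Set.inter_subset_right.trans (hN M hM)
  obtain ⟨x, hx⟩ := Groth.SpectralTopology.nonempty_iInter_ct (ι := Option ι) (fun o => o.elim C Subtype.val)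
    (fun o => by
      cases o with
      | none => exact hC
      | some N => exact Groth.SpectralTopology.isClosed_ct N.2.1 N.2.2.1) (fun u => by
    obtain ⟨N, hN⟩ := hfin u.eraseNone
    obtain ⟨z, hz⟩ := hne N.1 N.2.1 N.2.2.1 N.2.2.2
    refine ⟨z, Set.mem_iInter₂.2 fun o ho => ?_⟩
    cases o with
    | none => exact hz.2
    | some M => exact hN M (Finset.mem_eraseNone.2 ho) hz.1)
  simp only [Set.mem_iInter] at hx
  have hxK : x ∉ K := fun h' => (Set.eq_empty_iff_forall_notMem.1 h) x ⟨h', hx none⟩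
  obtain ⟨N, hNo, hNc, hKN, hxN⟩ := hK x hxK
  exact hxN (hx (some ⟨N, hNo, hNc, hKN⟩))

/-- An open set containing the trace of a quasi-compact open contains a trace of a nearby open. -/
theorem exists_nhd_inter_subset {U : Set X} (hUo : IsOpen U) (hUc : IsCompact U) {E : Set X} (hE : IsOpen E)
    (h : K ∩ U ⊆ E) : ∃ N : Set X, IsOpen N ∧ IsCompact N ∧ K ⊆ N ∧ N ∩ U ⊆ E := by
  obtain ⟨N, h1, h2, h3, h4⟩ := exists_nhd_disjoint hK (C := U ∩ Eᶜ)
    (@IsClosed.inter X _ _ (constructibleTopology X) (Groth.SpectralTopology.isClosed_ct hUo hUc)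
      (Groth.SpectralTopology.isClosed_ct_of_isClosed hE.isClosed_compl))
    (Set.eq_empty_iff_forall_notMem.2 fun x ⟨hxK, hxU, hxE⟩ => hxE (h ⟨hxK, hxU⟩))
  exact ⟨N, h1, h2, h3, fun x ⟨hxN, hxU⟩ => by_contra fun hxE =>
    (Set.eq_empty_iff_forall_notMem.1 h4) x ⟨hxN, hxU, hxE⟩⟩

theorem isClosed_ct_of_isQcInter : IsClosed[constructibleTopology X] K := by
  have : K = ⋂ N : {N : Set X // IsOpen N ∧ IsCompact N ∧ K ⊆ N}, N.1 := by
    refine Set.Subset.antisymm (Set.subset_iInter fun N => N.2.2.2) fun x hx => by_contra fun hxK => ?_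
    obtain ⟨N, h1, h2, h3, h4⟩ := hK x hxK
    exact h4 (Set.mem_iInter.1 hx ⟨N, h1, h2, h3⟩)
  rw [this]
  exact @isClosed_iInter X _ (constructibleTopology X) _ fun N => Groth.SpectralTopology.isClosed_ct N.2.1 N.2.2.1

/-- A family of germs along the trace of an open extends to a neighbourhood. -/
theorem exists_extend_qcInter (G : CohTop.Ab X) (U₀ : Opens X) (hc : IsCompact (K ∩ U₀))
    (a : ∀ z ∈ K ∩ U₀, (sfib z).obj G) (ha : LocRep G (K ∩ U₀) a) :
    ∃ (V : Opens X) (hV : K ∩ U₀ ⊆ V) (s : G.obj.obj (op V)), ∀ z (hz : z ∈ K ∩ U₀), gm G z V (hV hz) s = a z hz := by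
  classical
  let P : Set X → Prop := fun U => IsOpen U ∧ IsCompact U ∧ U ⊆ U₀ ∧
    ∃ (N : Set X), IsOpen N ∧ IsCompact N ∧ K ⊆ N ∧ ∃ (W : Opens X) (hW : (W : Set X) = U ∩ N)
      (s : G.obj.obj (op W)), ∀ z (hz : z ∈ K ∩ U₀) (hzW : z ∈ W), gm G z W hzW s = a z hz
  have hloc : ∀ x ∈ K ∩ (U₀ : Set X), ∃ U, P U ∧ x ∈ U := fun x hx => by
    obtain ⟨O, s, hxO, hs⟩ := ha x hx
    obtain ⟨U, ⟨hUo, hUc⟩, hxU, hUO⟩ :=
      PrespectralSpace.isTopologicalBasis.exists_subset_of_mem_open (show x ∈ (O ⊓ U₀ : Opens X) from ⟨hxO, hx.2⟩)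
        (O ⊓ U₀).2
    refine ⟨U, ⟨hUo, hUc, fun z hz => (hUO hz).2, Set.univ, isOpen_univ, isCompact_univ, Set.subset_univ _,
      ⟨U, hUo⟩, (Set.inter_univ U).symm, G.obj.map (homOfLE fun z hz => (hUO hz).1).op s, fun z hz hzW => ?_⟩, hxU⟩
    rw [gm_res]
    exact hs z hz _
  have hunion : ∀ U V, P U → P V → P (U ∪ V) := by
    rintro U V ⟨hUo, hUc, hU₀, N, hNo, hNc, hKN, W, hW, s, hs⟩ ⟨hVo, hVc, hV₀, M, hMo, hMc, hKM, W', hW', t, ht⟩
    let E : Set X := {z | ∃ (hU : z ∈ W) (hV : z ∈ W'), gm G z W hU s = gm G z W' hV t}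
    obtain ⟨L, hLo, hLc, hKL, hLE⟩ := exists_nhd_inter_subset hK (hUo.inter hVo)
      (QuasiSeparatedSpace.inter_isCompact _ _ hUo hUc hVo hVc) (isOpen_gm_eq G s t) fun z ⟨hzK, hzU, hzV⟩ => by
        have h1 : z ∈ W := show z ∈ (W : Set X) from hW ▸ ⟨hzU, hKN hzK⟩
        have h2 : z ∈ W' := show z ∈ (W' : Set X) from hW' ▸ ⟨hzV, hKM hzK⟩
        exact ⟨h1, h2, (hs z ⟨hzK, hU₀ hzU⟩ h1).trans (ht z ⟨hzK, hU₀ hzU⟩ h2).symm⟩
    let W₁ : Opens X := W ⊓ ⟨M ∩ L, hMo.inter hLo⟩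
    let W₂ : Opens X := W' ⊓ ⟨N ∩ L, hNo.inter hLo⟩
    obtain ⟨r, hr1, hr2⟩ := exists_glue_pair G (U := W₁) (V := W₂) (G.obj.map (homOfLE inf_le_left).op s)
      (G.obj.map (homOfLE inf_le_left).op t) fun z hz hz' => by
        obtain ⟨_, _, e⟩ := hLE ⟨hz.2.2, ((Set.ext_iff.1 hW z).1 hz.1).1, ((Set.ext_iff.1 hW' z).1 hz'.1).1⟩
        rw [gm_res, gm_res]
        exact e
    refine ⟨hUo.union hVo, hUc.union hVc, Set.union_subset hU₀ hV₀, N ∩ M ∩ L, (hNo.inter hMo).inter hLo,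
      QuasiSeparatedSpace.inter_isCompact _ _ (hNo.inter hMo) (QuasiSeparatedSpace.inter_isCompact _ _ hNo hNc hMo hMc)
        hLo hLc, Set.subset_inter (Set.subset_inter hKN hKM) hKL, W₁ ⊔ W₂, ?_, r, fun z hz hzW => ?_⟩
    · change ((W : Set X) ∩ (M ∩ L)) ∪ ((W' : Set X) ∩ (N ∩ L)) = _
      rw [hW, hW']
      ext z
      simp only [Set.mem_union, Set.mem_inter_iff]
      tauto
    · rcases hzW with h | h
      · exact (hr1 z h).trans ((gm_res G z inf_le_left h s).trans (hs z hz h.1))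
      · exact (hr2 z h).trans ((gm_res G z inf_le_left h t).trans (ht z hz h.1))
  have hempty : P ∅ := ⟨isOpen_empty, isCompact_empty, Set.empty_subset _, Set.univ, isOpen_univ, isCompact_univ,
    Set.subset_univ _, ⊥, by simp, 0, fun z _ h => h.elim⟩
  obtain ⟨U, hPU, hsub⟩ := hc.induction_on (p := fun S => ∃ U, P U ∧ S ⊆ U) ⟨∅, hempty, subset_rfl⟩
    (fun S S' h ⟨U, hU, hS⟩ => ⟨U, hU, h.trans hS⟩)
    (fun S S' ⟨U, hU, hS⟩ ⟨V, hV, hS'⟩ => ⟨U ∪ V, hunion U V hU hV, Set.union_subset_union hS hS'⟩)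
    (fun x hx => by
      obtain ⟨U, hU, hxU⟩ := hloc x hx
      exact ⟨U, mem_nhdsWithin_of_mem_nhds (hU.1.mem_nhds hxU), U, hU, subset_rfl⟩)
  obtain ⟨-, -, -, N, -, -, hKN, W, hW, s, hs⟩ := hPU
  exact ⟨W, fun z hz => hW ▸ ⟨hsub hz, hKN hz.1⟩, s, fun z hz => hs z hz _⟩

end QcInter

/-- Sections over quasi-compact opens extend to global sections. -/
def IsQcSoft (G : CohTop.Ab T) : Prop :=
  ∀ (U : Opens T), IsCompact (U : Set T) → Function.Surjective (G.obj.map (homOfLE (le_top : U ≤ ⊤)).op)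

/-- The inverse image of a flasque sheaf to an intersection of quasi-compact opens. -/
theorem isQcSoft_pull_flasque [SpectralSpace X] (i : T ⟶ X) (hi : Topology.IsEmbedding i)
    (hK : IsQcInter (Set.range i)) (F : CohTop.Ab X) [TopCat.Sheaf.IsFlasque F] :
    IsQcSoft ((CohTop.pull i).obj F) := by
  intro U hU t
  obtain ⟨b, hb, hbt⟩ := exists_locRep_down hi F (A := (U : Set T))
    (fun z hz => gm ((CohTop.pull i).obj F) z U hz t) (locRep_section _ subset_rfl t)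
  obtain ⟨B, hB, hBU⟩ := hi.isInducing.isOpen_iff.1 U.2
  have hsub : Set.range i ∩ B ⊆ i '' (U : Set T) := by
    rintro _ ⟨⟨z, rfl⟩, hz⟩
    exact ⟨z, (Set.ext_iff.1 hBU z).1 hz, rfl⟩
  have hsub' : i '' (U : Set T) ⊆ Set.range i ∩ B := by
    rintro _ ⟨z, hz, rfl⟩
    exact ⟨⟨z, rfl⟩, (Set.ext_iff.1 hBU z).2 hz⟩
  have hc : IsCompact (Set.range i ∩ B) := hsub.antisymm hsub' ▸ hU.image i.hom.continuous
  obtain ⟨V, hV, s, hs⟩ := exists_extend_qcInter hK F ⟨B, hB⟩ hc _ (locRep_mono hb hsub)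
  obtain ⟨S, hS⟩ := (isFlasque_iff_surjective F).1 ‹_› (homOfLE (le_top : V ≤ ⊤)) s
  refine ⟨pb i F ⊤ S, sect_ext _ _ fun z hz => ?_⟩
  have hz' : i z ∈ Set.range i ∩ B := hsub' ⟨z, hz, rfl⟩
  refine (gm_res _ z le_top hz _).trans ?_
  rw [← hbt z hz, ← hs (i z) hz', ← hS, gm_res]
  exact (tau_gm i F rfl ⊤ trivial S).symm

section Acyclic

variable [CompactSpace T] [PrespectralSpace T] [QuasiSeparatedSpace T]

theorem exists_lift_qc {S : ShortComplex (CohTop.Ab T)} (hS : S.ShortExact) (h₁ : IsQcSoft S.X₁) (U : Opens T)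
    (hU : IsCompact (U : Set T)) (t : S.X₃.obj.obj (op U)) :
    ∃ g : S.X₂.obj.obj (op U), S.g.hom.app (op U) g = t := by
  let P : Set T → Prop := fun V => IsOpen V ∧ IsCompact V ∧ ∃ (W : Opens T) (_ : (W : Set T) = V) (hWU : W ≤ U)
    (g : S.X₂.obj.obj (op W)), S.g.hom.app (op W) g = S.X₃.obj.map (homOfLE hWU).op t
  have hloc : ∀ x ∈ (U : Set T), ∃ V, P V ∧ x ∈ V := fun x hx => by
    obtain ⟨b, hb⟩ := exists_stalk_lift hS x (gm S.X₃ x U hx t)
    obtain ⟨O, hxO, g, rfl⟩ := gm_surjective S.X₂ x b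
    rw [gm_map, ← gm_res _ _ (inf_le_left : O ⊓ U ≤ O) ⟨hxO, hx⟩, ← gm_res _ _ (inf_le_right : O ⊓ U ≤ U) ⟨hxO, hx⟩ t] at hb
    obtain ⟨N, hN, hxN, e⟩ := gm_eq _ _ _ _ _ hb
    obtain ⟨V, ⟨hVo, hVc⟩, hxV, hVN⟩ := PrespectralSpace.isTopologicalBasis.exists_subset_of_mem_open
      (show x ∈ (N : Set T) from hxN) N.2
    refine ⟨V, ⟨hVo, hVc, ⟨V, hVo⟩, rfl, fun z hz => (hN (hVN hz)).2,
      S.X₂.obj.map (homOfLE fun z hz => (hN (hVN hz)).1).op g, ?_⟩, hxV⟩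
    refine sect_ext _ _ fun z hz => ?_
    rw [← gm_map, gm_res, gm_map, gm_res, ← gm_res _ _ (inf_le_left : O ⊓ U ≤ O) (hN (hVN hz)),
      ← gm_res _ _ (inf_le_right : O ⊓ U ≤ U) (hN (hVN hz)) t, ← gm_res _ _ hN (hVN hz), ← gm_res _ _ hN (hVN hz)]
    exact congrArg _ e
  have hunion : ∀ A B, P A → P B → P (A ∪ B) := by
    rintro A B ⟨hAo, hAc, W, rfl, hWU, g, hg⟩ ⟨hBo, hBc, W', rfl, hWU', g', hg'⟩
    let d : S.X₂.obj.obj (op (W ⊓ W')) :=
      S.X₂.obj.map (homOfLE inf_le_left).op g - S.X₂.obj.map (homOfLE inf_le_right).op g'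
    have hd : S.g.hom.app (op (W ⊓ W')) d = 0 := sect_ext _ _ fun z hz => by
      rw [← gm_map, map_sub, map_sub, gm_res, gm_res, gm_map, gm_map, hg, hg', gm_res, gm_res, sub_self, map_zero]
    obtain ⟨e, he⟩ := exists_preimage_section hS d hd
    obtain ⟨e', he'⟩ := h₁ (W ⊓ W') (QuasiSeparatedSpace.inter_isCompact _ _ hAo hAc hBo hBc) e
    let g'' : S.X₂.obj.obj (op W') := g' + S.X₂.obj.map (homOfLE le_top).op (S.f.hom.app (op ⊤) e')
    obtain ⟨r, hr1, hr2⟩ := exists_glue_pair S.X₂ g g'' fun z hz hz' => by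
      have h0 : gm S.X₂ z (W ⊓ W') ⟨hz, hz'⟩ (S.f.hom.app (op (W ⊓ W')) e) = gm S.X₂ z ⊤ trivial (S.f.hom.app (op ⊤) e') := by
        rw [← he', ← gm_map, gm_res, gm_map]
      rw [map_add, gm_res, ← h0, he, map_sub, gm_res, gm_res]
      abel
    refine ⟨hAo.union hBo, hAc.union hBc, W ⊔ W', rfl, sup_le hWU hWU', r, sect_ext _ _ fun z hz => ?_⟩
    rw [← gm_map, gm_res]
    rcases hz with hz | hz
    · rw [hr1 z hz, gm_map, hg, gm_res]
    · have h0 : (sfib z).map S.g ((sfib z).map S.f (gm S.X₁ z ⊤ trivial e')) = 0 := by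
        rw [← ConcreteCategory.comp_apply, ← Functor.map_comp, S.zero, Functor.map_zero]
        rfl
      rw [hr2 z hz, map_add, map_add, gm_res, ← gm_map S.f, h0, add_zero, gm_map, hg', gm_res]
  obtain ⟨V, ⟨-, -, W, rfl, hWU, g, hg⟩, hsub⟩ := hU.induction_on (p := fun A => ∃ V, P V ∧ A ⊆ V)
    ⟨∅, ⟨isOpen_empty, isCompact_empty, ⊥, rfl, bot_le, 0, sect_ext _ _ fun z hz => hz.elim⟩, subset_rfl⟩
    (fun A A' h ⟨V, hV, hA⟩ => ⟨V, hV, h.trans hA⟩)
    (fun A A' ⟨V, hV, hA⟩ ⟨V', hV', hA'⟩ => ⟨V ∪ V', hunion V V' hV hV', Set.union_subset_union hA hA'⟩)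
    (fun x hx => by
      obtain ⟨V, hV, hxV⟩ := hloc x hx
      exact ⟨V, mem_nhdsWithin_of_mem_nhds (hV.1.mem_nhds hxV), V, hV, subset_rfl⟩)
  obtain rfl : W = U := le_antisymm hWU hsub
  refine ⟨g, hg.trans ?_⟩
  rw [show (homOfLE hWU).op = 𝟙 (op W) from rfl, S.X₃.obj.map_id]
  rfl

/-- Sheaves whose sections extend from quasi-compact opens are acyclic. -/
theorem subsingleton_ext_free_of_qcSoft (n : ℕ) (F : CohTop.Ab T) (hF : IsQcSoft F) :
    Subsingleton (Ext (CohCx.freeSheaf (Opens.grothendieckTopology T) (⊤ : Opens T)) F (n + 1)) := by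
  refine subsingleton_ext_succ_of_class _ (fun F : CohTop.Ab T => IsQcSoft F) ?_ ?_ n F hF
  · intro _ S hS hF h _
    subst h
    exact (surjective_sections_iff_lift S.g).1 fun t => exists_lift_qc hS hF ⊤ (by simpa using isCompact_univ) t
  · intro _ S hS hF h hI U hU t
    subst h
    haveI := hI
    haveI := isFlasque_of_injective S.X₂
    obtain ⟨g, rfl⟩ := exists_lift_qc hS hF U hU t
    obtain ⟨g', rfl⟩ := (isFlasque_iff_surjective S.X₂).1 inferInstance (homOfLE (le_top : U ≤ ⊤)) g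
    exact ⟨S.g.hom.app (op ⊤) g', (NatTrans.naturality_apply S.g.hom (homOfLE (le_top : U ≤ ⊤)).op g').symm⟩

end Acyclic

end Groth.Agent.CohTopBC
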